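import Groth.Agent.RedSub.H650.QuotPts
import Groth.Agent.RedSub.H657.FacLoc
import Groth.Agent.S0114
import Groth.Agent.S1128

/-!
# Tools for fppf quotients by subgroups, in terms of points
-/

set_option autoImplicit false
universe u

open CategoryTheory MonoidalCategory CartesianMonoidalCategory MonObj GrpObj AlgebraicGeometry Limits

namespace K199.QuotTools

open Groth.Agent.RedSub.H650.QuotPts

variable {S : Scheme.{u}}

/-- `p` is an fppf covering -/
structure Fppf {X Y : Over S} (p : X ⟶ Y) : Prop where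
  surj : Surjective p.left
  flat : Flat p.left
  lfp : LocallyOfFinitePresentation p.left

namespace Fppf

variable {X Y Z : Over S}

theorem epi {p : X ⟶ Y} (h : Fppf p) : Epi p := by
  have h1 := h.surj
  have h2 := h.flat
  have : Epi p.left := Flat.epi_of_flat_of_surjective p.left
  exact Over.epi_of_epi_left p

theorem comp {p : X ⟶ Y} {q : Y ⟶ Z} (h : Fppf p) (h' : Fppf q) : Fppf (p ≫ q) := by
  obtain ⟨h1, h2, h3⟩ := h
  obtain ⟨h4, h5, h6⟩ := h'
  exact ⟨by rw [Over.comp_left]; infer_instance, by rw [Over.comp_left]; infer_instance,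
    by rw [Over.comp_left]; infer_instance⟩

/-- points lift along fppf coverings, after an fppf covering -/
theorem exists_lift {p : X ⟶ Y} (h : Fppf p) {T : Over S} (a : T ⟶ Y) :
    ∃ (T' : Over S) (r : T' ⟶ T) (a' : T' ⟶ X), Fppf r ∧ a' ≫ p = r ≫ a := by
  obtain ⟨h1, h2, h3⟩ := h
  refine ⟨Over.mk (pullback.snd p.left a.left ≫ T.hom), Over.homMk (pullback.snd p.left a.left),
    Over.homMk (pullback.fst p.left a.left) ?_, ⟨?_, ?_, ?_⟩, ?_⟩
  · change pullback.fst p.left a.left ≫ X.hom = pullback.snd p.left a.left ≫ T.hom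
    rw [← Over.w p, ← Category.assoc, pullback.condition, Category.assoc, Over.w a]
  · change Surjective (pullback.snd p.left a.left)
    infer_instance
  · change Flat (pullback.snd p.left a.left)
    infer_instance
  · change LocallyOfFinitePresentation (pullback.snd p.left a.left)
    infer_instance
  · apply Over.OverMorphism.ext
    exact pullback.condition

/-- factoring through a monomorphism can be checked after an fppf covering -/
theorem exists_fac {p : X ⟶ Y} (h : Fppf p) {W : Over S} (i : W ⟶ Z) [Mono i] (x : Y ⟶ Z)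
    (hz : ∃ z : X ⟶ W, z ≫ i = p ≫ x) : ∃ z : Y ⟶ W, z ≫ i = x := by
  obtain ⟨h1, h2, h3⟩ := h
  have hi : Mono i.left := inferInstanceAs (Mono ((Over.forget S).map i))
  obtain ⟨z, hz⟩ := hz
  obtain ⟨w, hw⟩ := Groth.Agent.RedSub.H657.FacLoc.exists_fac_of_cover p.left x.left i.left
    ⟨z.left, by rw [← Over.comp_left, hz, Over.comp_left]⟩
  refine ⟨Over.homMk w ?_, Over.OverMorphism.ext hw⟩
  rw [← Over.w i, ← Category.assoc, hw, Over.w]

/-- cancellation: if `p` and `p ≫ q` are fppf coverings so is `q` -/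
theorem of_comp {p : X ⟶ Y} {q : Y ⟶ Z} (h : Fppf p) (h' : Fppf (p ≫ q)) : Fppf q := by
  obtain ⟨h1, h2, h3⟩ := h
  obtain ⟨h4, h5, h6⟩ := h'
  rw [Over.comp_left] at h4 h5 h6
  refine ⟨?_, Groth.Agent.S1128.result p.left q.left, Groth.Agent.S0114.result p.left q.left⟩
  exact Surjective.of_comp p.left q.left

end Fppf

/-- the kernel pair of a homomorphism in terms of its kernel -/
theorem ptQuot_of_isKernel {G C D : Over S} [GrpObj G] [GrpObj C] [GrpObj D] (f : G ⟶ C) [IsMonHom f] {d : D ⟶ G}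
    (hker : AlgGrp.IsKernel d f) : PtQuot d f := by
  intro T a b
  constructor
  · intro h
    have h1 : (a⁻¹ * b) ≫ f = toUnit T ≫ η[C] := by
      rw [MonObj.mul_comp, GrpObj.inv_comp, h, inv_mul_cancel]
      rfl
    refine ⟨hker.lift (a⁻¹ * b) (toUnit T) h1, ?_⟩
    rw [hker.lift_fst]
    group
  · rintro ⟨y, rfl⟩
    have h1 : (y ≫ d) ≫ f = 1 := by
      rw [Category.assoc, hker.w, ← Category.assoc]
      have : y ≫ toUnit D = toUnit T := toUnit_unique _ _
      rw [this]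
      rfl
    rw [MonObj.mul_comp, h1, _root_.mul_one]

/-- a homomorphism which is an fppf covering is the quotient by its kernel -/
theorem isQuotient_of_isKernel {G C D : Over S} [GrpObj G] [GrpObj C] [GrpObj D] (f : G ⟶ C) [IsMonHom f]
    {d : D ⟶ G} [Mono d] (hker : AlgGrp.IsKernel d f) (hf : Fppf f) : RedSub.IsQuotient d f :=
  ⟨hf.surj, hf.flat, hf.lfp, isPullback_of_ptQuot (ptQuot_of_isKernel f hker)⟩

theorem fppf_of_isQuotient {G D Q : Over S} [GrpObj G] [GrpObj D] {d : D ⟶ G} {q : G ⟶ Q}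
    (h : RedSub.IsQuotient d q) : Fppf q := ⟨h.1, h.2.1, h.2.2.1⟩

theorem ptQuot_of_isQuotient {G D Q : Over S} [GrpObj G] [GrpObj D] {d : D ⟶ G} {q : G ⟶ Q}
    (h : RedSub.IsQuotient d q) : PtQuot d q := ptQuot_of_isPullback h.2.2.2

/-- **Third isomorphism theorem**: `G ⟶ C` the quotient by `D`, `H` a subgroup of `G` containing `D` with image
`T'' ⊆ C`, `q : G ⟶ Q` the quotient of `G` by `H`: then `Q` is the quotient of `C` by `T''`. -/
theorem exists_quotient_desc {G C D T'' H Q : Over S} [GrpObj G] [GrpObj C] [GrpObj D] [GrpObj T''] [GrpObj H]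
    {d : D ⟶ G} (f₀ : G ⟶ C) [IsMonHom f₀] (hquot : RedSub.IsQuotient d f₀) (t : T'' ⟶ C) [Mono t]
    (k : H ⟶ G) (g : H ⟶ T'') (hw : k ≫ f₀ = g ≫ t) (hg : Fppf g) (e : D ⟶ H) (he : e ≫ k = d)
    (q : G ⟶ Q) (hq : RedSub.IsQuotient k q) :
    ∃ q' : C ⟶ Q, f₀ ≫ q' = q ∧ RedSub.IsQuotient t q' := by
  obtain ⟨q', hq'⟩ := exists_desc hquot q fun T a y => by
    have h1 : y ≫ d = (y ≫ e) ≫ k := by rw [Category.assoc, he]
    rw [h1]
    exact Groth.Agent.RedSub.H650.QuotPts.mul_comp hq a (y ≫ e)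
  have hf₀ := fppf_of_isQuotient hquot
  have hfq := fppf_of_isQuotient hq
  have hFq' : Fppf q' := hf₀.of_comp (by rw [hq']; exact hfq)
  refine ⟨q', hq', hFq'.surj, hFq'.flat, hFq'.lfp, isPullback_of_ptQuot ?_⟩
  intro T a b
  constructor
  · intro hab
    obtain ⟨T₁, r₁, a', hr₁, ha'⟩ := hf₀.exists_lift a
    obtain ⟨T₂, r₂, b', hr₂, hb'⟩ := hf₀.exists_lift (r₁ ≫ b)
    have h1 : (r₂ ≫ a') ≫ q = b' ≫ q := by
      rw [← hq', Category.assoc, ← Category.assoc a', ha', ← Category.assoc b', hb']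
      simp only [Category.assoc, hab]
    obtain ⟨y, hy⟩ := (ptQuot_of_isQuotient hq T₂ _ _).1 h1
    have h2 : (y ≫ g) ≫ t = (r₂ ≫ r₁) ≫ (a⁻¹ * b) := by
      rw [Category.assoc, ← hw, ← Category.assoc, MonObj.comp_mul, GrpObj.comp_inv, Category.assoc r₂ r₁ b, ← hb', hy,
        MonObj.mul_comp, Category.assoc r₂ a', ha', ← Category.assoc r₂ r₁ a, inv_mul_cancel_left]
    obtain ⟨z, hz⟩ := (hr₂.comp hr₁).exists_fac t (a⁻¹ * b) ⟨_, h2⟩
    exact ⟨z, by rw [hz]; group⟩
  · rintro ⟨z, rfl⟩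
    obtain ⟨T₁, r₁, a', hr₁, ha'⟩ := hf₀.exists_lift a
    obtain ⟨T₂, r₂, y, hr₂, hy⟩ := hg.exists_lift (r₁ ≫ z)
    have hr := (hr₂.comp hr₁).epi
    rw [← cancel_epi (r₂ ≫ r₁)]
    have h1 : (r₂ ≫ r₁) ≫ a = (r₂ ≫ a') ≫ f₀ := by
      rw [Category.assoc, Category.assoc, ha']
    have h2 : (r₂ ≫ r₁) ≫ (a * (z ≫ t)) = ((r₂ ≫ a') * (y ≫ k)) ≫ f₀ := by
      rw [MonObj.mul_comp, ← h1, MonObj.comp_mul, Category.assoc y, hw, ← Category.assoc y, hy]
      simp only [Category.assoc]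
    rw [← Category.assoc, ← Category.assoc, h1, h2, Category.assoc (r₂ ≫ a') f₀ q',
      Category.assoc ((r₂ ≫ a') * (y ≫ k)) f₀ q', hq']
    exact (Groth.Agent.RedSub.H650.QuotPts.mul_comp hq _ _).symm

end K199.QuotTools
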