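import Groth.Agent.Sga3C.SubGrp
import Groth.Agent.RedSub.K199.QuotTools

/-!
# Subgroups described by their points; the preimage of a subgroup
-/

set_option autoImplicit false
universe v u

open CategoryTheory MonoidalCategory CartesianMonoidalCategory MonObj GrpObj Limits

namespace K199.PullGrp

open Groth.Agent

variable {𝒞 : Type u} [Category.{v} 𝒞] [CartesianMonoidalCategory 𝒞]

/-- a monomorphism whose points form a subgroup is the inclusion of a subgroup -/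
theorem exists_grpObj_of_pts {G H : 𝒞} [GrpObj G] (k : H ⟶ G) [Mono k]
    (hone : ∀ X : 𝒞, ∃ z : X ⟶ H, z ≫ k = 1)
    (hmul : ∀ (X : 𝒞) (x y : X ⟶ H), ∃ z : X ⟶ H, z ≫ k = (x ≫ k) * (y ≫ k))
    (hinv : ∀ (X : 𝒞) (x : X ⟶ H), ∃ z : X ⟶ H, z ≫ k = (x ≫ k)⁻¹) :
    ∃ _ : GrpObj H, IsMonHom k := by
  apply Sga3C.SubGrp.exists_grpObj_of_mono
  · obtain ⟨z, hz⟩ := hmul (H ⊗ H) (fst _ _) (snd _ _)
    refine ⟨z, hz.trans ?_⟩
    rw [Hom.mul_def]
    congr 1
    apply CartesianMonoidalCategory.hom_ext <;> simp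
  · obtain ⟨z, hz⟩ := hone (𝟙_ 𝒞)
    exact ⟨z, hz.trans (one_eq_one (M := G)).symm⟩
  · obtain ⟨z, hz⟩ := hinv H (𝟙 H)
    refine ⟨z, hz.trans ?_⟩
    rw [Category.id_comp, Hom.inv_def]

/-- the preimage of a subgroup is a subgroup -/
theorem exists_grpObj_of_isPullback {G C W H : 𝒞} [GrpObj G] [GrpObj C] [GrpObj W] (q : G ⟶ C) [IsMonHom q]
    (w : W ⟶ C) [IsMonHom w] [Mono w] (k : H ⟶ G) (g : H ⟶ W) (h : IsPullback k g q w) :
    ∃ _ : GrpObj H, IsMonHom k := by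
  have hk : Mono k := by
    refine ⟨fun {W} x y hxy => h.hom_ext hxy ?_⟩
    rw [← cancel_mono w, Category.assoc, Category.assoc, ← h.w, ← Category.assoc, ← Category.assoc, hxy]
  apply exists_grpObj_of_pts
  · intro X
    refine ⟨h.lift 1 1 (by rw [MonObj.one_comp, MonObj.one_comp]), h.lift_fst _ _ _⟩
  · intro X x y
    refine ⟨h.lift ((x ≫ k) * (y ≫ k)) ((x ≫ g) * (y ≫ g)) ?_, h.lift_fst _ _ _⟩
    rw [MonObj.mul_comp, MonObj.mul_comp]
    simp only [Category.assoc, h.w]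
  · intro X x
    refine ⟨h.lift ((x ≫ k)⁻¹) ((x ≫ g)⁻¹) ?_, h.lift_fst _ _ _⟩
    rw [GrpObj.inv_comp, GrpObj.inv_comp]
    simp only [Category.assoc, h.w]

end K199.PullGrp
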