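import Groth.Agent.Sga3.H827.ImgTorus
import Groth.Agent.Sga3B.TorClosed636
import Groth.Agent.Sga3B.NormBc
import Groth.Agent.Sga3B.TorusBc
import Groth.Agent.Sga3B.Parab.Retr
import Groth.Agent.Sga3B.Parab.RedCover147
import Groth.Agent.RedSub.K199.QuotTools

/-!
# A homomorphism from a torus to a semisimple group with central image is trivial
-/

set_option autoImplicit false
universe u

open CategoryTheory MonoidalCategory CartesianMonoidalCategory MonObj GrpObj AlgebraicGeometry Limits

namespace K199.CentSS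

open Groth.Agent Groth.Agent.Sga3B QuotTools

variable {S : Scheme.{u}}

lemma eq_one_of_isTrivialGrp {W G : Over S} [GrpObj W] [GrpObj G] (hW : Red.IsTrivialGrp W) (w : W ⟶ G) [IsMonHom w] :
    w = 1 := by
  have h1 : IsIso W.hom := hW
  have h2 : ∀ {X : Over S} (x y : X ⟶ W), x = y := by
    intro X x y
    apply Over.OverMorphism.ext
    rw [← cancel_mono W.hom, Over.w, Over.w]
  have h3 : w = 𝟙 W ≫ w := (Category.id_comp w).symm
  rw [h3, h2 (𝟙 W) 1, MonObj.one_comp]

/-- **A homomorphism from a torus to a semisimple group with central image is trivial.** -/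
theorem eq_one {G R : Over S} [GrpObj G] [GrpObj R] (hG : Red.IsSemisimple G) (hR : Red.IsTorus R) (f : R ⟶ G)
    [IsMonHom f] (hc : ∀ (X : Over S) (x : X ⟶ R) (g : X ⟶ G), (x ≫ f) * g = g * (x ≫ f)) : f = 1 := by
  have hGa := hG.1
  have hGs := hG.2.1
  obtain ⟨W, hWg, p, w, hp, hw, hpw, hps, hpf, hplfp, hwm, hW⟩ :=
    Sga3.H827.ImgTorus.exists_image_torus f hR
  have hpF : Fppf p := ⟨hps, hpf, hplfp⟩
  have hcl : IsClosedImmersion w.left := TorClosed636.isClosedImmersion_of_isTorus w hW
  have hcw : ∀ (X : Over S) (x : X ⟶ W) (g : X ⟶ G), (x ≫ w) * g = g * (x ≫ w) := by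
    intro X x g
    obtain ⟨X₁, r, x', hr, hx'⟩ := hpF.exists_lift x
    have hr' := hr.epi
    rw [← cancel_epi r, MonObj.comp_mul, MonObj.comp_mul, ← Category.assoc, ← hx', Category.assoc, hpw]
    exact hc _ _ _
  have hn : AlgGrp.IsNormalHom w := by
    intro X g n
    refine ⟨n, ?_⟩
    rw [← hcw, mul_inv_cancel_right]
  have hWs := TorusAlgClosed.smooth_of_isTorus hW
  have hWa := TorusAlgClosed.isAffineHom_of_isTorus hW
  have htriv : Red.IsTrivialGrp W := by
    refine Parab.Retr.isTrivialGrp_of_fibres W fun s => ?_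
    refine ⟨AlgebraicClosure (S.residueField s), inferInstance, Red.geomPt s, ?_, ?_⟩
    · exact Scheme.fromSpecResidueField_apply s _
    · have h1 : IsClosedImmersion ((Over.pullback (Red.geomPt s)).map w).left :=
        Parab.RedCover147.isClosedImmersion_bc (Red.geomPt s) hcl
      exact (hG.2.2 s).2 (Red.bc (Red.geomPt s) W) ((Over.pullback (Red.geomPt s)).map w) h1
        (NormBc.isNormalHom_bc _ w hn) (TorusBc.isTorus_bc _ hW)
  have : w = 1 := eq_one_of_isTrivialGrp htriv w
  rw [← hpw, this, MonObj.comp_one]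

end K199.CentSS
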