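import Groth.Agent.RedSub.K199.CorTools
import Groth.Agent.Sga3B.TorusIrr
import Groth.Agent.Sga3B.TorClosed636
import Groth.Agent.Sga3B.MaxTorBc505

/-!
# Subgroups of a reductive group containing the derived group, from subtori of the coradical

* `exists_iso_corad`: a commutative fppf quotient of `G` by the derived group is isomorphic to the coradical torus;
* `geometricallyIrreducible_corad`: the coradical quotient has geometrically irreducible fibres;
* `preimage_props`: the preimage of a subtorus of the coradical is closed, smooth with connected fibres.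
-/

set_option autoImplicit false
set_option linter.unusedSectionVars false
universe u

open CategoryTheory MonoidalCategory CartesianMonoidalCategory MonObj GrpObj AlgebraicGeometry Limits

namespace K199.SubCor

open Groth.Agent Groth.Agent.Sga3B
open Groth.Agent.RedSub.H654 Groth.Agent.RedSub.H654.Coradical
open Groth.Agent.RedSub.H650.QuotPts QuotTools CorTools

variable {S : Scheme.{u}}

/-- a morphism out of an fppf quotient group is a homomorphism if its composite with the quotient is -/
theorem isMonHom_of_fppf {G C A : Over S} [GrpObj G] [GrpObj C] [GrpObj A] (q : G ⟶ C) [IsMonHom q] (hq : Fppf q)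
    (φ : C ⟶ A) (f : G ⟶ A) [IsMonHom f] (hf : q ≫ φ = f) : IsMonHom φ := by
  refine Pts.isMonHom_of_points φ fun X x y => ?_
  obtain ⟨X₁, r₁, x', hr₁, hx'⟩ := hq.exists_lift x
  obtain ⟨X₂, r₂, y', hr₂, hy'⟩ := hq.exists_lift (r₁ ≫ y)
  have hr := (hr₂.comp hr₁).epi
  rw [← cancel_epi (r₂ ≫ r₁)]
  have h1 : (r₂ ≫ r₁) ≫ x = (r₂ ≫ x') ≫ q := by
    rw [Category.assoc, Category.assoc, hx']
  have h2 : (r₂ ≫ r₁) ≫ y = y' ≫ q := by
    rw [Category.assoc, hy']
  have h3 : (r₂ ≫ r₁) ≫ (x * y) = ((r₂ ≫ x') * y') ≫ q := by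
    rw [MonObj.mul_comp, MonObj.comp_mul, h1, h2]
  have h4 : (r₂ ≫ r₁) ≫ x ≫ φ = (r₂ ≫ x') ≫ f := by
    rw [← Category.assoc, h1, Category.assoc, hf]
  have h5 : (r₂ ≫ r₁) ≫ y ≫ φ = y' ≫ f := by
    rw [← Category.assoc, h2, Category.assoc, hf]
  rw [← Category.assoc, h3, Category.assoc, hf, MonObj.mul_comp, MonObj.comp_mul, h4, h5]

section corad

variable {G D C C' : Over S} [GrpObj G] [GrpObj D] [GrpObj C] [GrpObj C']

/-- two fppf quotients by the same subgroup are isomorphic -/
theorem exists_iso_of_isQuotient (d : D ⟶ G) (f : G ⟶ C) [IsMonHom f] (f' : G ⟶ C') [IsMonHom f']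
    (h : RedSub.IsQuotient d f) (h' : RedSub.IsQuotient d f') :
    ∃ φ : C' ≅ C, IsMonHom φ.hom ∧ f' ≫ φ.hom = f := by
  obtain ⟨a, ha⟩ := exists_desc h' f fun T x y => Groth.Agent.RedSub.H650.QuotPts.mul_comp h x y
  obtain ⟨b, hb⟩ := exists_desc h f' fun T x y => Groth.Agent.RedSub.H650.QuotPts.mul_comp h' x y
  have he := (fppf_of_isQuotient h).epi
  have he' := (fppf_of_isQuotient h').epi
  refine ⟨⟨a, b, ?_, ?_⟩, isMonHom_of_fppf f' (fppf_of_isQuotient h') a f ha, ha⟩
  · rw [← cancel_epi f', ← Category.assoc, ha, hb, Category.comp_id]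
  · rw [← cancel_epi f, ← Category.assoc, hb, ha, Category.comp_id]

/-- two kernels of the same homomorphism are isomorphic -/
theorem exists_iso_of_isKernel {D' : Over S} [GrpObj D'] (d : D ⟶ G) [IsMonHom d] (d' : D' ⟶ G) [IsMonHom d']
    (f : G ⟶ C) (h : AlgGrp.IsKernel d f) (h' : AlgGrp.IsKernel d' f) :
    ∃ φ : D' ≅ D, IsMonHom φ.hom ∧ φ.hom ≫ d = d' := by
  have hm := mono_of_isKernel h
  have hm' := mono_of_isKernel h'
  obtain ⟨a, ha⟩ := exists_lift_kernel h d' h'.w
  obtain ⟨b, hb⟩ := exists_lift_kernel h' d h.w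
  have h1 : IsMonHom (a ≫ d) := by rw [ha]; infer_instance
  refine ⟨⟨a, b, ?_, ?_⟩, Sga3C.SubGrp.isMonHom_of_comp_mono a d, ha⟩
  · rw [← cancel_mono d', Category.assoc, hb, ha, Category.id_comp]
  · rw [← cancel_mono d, Category.assoc, ha, hb, Category.id_comp]

/-- Any commutative fppf quotient of `G` by the derived group is the coradical. -/
theorem props_of_isQuotient (hG : Red.IsReductive G) (d : D ⟶ G) [IsMonHom d] (f₀ : G ⟶ C) [IsMonHom f₀]
    (hC : ∀ (X : Over S) (a b : X ⟶ C), a * b = b * a) (hker : AlgGrp.IsKernel d f₀)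
    (hquot : RedSub.IsQuotient d f₀) (hkill : RedSub.KilledByCommutative d) :
    Red.IsTorus C ∧ Smooth f₀.left ∧ Red.IsSemisimple D := by
  obtain ⟨C', hCg, q₀, hq₀, ⟨L⟩⟩ := exists_LQ hG
  have hs := L.smooth hG
  have hL : Fppf q₀ := ⟨L.surjective, inferInstance, inferInstance⟩
  have hdq := isQuotient_corad d f₀ hker hC hkill q₀ L hL
  obtain ⟨φ, hφ, hφ'⟩ := exists_iso_of_isQuotient d f₀ q₀ hquot hdq
  refine ⟨TorusBc.isTorus_of_iso (Grp.mkIso' φ) L.isTorus, ?_, ?_⟩
  · rw [← hφ', Over.comp_left]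
    infer_instance
  · obtain ⟨hK, hk⟩ := Sga3B.KerGrp.exists_grpObj q₀
    obtain ⟨ψ, hψ, -⟩ := exists_iso_of_isKernel d (Sga3B.KerGrp.kerι q₀) q₀
      (isKernel_corad d f₀ hker hC hkill q₀ L) (Sga3B.KerGrp.isPullback_ker q₀)
    exact AlgBc.isSemisimple_of_iso (Grp.mkIso' ψ) (L.isSemisimple_ker hG)

/-- the derived group (as characterised by being the kernel of a homomorphism to a commutative group and killed by
all homomorphisms to commutative groups) is semisimple -/
theorem isSemisimple_derived (hG : Red.IsReductive G) (d : D ⟶ G) [IsMonHom d]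
    (hker : ∃ (C : Over S) (_ : GrpObj C) (f₀ : G ⟶ C), IsMonHom f₀ ∧ (∀ (X : Over S) (a b : X ⟶ C), a * b = b * a) ∧
      AlgGrp.IsKernel d f₀)
    (hkill : RedSub.KilledByCommutative d) : Red.IsSemisimple D := by
  obtain ⟨C₁, hC₁g, f₀, hf₀, hC₁, hkerd⟩ := hker
  obtain ⟨C', hCg, q₀, hq₀, ⟨L⟩⟩ := exists_LQ hG
  have hs := L.smooth hG
  have hL : Fppf q₀ := ⟨L.surjective, inferInstance, inferInstance⟩
  have hkq : AlgGrp.IsKernel d q₀ := isKernel_corad d f₀ hkerd hC₁ hkill q₀ L
  have hdq : RedSub.IsQuotient d q₀ := isQuotient_corad d f₀ hkerd hC₁ hkill q₀ L hL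
  exact (props_of_isQuotient hG d q₀ (MaxTorNear900.mul_comm_of_isTorus L.isTorus) hkq hdq hkill).2.2

theorem isReductive_of_isSemisimple {D : Over S} [GrpObj D] (h : Red.IsSemisimple D) : Red.IsReductive D :=
  ⟨h.1, h.2.1, fun s => (h.2.2 s).1⟩

/-- a quotient by a subgroup with geometrically irreducible fibres has geometrically irreducible fibres -/
theorem geometricallyIrreducible_of_isQuotient (d : D ⟶ G) (f₀ : G ⟶ C)
    (hquot : RedSub.IsQuotient d f₀) [GeometricallyIrreducible D.hom] [QuasiCompact f₀.left] :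
    GeometricallyIrreducible f₀.left := by
  have h1 := hquot.1
  have h2 := hquot.2.1
  have h3 : IsPullback (fst G D).left ((G ◁ d) ≫ μ[G]).left f₀.left f₀.left := hquot.2.2.2.map (Over.forget S)
  refine MorphismProperty.of_pullback_fst_of_descendsAlong (P := @GeometricallyIrreducible)
    (Q := @Surjective ⊓ @Flat ⊓ @QuasiCompact) (f := f₀.left) (g := f₀.left) ⟨⟨h1, h2⟩, inferInstance⟩ ?_
  have h4 : GeometricallyIrreducible (fst G D).left :=
    inferInstanceAs (GeometricallyIrreducible (pullback.fst G.hom D.hom))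
  have h5 : pullback.fst f₀.left f₀.left = (h3.isoPullback).inv ≫ (fst G D).left := by
    rw [IsPullback.isoPullback_inv_fst]
  rw [h5]
  exact (MorphismProperty.cancel_left_of_respectsIso (P := @GeometricallyIrreducible) _ _).2 h4

/-- fibres of a geometrically irreducible morphism are connected -/
theorem hasConnectedFibres {X : Over S} (h : GeometricallyIrreducible X.hom) : RedSub.HasConnectedFibres X := by
  intro s
  have h4 : X.hom.base ⁻¹' {s} = Set.range (X.hom.fiberι s) := (X.hom.range_fiberι s).symm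
  rw [h4]
  exact isConnected_range (X.hom.fiberι s).continuous

end corad

/-- **The preimage of a subtorus of the coradical.** -/
theorem preimage_props {G D C T'' H : Over S} [GrpObj G] [GrpObj D] [GrpObj C]
    [GrpObj T''] (hG : Red.IsReductive G) (d : D ⟶ G) [IsMonHom d]
    (f₀ : G ⟶ C) [IsMonHom f₀] (hC : Red.IsTorus C) (hf₀ : Smooth f₀.left) (hD : Red.IsReductive D)
    (hquot : RedSub.IsQuotient d f₀)
    (t : T'' ⟶ C) [IsMonHom t] [Mono t] (hT'' : Red.IsTorus T'') (k : H ⟶ G) (g : H ⟶ T'')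
    (hsq : IsPullback k g f₀ t) :
    IsClosedImmersion k.left ∧ Smooth H.hom ∧ RedSub.HasConnectedFibres H ∧ Fppf g := by
  have hCa := TorusAlgClosed.isAffineHom_of_isTorus hC
  have hTs := TorusAlgClosed.smooth_of_isTorus hT''
  have hTa := TorusAlgClosed.isAffineHom_of_isTorus hT''
  have hGa := hG.1
  have hp := hsq.map (Over.forget S)
  have ht : IsClosedImmersion t.left := TorClosed636.isClosedImmersion_of_isTorus t hT''
  have hk : IsClosedImmersion k.left := MorphismProperty.of_isPullback (P := @IsClosedImmersion) hp.flip ht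
  have hg : Smooth g.left := MorphismProperty.of_isPullback (P := @Smooth) hp hf₀
  have hgs : Surjective g.left := MorphismProperty.of_isPullback (P := @Surjective) hp hquot.1
  have hD1 := MaxTorBc505.geometricallyIrreducible hD
  have hf₀a : IsAffineHom f₀.left := by
    have : IsAffineHom (f₀.left ≫ C.hom) := by rw [Over.w]; infer_instance
    exact IsAffineHom.of_comp f₀.left C.hom
  have hf₀i := geometricallyIrreducible_of_isQuotient d f₀ hquot
  have hgi : GeometricallyIrreducible g.left := MorphismProperty.of_isPullback (P := @GeometricallyIrreducible) hp hf₀i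
  have hTi := TorusIrr.geometricallyIrreducible_of_isTorus hT''
  have hH : H.hom = g.left ≫ T''.hom := (Over.w g).symm
  refine ⟨hk, ?_, ?_, ⟨hgs, inferInstance, inferInstance⟩⟩
  · rw [hH]
    infer_instance
  · apply hasConnectedFibres
    rw [hH]
    exact GeometricallyIrreducible.comp _ _

end K199.SubCor
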