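import Groth.Agent.FlatA.EtaleSections
import Groth.Agent.Flat2A.EtMLTools
import Mathlib.AlgebraicGeometry.Morphisms.Finite
import Mathlib.AlgebraicGeometry.Morphisms.Etale

/-!
# Smooth surjective schemes over a henselian local ring have sections after a finite étale surjective extension
-/

set_option autoImplicit false
universe u

open CategoryTheory AlgebraicGeometry IsLocalRing

namespace K199.HensSec

open Groth.Agent Groth.Agent.Flat2A

/-- Local factors of étale algebras over henselian local rings are finite étale. -/
theorem exists_local_factor {A C : Type u} [CommRing A] [HenselianLocalRing A] [CommRing C]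
    [Algebra A C] [Algebra.Etale A C] (Q : Ideal C) [Q.IsPrime] [Q.LiesOver (maximalIdeal A)] :
    ∃ (A' : Type u) (_ : CommRing A') (_ : IsLocalRing A') (_ : Algebra A A') (_ : Algebra C A')
      (_ : IsScalarTower A C A'), Module.Finite A A' ∧ Module.Free A A' ∧ Algebra.Etale A A' ∧
      IsLocalHom (algebraMap A A') ∧ (maximalIdeal A').comap (algebraMap C A') = Q := by
  obtain ⟨e, he, heQ, hfin, huniq⟩ :=
    Hensel.LocalSplit.exists_isIdempotentElem_of_quasiFiniteAt (R := A) Q
  let A' := C ⧸ Ideal.span {1 - e}
  have hloc : IsLocalization.Away e A' := IsLocalization.Away.quotient_of_isIdempotentElem he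
  have hflat1 : Module.Flat C A' := IsLocalization.flat A' (Submonoid.powers e)
  have hflat : Module.Flat A A' := Module.Flat.trans A C A'
  have het1 : Algebra.Etale C A' := Algebra.Etale.of_isLocalizationAway e
  have het : Algebra.Etale A A' := Algebra.Etale.comp A C A'
  have hmax : ∀ n : Ideal A', n.IsMaximal → n.comap (algebraMap C A') = Q := by
    intro n hn
    have h1 : n.LiesOver (maximalIdeal A) := Hensel.LocalSplit.comap_eq_maximalIdeal n
    refine huniq _ inferInstance ⟨?_⟩ ?_
    · rw [h1.over]
      rw [Ideal.under, Ideal.under, Ideal.comap_comap, ← IsScalarTower.algebraMap_eq]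
    · intro h2
      apply hn.ne_top
      rw [Ideal.eq_top_iff_one]
      have h3 : algebraMap C A' e = 1 := by
        have : algebraMap C A' (1 - e) = 0 := Ideal.Quotient.eq_zero_iff_mem.mpr (Ideal.subset_span rfl)
        rw [map_sub, map_one, sub_eq_zero] at this
        exact this.symm
      rw [← h3]
      exact h2
  have hnt : Nontrivial A' := by
    have : Ideal.span {1 - e} ≤ Q := by
      rw [Ideal.span_singleton_le_iff_mem]
      exact Hensel.LocalSplit.one_sub_mem_of_notMem he heQ
    exact Ideal.Quotient.nontrivial_iff.mpr (fun h => ‹Q.IsPrime›.ne_top (top_le_iff.mp (h ▸ this)))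
  obtain ⟨n₀, hn₀⟩ := Ideal.exists_maximal A'
  have hlocal : IsLocalRing A' := by
    refine IsLocalRing.of_unique_max_ideal ⟨n₀, hn₀, ?_⟩
    intro n hn
    have h1 := (hmax n hn).trans (hmax n₀ hn₀).symm
    exact Ideal.comap_injective_of_surjective _ Ideal.Quotient.mk_surjective h1
  have hfree : Module.Free A A' := Module.free_of_flat_of_isLocalRing
  have hlh : IsLocalHom (algebraMap A A') := by
    have h1 : (maximalIdeal A').LiesOver (maximalIdeal A) :=
      Hensel.LocalSplit.comap_eq_maximalIdeal (maximalIdeal A')
    exact ((IsLocalRing.local_hom_TFAE (algebraMap A A')).out 0 4).mpr h1.over.symm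
  exact ⟨A', inferInstance, hlocal, inferInstance, inferInstance, inferInstance, hfin, hfree, het, hlh,
    hmax _ inferInstance⟩

/-- A smooth scheme over a henselian local ring with a point over the closed point has a section over a finite étale
local extension. -/
theorem exists_finite_etale_section {A : Type u} [CommRing A] [HenselianLocalRing A] {X : Scheme.{u}}
    (f : X ⟶ Spec (CommRingCat.of A)) [Smooth f] (hf : closedPoint A ∈ Set.range f) :
    ∃ (A' : Type u) (_ : CommRing A') (_ : IsLocalRing A') (_ : Algebra A A'),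
      Module.Finite A A' ∧ Module.Free A A' ∧ Algebra.Etale A A' ∧ IsLocalHom (algebraMap A A') ∧
      ∃ σ : Spec (CommRingCat.of A') ⟶ X,
        σ ≫ f = Spec.map (CommRingCat.ofHom (algebraMap A A')) := by
  obtain ⟨S', g, s', hg, hgs, h, hh⟩ := FlatA.EtaleSections.exists_section f (closedPoint A) hf
  -- an affine neighbourhood of `s'`
  obtain ⟨_, ⟨U, hU, rfl⟩, hsU, -⟩ := S'.isBasis_affineOpens.exists_subset_of_mem_open
    (Set.mem_univ s') isOpen_univ
  have hU' : IsAffineOpen U := hU
  let C := Γ(S', U)
  let j : Spec C ⟶ S' := hU'.fromSpec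
  obtain ⟨φ, hφ⟩ : ∃ φ : CommRingCat.of A ⟶ C, Spec.map φ = j ≫ g :=
    ⟨Spec.preimage (j ≫ g), Spec.map_preimage _⟩
  have het : Etale (Spec.map φ) := by rw [hφ]; infer_instance
  algebraize [φ.hom]
  have het' : Algebra.Etale A C := by
    rw [HasRingHomProperty.Spec_iff (P := @Etale)] at het
    exact het
  obtain ⟨y, hy⟩ : ∃ y : Spec C, j y = s' := by
    have : s' ∈ Set.range j := by rw [hU'.range_fromSpec]; exact hsU
    exact this
  have hyover : y.asIdeal.LiesOver (maximalIdeal A) := by
    constructor
    have h1 : (Spec.map φ) y = closedPoint A := by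
      rw [hφ, Scheme.Hom.comp_apply, hy, hgs]
    have h2 := congrArg PrimeSpectrum.asIdeal h1
    exact h2.symm
  have hyp : y.asIdeal.IsPrime := y.isPrime
  obtain ⟨A', _, h1, _, _, h2, h3, h4, h5, h6, -⟩ := exists_local_factor (A := A) (C := C) y.asIdeal
  refine ⟨A', inferInstance, h1, inferInstance, h3, h4, h5, h6,
    Spec.map (CommRingCat.ofHom (algebraMap C A')) ≫ j ≫ h, ?_⟩
  rw [Category.assoc, Category.assoc, hh, ← hφ, ← Spec.map_comp]
  congr 1
  ext x
  exact (IsScalarTower.algebraMap_apply A C A' x).symm

end K199.HensSec
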