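import Groth.Agent.RedSub.K199.RCBc
import Groth.Agent.RedSub.K195.Le
import Groth.Agent.RedSub.H636.TypeRExist

/-!
# Subgroups of type (R) with a constant set of roots

`Rts D h R'`: at every point of the base the set of roots of `H` (with respect to the splitting `D`) is `R'`.

* `Rts.bc`, `Rts.of_iso`, `Rts.exists_iso` (uniqueness), `Rts.lift_iff`;
* `exists_model`: existence for closed `R'`, over any base;
* `exists_open`: every subgroup of type (R) containing the torus is of this kind Zariski locally;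
* `Rts.isRC`, `Rts.closed`.
-/

set_option autoImplicit false
universe u

open CategoryTheory MonoidalCategory CartesianMonoidalCategory MonObj GrpObj AlgebraicGeometry Limits

namespace K199.RtsM

open Groth.Agent Groth.Agent.Sga3B Groth.Agent.Sga3B.RedIso Groth.Agent.Sga3B.SplitIso848
  Groth.Agent.Sga3B.SplitBc264 Groth.Agent.Sga3B.Cell Groth.Agent.Sga3B.PinMod
  Groth.Agent.Sga3B.Parab.OrbM156 Groth.Agent.Sga3B.Parab
open Groth.Agent.RedSub.H635.Uniq Groth.Agent.RedSub.H636

/-- the set of roots of `H` is `R'` at every point of the base -/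
def Rts {S : Scheme.{u}} {G H : Over S} [GrpObj G] (D : Red.SplitRed G) (h : H ⟶ G) (R' : Set D.idx) : Prop :=
  ∀ (s : S) (a : D.idx), s ∈ E D h a ↔ a ∈ R'

variable {S S' : Scheme.{u}} {G G' H H' : Over S} [GrpObj G] [GrpObj G'] [GrpObj H] [GrpObj H']

omit [GrpObj H] in
lemma Rts.bc {D : Red.SplitRed G} {h : H ⟶ G} {R' : Set D.idx} (hR : Rts D h R') (f : S' ⟶ S) :
    Rts (splitBc f D) ((Over.pullback f).map h) R' := by
  intro s a
  rw [K195.Tang.mem_E_bc_iff]
  exact hR (f s) a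

omit [GrpObj H] [GrpObj H'] in
lemma E_of_iso (D : Red.SplitRed G) {h : H ⟶ G} {h' : H' ⟶ G'} (e : Grp.mk G ≅ Grp.mk G') (φ : H ≅ H')
    (w : h ≫ (und e).hom = φ.hom ≫ h') (a : D.idx) : E (splitOfIso e D) h' a = E D h a := by
  have key : ∀ (K : Type u) [Field K] (x : Spec (CommRingCat.of K) ⟶ S), Tg (splitOfIso e D) h' a K x ↔ Tg D h a K x := by
    intro K _ x
    have h0 : (splitOfIso e D).u a = D.u a ≫ (und e).hom := rfl
    unfold Tg
    rw [h0]
    constructor
    · rintro ⟨v, hv⟩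
      refine ⟨v ≫ φ.inv, ?_⟩
      have w' : φ.inv ≫ h ≫ (und e).hom = h' := by rw [w, Iso.inv_hom_id_assoc]
      rw [← cancel_mono (und e).hom, Category.assoc, Category.assoc, w', hv, Category.assoc]
    · rintro ⟨v, hv⟩
      refine ⟨v ≫ φ.hom, ?_⟩
      rw [Category.assoc, ← w, ← Category.assoc, hv, Category.assoc]
  ext s
  constructor
  · rintro ⟨K, _, x, hx, hT⟩
    exact ⟨K, inferInstance, x, hx, (key K x).1 hT⟩
  · rintro ⟨K, _, x, hx, hT⟩
    exact ⟨K, inferInstance, x, hx, (key K x).2 hT⟩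

omit [GrpObj H] [GrpObj H'] in
lemma Rts.of_iso {D : Red.SplitRed G} {h : H ⟶ G} {h' : H' ⟶ G'} {R' : Set D.idx} (hR : Rts D h R')
    (e : Grp.mk G ≅ Grp.mk G') (φ : H ≅ H') (w : h ≫ (und e).hom = φ.hom ≫ h') : Rts (splitOfIso e D) h' R' := by
  intro s a
  rw [E_of_iso D e φ w]
  exact hR s a

/-- uniqueness -/
theorem Rts.exists_iso {D : Red.SplitRed G} {h : H ⟶ G} {h' : H' ⟶ G} {R' : Set D.idx} (hR : Rts D h R')
    (hR' : Rts D h' R') (hH : RedSub.IsTypeR h) (hH' : RedSub.IsTypeR h') (t : D.T ⟶ H) (ht : t ≫ h = D.i)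
    (t' : D.T ⟶ H') (ht' : t' ≫ h' = D.i) : ∃ e : H ≅ H', e.hom ≫ h' = h := by
  have m1 := hH.1.1
  have m2 := hH'.1.1
  have i1 := hH.1.2
  have i2 := hH'.1.2
  have s1 := hH.2.1
  have s2 := hH'.2.1
  obtain ⟨v, hv⟩ := K195.Le.exists_le_of_E D h h' hH.2.2.2.1 t ht t' ht' fun a s hs => (hR' s a).2 ((hR s a).1 hs)
  obtain ⟨w, hw⟩ := K195.Le.exists_le_of_E D h' h hH'.2.2.2.1 t' ht' t ht fun a s hs => (hR s a).2 ((hR' s a).1 hs)
  have n1 : Mono h := Over.mono_of_mono_left h
  have n2 : Mono h' := Over.mono_of_mono_left h'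
  exact ⟨⟨v, w, by rw [← cancel_mono h, Category.assoc, hw, hv, Category.id_comp],
    by rw [← cancel_mono h', Category.assoc, hv, hw, Category.id_comp]⟩, hv⟩

/-- root groups and tangent roots -/
theorem Rts.lift_iff [Nonempty S] {D : Red.SplitRed G} {h : H ⟶ G} {R' : Set D.idx} (hR : Rts D h R')
    (hH : RedSub.IsTypeR h) (t : D.T ⟶ H) (ht : t ≫ h = D.i) (a : D.idx) :
    (∃ v : Red.Ga S ⟶ H, v ≫ h = D.u a) ↔ a ∈ R' := by
  have m1 := hH.1.1
  have i1 := hH.1.2
  have s1 := hH.2.1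
  obtain ⟨s⟩ := ‹Nonempty S›
  have : Nonempty S := ⟨s⟩
  constructor
  · intro hv
    exact (hR s a).1 (mem_E_of_lift D h a hv s)
  · intro ha
    exact exists_lift_u D h t ht a (Set.eq_univ_of_forall fun s => (hR s a).2 ha)

/-- Zariski locally the set of roots is constant. -/
theorem exists_open (D : Red.SplitRed G) (h : H ⟶ G) (hH : RedSub.IsTypeR h) (t : D.T ⟶ H) (ht : t ≫ h = D.i) (s : S) :
    ∃ U : S.Opens, s ∈ U ∧ Rts (splitBc U.ι D) ((Over.pullback U.ι).map h) {a | s ∈ E D h a} := by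
  classical
  have m1 := hH.1.1
  have i1 := hH.1.2
  have s1 := hH.2.1
  let W : D.idx → Set S := fun a => if s ∈ E D h a then E D h a else (E D h a)ᶜ
  have hW : ∀ a, IsOpen (W a) := by
    intro a
    have hcl := isClopen_E D h t ht a
    change IsOpen (if s ∈ E D h a then E D h a else (E D h a)ᶜ)
    split_ifs
    · exact hcl.isOpen
    · exact hcl.compl.isOpen
  have hsW : ∀ a, s ∈ W a := by
    intro a
    change s ∈ (if s ∈ E D h a then E D h a else (E D h a)ᶜ)
    split_ifs with hh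
    · exact hh
    · exact hh
  let U : S.Opens := ⟨⋂ a, W a, isOpen_iInter_of_finite hW⟩
  refine ⟨U, Set.mem_iInter.2 hsW, ?_⟩
  intro σ a
  rw [K195.Tang.mem_E_bc_iff]
  have h1 : U.ι σ ∈ W a := Set.mem_iInter.1 (show U.ι σ ∈ ⋂ a, W a from σ.2) a
  change U.ι σ ∈ (if s ∈ E D h a then E D h a else (E D h a)ᶜ) at h1
  split_ifs at h1 with hh
  · exact ⟨fun _ => hh, fun _ => h1⟩
  · exact ⟨fun h2 => (h1 h2).elim, fun h2 => (hh h2).elim⟩

/-- the root is in the monoid if one point of the root group is in the subgroup -/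
theorem mem_of_ptT_pt (D : Red.SplitRed G) (T : Submonoid (Multiplicative D.M)) (a : D.idx) {C : Type u} [Field C]
    (c : Spec (CommRingCat.of C) ⟶ S) (h : PtT (Chart.j D) T (GaPts.gaPt (aff C c) 1 ≫ D.u a)) :
    Multiplicative.ofAdd (D.P.root a) ∈ T := by
  by_contra hT
  obtain ⟨f, hf⟩ := h C c (𝟙 _)
  rw [Category.id_comp] at hf
  obtain ⟨z, hz1, hz2⟩ := MonPts.exists_root_orb D a (GaPts.gaPt (aff C c) 1)
  rw [← hz1] at hf
  have hcl : IsClosedImmersion (D.u a).left := (D.rootHom a).2.1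
  have haff : IsAffine (mon T C c).left :=
    inferInstanceAs (IsAffine (Spec (CommRingCat.of (MonoidAlgebra C T))))
  obtain ⟨m, hm⟩ := MonPts.exists_lift_of_injective (toT C c T).left (MonPts.toT_injective T) (D.u a).left f.left z.left
    (congrArg (fun g => g.left) hf).symm
  let m' : mon T C c ⟶ Red.Ga S := Over.homMk m (by
    rw [← Over.w (D.u a), ← Category.assoc, hm]
    exact Over.w f)
  have h1 : toT C c T ≫ m' = z := by
    have hmono : Mono (D.u a) := Over.mono_of_mono_left _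
    rw [← cancel_mono (D.u a), ← hf, Category.assoc]
    congr 1
    ext1
    exact hm
  have h2 := congrArg Red.gaFn h1
  rw [hz2, GaPts.gaFn_comp, GaPts.gaFn_comp, GaPts.gaFn_gaPt, map_one, _root_.mul_one] at h2
  obtain ⟨y, hy⟩ := MonPts.exists_inv (Red.gaFn m')
  have h3 := MonPts.appTop_specMap (incl C C T).toRingHom y
  change (toT C c T).left.appTop.hom _ = _ at h3
  rw [hy] at h3
  have h4 : (Scheme.ΓSpecIso (CommRingCat.of (MonoidAlgebra C (Multiplicative D.M)))).inv.hom (incl C C T y) =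
      (Scheme.ΓSpecIso (CommRingCat.of (MonoidAlgebra C (Multiplicative D.M)))).inv.hom
        (MonoidAlgebra.single (Multiplicative.ofAdd (D.P.root a)) 1) := h3.symm.trans h2
  have h5 := MonPts.inv_injective h4
  have h6 := coeff_incl (R := C) T y hT
  rw [h5, MonoidAlgebra.coeff_single, Finsupp.single_eq_same] at h6
  exact one_ne_zero h6

/-- **Existence of the subgroup of type (R) with closed set of roots `R'`, over any base.** -/
theorem exists_model (D : Red.SplitRed G) (R' : Set D.idx)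
    (hcl : ∀ a b c : D.idx, a ∈ R' → b ∈ R' → D.P.root a + D.P.root b = D.P.root c → c ∈ R') :
    ∃ (H : Over S) (_ : GrpObj H) (h : H ⟶ G) (t : D.T ⟶ H), RedSub.IsTypeR h ∧ t ≫ h = D.i ∧ Rts D h R' := by
  obtain ⟨H, hH, h, t, h1, h2, h3, h4⟩ := TypeRExist.exists_typeR_mon D
    (AddSubmonoid.toSubmonoid (AddSubmonoid.closure (D.P.root '' R')))
  refine ⟨H, hH, h, t, h1, h2, fun s a => ⟨fun hs => ?_, fun ha => ?_⟩⟩
  · have m1 := h1.1.1
    have i1 := h1.1.2
    have s1 := h1.2.1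
    let C : Type u := S.residueField s
    let c : Spec (CommRingCat.of C) ⟶ S := S.fromSpecResidueField s
    have hc : ConnectedSpace (Spec (CommRingCat.of C)) := inferInstanceAs (ConnectedSpace (PrimeSpectrum C))
    let p : Spec (CommRingCat.of C) := (⊥ : PrimeSpectrum C)
    have hp : c p = s := Scheme.fromSpecResidueField_apply _ _
    have h5 : p ∈ E (splitBc c D) ((Over.pullback c).map h) a := by
      rw [K195.Tang.mem_E_bc_iff, hp]
      exact hs
    have s2 : Smooth (Red.bc c H).hom := inferInstanceAs (Smooth (pullback.snd _ _))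
    have i2 : IsImmersion ((Over.pullback c).map h).left := (RedSub.H648.BorBc.isSubgrp_bc c h1.1).2
    have h6 := (exists_lift_iff (splitBc c D) ((Over.pullback c).map h) ((Over.pullback c).map t)
      (K195.Le.bc_torus D c h2) a p).2 h5
    obtain ⟨v, hv⟩ := h6
    let X : Over (Spec (CommRingCat.of C)) := Over.mk (𝟙 _)
    obtain ⟨w, hw⟩ := (K194.GeomRoots.lift_iff D h c a (X := X) 1).1 ⟨GaPts.gaPt X 1 ≫ v, by rw [Category.assoc, hv]⟩
    have h7 : PtT (Chart.j D) (AddSubmonoid.toSubmonoid (AddSubmonoid.closure (D.P.root '' R')))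
        (GaPts.gaPt ((Over.map c).obj X) 1 ≫ D.u a) := hw ▸ h3 _ w
    let ε : aff C c ≅ (Over.map c).obj X := Over.isoMk (Iso.refl _) (by
      change 𝟙 _ ≫ 𝟙 _ ≫ c = c
      rw [Category.id_comp, Category.id_comp])
    have h8 : GaPts.gaPt (aff C c) 1 = ε.hom ≫ GaPts.gaPt ((Over.map c).obj X) 1 := by
      apply GaPts.gaFn_injective
      rw [GaPts.gaFn_comp, GaPts.gaFn_gaPt, GaPts.gaFn_gaPt, map_one]
    have h9 : PtT (Chart.j D) (AddSubmonoid.toSubmonoid (AddSubmonoid.closure (D.P.root '' R')))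
        (GaPts.gaPt (aff C c) 1 ≫ D.u a) := by
      intro C' _ c' x
      rw [h8, Category.assoc, ← Category.assoc]
      exact h7 C' c' (x ≫ ε.hom)
    rw [← ClosedRoots.root_mem_closure_iff D.P R' hcl a]
    exact mem_of_ptT_pt D _ a c h9
  · exact mem_E_of_lift D h a (h4 a ((ClosedRoots.root_mem_closure_iff D.P R' hcl a).2 ha)) s

/-- closed sets of roots give subgroups of type (RC) -/
theorem Rts.isRC {D : Red.SplitRed G} {h : H ⟶ G} {R' : Set D.idx} (hR : Rts D h R')
    (hH : RedSub.IsTypeR h) (t : D.T ⟶ H) (ht : t ≫ h = D.i)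
    (hcl : ∀ a b c : D.idx, a ∈ R' → b ∈ R' → D.P.root a + D.P.root b = D.P.root c → c ∈ R') : RC.IsRC h := by
  refine RC.isRC_of_const D h hH t ht R' (fun s a => ?_) hcl
  have hne : Nonempty (Spec (CommRingCat.of (AlgebraicClosure (S.residueField s)))) :=
    ⟨(⊥ : PrimeSpectrum (AlgebraicClosure (S.residueField s)))⟩
  exact (hR.bc (Red.geomPt s)).lift_iff (RedSub.H648.TypeR.isTypeR_bc _ D.reductive hH) _
    (K194.Main1.bc_torus D h t ht _) a

/-- the set of roots of a subgroup of type (RC) is closed -/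
theorem Rts.closed [Nonempty S] {D : Red.SplitRed G} {h : H ⟶ G} {R' : Set D.idx} (hR : Rts D h R')
    (hH : RedSub.IsTypeR h) (t : D.T ⟶ H) (ht : t ≫ h = D.i) (hRC : RC.IsRC h) (a b c : D.idx) (ha : a ∈ R') (hb : b ∈ R')
    (habc : D.P.root a + D.P.root b = D.P.root c) : c ∈ R' := by
  obtain ⟨s⟩ := ‹Nonempty S›
  have hne : Nonempty (Spec (CommRingCat.of (AlgebraicClosure (S.residueField s)))) :=
    ⟨(⊥ : PrimeSpectrum (AlgebraicClosure (S.residueField s)))⟩
  have h1 := fun a => (hR.bc (Red.geomPt s)).lift_iff (RedSub.H648.TypeR.isTypeR_bc _ D.reductive hH) _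
    (K194.Main1.bc_torus D h t ht _) a
  exact (h1 c).1 (hRC s (splitBc _ D) _ (K194.Main1.bc_torus D h t ht _) a b c ((h1 a).2 ha) ((h1 b).2 hb) habc)

end K199.RtsM
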