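import Groth.Agent.RedSub.K199.RCRep
import Groth.Agent.RedSub.K194.QPDesc
import Groth.Agent.RedSub.H660.FinCop
import Groth.Agent.S2958

/-!
# Representability of the functor of subgroups of type (RC)

* `exists_split_spec` : étale local splittings over affine schemes;
* `exists_local`, `exists_represents` (closedness of the subgroups of type (RC) is a hypothesis `ClosedStmt`).
-/

set_option autoImplicit false
universe u

open CategoryTheory CategoryTheory.Limits AlgebraicGeometry Opposite MonoidalCategory CartesianMonoidalCategory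
  MonObj GrpObj

namespace K199.RCMain

open Groth.Agent Groth.Agent.Sga3B Groth.Agent.RedSub.H660.Classes Groth.Agent.RedSub.H660.Restrict
  Groth.Agent.RedSub.H647.SubF Groth.Agent.RedSub.H660.ConjRep K199.TypeRCov K199.RCRep

section geom

variable {A : CommRingCat.{u}} {J : Type u} [Finite J] (X : J → Over (Spec A))

omit [Finite J] in
lemma sig_hom : (sig X).hom = Limits.Sigma.map (fun j => (X j).hom) ≫ Sigma.desc (fun _ : J ↦ 𝟙 (Spec A)) := by
  refine Sigma.hom_ext _ _ fun i ↦ ?_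
  simp [sig]

lemma quasiCompact_sig (h : ∀ j, QuasiCompact (X j).hom) : QuasiCompact (sig X).hom := by
  have h2 : QuasiCompact (Limits.Sigma.map (fun j => (X j).hom)) :=
    Ega2.SigmaMap.sigmaMap_of_isZariskiLocalAtTarget (@QuasiCompact) _ h
  have h3 : IsFinite (Sigma.desc fun _ : J ↦ 𝟙 (Spec A)) := Ega2.SigmaMap.isFinite_fold A
  have h4 : QuasiCompact (Sigma.desc fun _ : J ↦ 𝟙 (Spec A)) := inferInstance
  rw [sig_hom]
  exact MorphismProperty.comp_mem @QuasiCompact _ _ h2 h4

lemma quasiSeparated_sig (h : ∀ j, QuasiSeparated (X j).hom) : QuasiSeparated (sig X).hom := by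
  have h2 : QuasiSeparated (Limits.Sigma.map (fun j => (X j).hom)) :=
    Ega2.SigmaMap.sigmaMap_of_isZariskiLocalAtTarget (@QuasiSeparated) _ h
  have h3 : IsFinite (Sigma.desc fun _ : J ↦ 𝟙 (Spec A)) := Ega2.SigmaMap.isFinite_fold A
  have h4 : QuasiSeparated (Sigma.desc fun _ : J ↦ 𝟙 (Spec A)) := inferInstance
  rw [sig_hom]
  exact MorphismProperty.comp_mem @QuasiSeparated _ _ h2 h4

end geom

variable {S : Scheme.{u}} {G : Over S} [GrpObj G]

/-- étale local splittings over affine schemes -/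
theorem exists_split_spec (hG : Red.IsReductive G) (s : S) : ∃ (A : CommRingCat.{u}) (v : Spec A ⟶ S), Etale v ∧
    s ∈ Set.range v ∧ Nonempty (Red.SplitRed (Red.bc v G)) := by
  obtain ⟨U, f, hf, ⟨u, hu⟩, ⟨D⟩⟩ := S2958.result G hG s
  obtain ⟨W, hW, huW, -⟩ := exists_isAffineOpen_mem_and_subset (x := u) (U := ⊤) trivial
  have hj : IsOpenImmersion hW.fromSpec := hW.isOpenImmersion_fromSpec
  obtain ⟨z, hz⟩ : u ∈ Set.range hW.fromSpec := by
    rw [hW.range_fromSpec]
    exact huW
  refine ⟨Γ(U, W), hW.fromSpec ≫ f, inferInstance, ⟨z, ?_⟩, ⟨Par.splitBcComp hW.fromSpec f D⟩⟩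
  rw [Scheme.Hom.comp_apply, hz]
  exact hu

variable (hcl : ClosedStmt.{u}) (hG : Red.IsReductive G)

include hcl in
/-- étale local representability -/
theorem exists_local (s : S) : ∃ (V : Scheme.{u}) (v : V ⟶ S), Etale v ∧ s ∈ Set.range v ∧ ∃ (A : Over V),
      Nonempty (((Over.map v).op ⋙ (good_RC.toClass hG).subsF).RepresentableBy A) ∧ Smooth A.hom ∧
        QuasiCompact A.hom ∧ QuasiSeparated A.hom := by
  obtain ⟨V, v, hv, hs, ⟨D⟩⟩ := exists_split_spec hG s
  obtain ⟨m⟩ := exists_mod D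
  obtain ⟨r, -⟩ := m.exists_rep hcl hG v
  have := D.fintypeIdx
  exact ⟨Spec V, v, hv, hs, sig m.X, representableBy_restrict v ⟨r⟩, RedSub.H660.FinCop.smooth_sig _ m.smX,
    quasiCompact_sig _ m.qcX, quasiSeparated_sig _ m.qsX⟩

include hcl in
/-- **Representability of the functor of subgroups of type (RC).** -/
theorem exists_represents :
    ∃ (M : Over S) (H : Over M.left) (_ : GrpObj H) (h : H ⟶ Red.bc M.hom G),
      (good_RC.toClass hG).Represents M h ∧ Smooth M.hom ∧
      LocallyOfFinitePresentation M.hom ∧ QuasiCompact M.hom ∧ QuasiSeparated M.hom ∧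
      RedSub.IsLocallyQuasiProjective M := by
  have h1 := exists_local hcl hG
  have := hG.1
  have := hG.2.1
  obtain ⟨M, H, _, h, hM, h2, h3, h4, h5⟩ := K194.QPDesc.exists_represents (good_RC.toClass hG)
    (fun hQ => hQ.2.2.1.2.1) (fun {S' f H _ h} hQ => by
      have := hQ.2.2.1.2.1
      let : GrpObj (Over.mk H.hom) := inferInstanceAs (GrpObj H)
      exact Sga3C.GrpIrr.geometricallyIrreducible_of_connected_fibres H.hom hQ.2.2.1.2.2.2.1)
    (good_RC.toClass_isLocal hG) (fun s => by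
      obtain ⟨V, v, hv, hs, A, hA, h1, h2, h3⟩ := h1 s
      exact ⟨V, v, hv, hs, A, hA, inferInstance, h2, h3⟩)
  refine ⟨M, H, _, h, hM, ?_, h2, h3, h4, h5⟩
  obtain ⟨r⟩ := (good_RC.toClass hG).representableBy hM
  exact (good_RC.toClass hG).prop_of_representableBy @Smooth r fun s => by
    obtain ⟨V, v, hv, hs, A, hA, h1, h2, h3⟩ := h1 s
    exact ⟨V, v, hv, hs, A, hA, h1⟩

include hcl hG in
/-- **The scheme of subgroups of type (RC).** -/
theorem main : ∃ (M : Over S) (H : Over M.left) (_ : GrpObj H) (h : H ⟶ Red.bc M.hom G), RedSub.IsTypeR h ∧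
      RC.IsRC h ∧
      (∀ (S' : Scheme.{u}) (f : S' ⟶ S) (H' : Over S') [GrpObj H'] (h' : H' ⟶ Red.bc f G), RedSub.IsTypeR h' →
        RC.IsRC h' → ∃! g : S' ⟶ M.left, g ≫ M.hom = f ∧ RedSub.SamePoints G f h' M h g) ∧
      Smooth M.hom ∧ LocallyOfFinitePresentation M.hom ∧ QuasiCompact M.hom ∧ QuasiSeparated M.hom ∧
      RedSub.IsLocallyQuasiProjective M := by
  obtain ⟨M, H, _, h, hM, h1, h2, h3, h4, h5⟩ := exists_represents hcl hG
  refine ⟨M, H, inferInstance, h, hM.1.2.2.1, hM.1.2.2.2, fun S' f H' _ h' hT hRC => hM.2 S' f H' h' ?_,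
    h1, h2, h3, h4, h5⟩
  have hG' := RedBcAny636.isReductive_bc f hG
  exact ⟨hG', hcl hG' h' hT hRC, hT, hRC⟩

end K199.RCMain
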