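import Groth.Agent.RedSub.H648.TypeR
import Groth.Agent.RedSub.H647.SubPt
import Groth.Agent.Sga3B.RedBcAny636
import Groth.Agent.Sga3C.QuotRel

/-!
# Pull back of a family of subgroups of type (R); coequalizers of classifying maps
-/

set_option autoImplicit false
universe u

open CategoryTheory CategoryTheory.Limits MonoidalCategory CartesianMonoidalCategory MonObj GrpObj AlgebraicGeometry

namespace K199.TypeRPull

open Groth.Agent Groth.Agent.Sga3B Groth.Agent.Sga3B.MT Groth.Agent.RedSub.H647.SubPt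

variable {S S' S'' : Scheme.{u}}

lemma und_bcCompIso_symm (q : S'' ⟶ S') (f : S' ⟶ S) (G : Over S) [GrpObj G] :
    (RedIso.und (BcIso.bcCompIso q f G).symm).hom = (Over.pullbackComp q f).inv.app G := by
  have h1 := BcNat.und_bcCompIso q f G
  have h2 : (RedIso.und (BcIso.bcCompIso q f G).symm).hom ≫
      (RedIso.und (BcIso.bcCompIso q f G)).hom = 𝟙 _ := by
    rw [BcNat.und_symm, Iso.inv_hom_id]
  rw [h1] at h2
  have h3 : (Over.pullbackComp q f).inv.app G ≫ (Over.pullbackComp q f).hom.app G = 𝟙 _ := by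
    simp
  exact (cancel_mono ((Over.pullbackComp q f).hom.app G)).1 (h2.trans h3.symm)

/-- base change of a subgroup of type (R) of a base change of `G` -/
theorem isTypeR_bcSub (q : S'' ⟶ S') {f : S' ⟶ S} {G : Over S} [GrpObj G] (hG : Red.IsReductive G)
    {H : Over S'} [GrpObj H] {h : H ⟶ Red.bc f G} (hh : _root_.RedSub.IsTypeR h) :
    _root_.RedSub.IsTypeR (bcSub q h) := by
  have h1 := Groth.Agent.RedSub.H648.TypeR.isTypeR_bc q (RedBcAny636.isReductive_bc f hG) hh
  refine Groth.Agent.RedSub.H648.TypeR.isTypeR_of_arrow (Iso.refl _) (BcIso.bcCompIso q f G).symm ?_ h1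
  rw [und_bcCompIso_symm]
  exact (Category.id_comp _).symm

/-- The pull back of a family of subgroups of type (R) along a morphism to the parameter space. -/
theorem exists_pull {G : Over S} [GrpObj G] (hG : Red.IsReductive G) {M : Over S} {H : Over M.left} [GrpObj H]
    (h : H ⟶ Red.bc M.hom G) (hh : _root_.RedSub.IsTypeR h) (g : S' ⟶ M.left) (f : S' ⟶ S) (hf : g ≫ M.hom = f) :
    ∃ (H' : Over S') (_ : GrpObj H') (h' : H' ⟶ Red.bc f G), _root_.RedSub.IsTypeR h' ∧
      _root_.RedSub.SamePoints G f h' M h g := by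
  subst hf
  exact ⟨Red.bc g H, inferInstance, bcSub g h, isTypeR_bcSub g hG hh, fun X y gg => pt_bcSub g h y gg⟩

end K199.TypeRPull
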