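import Groth.Agent.Sga3B.IsomHdPin848
import Groth.Agent.Sga3B.SplitRedField415
import Groth.Agent.Sga3B.RootSplit876
import Groth.Agent.Sga3B.TorConj
import Groth.Agent.RedSub.K196.Cov
import Groth.Prelude.Def_RedSub

/-!
# Comparison of two splittings of a reductive group with the same torus

* `lift_of_isRootHom`: a root homomorphism `v` for the root `a` factors through a subgroup `H` as soon as `D.u a` does;
* `exists_cmp`: over a field, two splittings `D, D'` with the same torus: an isomorphism of the character lattices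
  matching the roots, and matching the roots of subgroups.
-/

set_option autoImplicit false
universe u

open CategoryTheory MonoidalCategory CartesianMonoidalCategory MonObj GrpObj AlgebraicGeometry Limits

namespace K199.RootCmp

open Groth.Agent Groth.Agent.Sga3B DSPts GaPts IsoFam IsomCore IsomDefs Cell PinMod IsomHd848

variable {S : Scheme.{u}} {G H : Over S} [GrpObj G]

/-- a root homomorphism for the root `a` factors through a subgroup as soon as `D.u a` does -/
theorem lift_of_isRootHom [Nonempty S] (D : Red.SplitRed G) {a : D.idx} {v : Red.Ga S ⟶ G}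
    (hv : Red.IsRootHom D.i (D.split.hom.hom.hom ≫ Red.chi S (D.P.root a)) v) (h : H ⟶ G) [Mono h]
    (hw : ∃ w : Red.Ga S ⟶ H, w ≫ h = D.u a) : ∃ w : Red.Ga S ⟶ H, w ≫ h = v := by
  have hred : D.P.IsReduced := SplitReduced415.isReduced D
  have hvm := hv.1
  have hm : Mono h.left := inferInstanceAs (Mono ((Over.forget S).map h))
  obtain ⟨w, hw⟩ := hw
  refine K196.Cov.exists_fac h v fun {R} _ s _ {B} _ _ ψ _ => ?_
  obtain ⟨y, rfl⟩ := exists_gaPt s ψ
  obtain ⟨r, hr⟩ := rootUniqAt D s a (fun B _ _ x => gaPt (tB s B) (fnOf s x) ≫ v)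
    (fun {B C} _ _ _ _ φ x => by rw [← Category.assoc, tMap_gaPt])
    (fun B _ _ => by
      have h0 : fnOf s (0 : B) = 0 := fnOf_zero s
      rw [h0, gaPt_zero, MonObj.one_comp])
    (fun {B} _ _ t x => by
      obtain ⟨y, hy, hy'⟩ := hv.2.2 (tB s B) (dsEquiv (tB s B) D.M (chΓ s t) ≫ D.split.inv.hom.hom)
        (gaPt (tB s B) (fnOf s x))
      have h4 : D.split.inv.hom.hom ≫ D.split.hom.hom.hom = 𝟙 _ :=
        congrArg (fun z => z.hom.hom) D.split.inv_hom_id
      have h2 : (dsEquiv (tB s B) D.M (chΓ s t) ≫ D.split.inv.hom.hom) ≫ D.split.hom.hom.hom ≫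
          Red.chi S (D.P.root a) = dsEquiv (tB s B) D.M (chΓ s t) ≫ Red.chi S (D.P.root a) := by
        rw [Category.assoc, ← Category.assoc D.split.inv.hom.hom, h4, Category.id_comp]
      rw [h2, gmFn_chi, gaFn_gaPt, dsChar_dsEquiv] at hy'
      have h3 : y = gaPt (tB s B) (fnOf s (TPt.ch (D.P.root a) t * x)) := by
        apply gaFn_injective
        rw [hy', gaFn_gaPt, IsomHd848.fnOf_mul]
        rfl
      have h1 : (dsEquiv (tB s B) D.M (chΓ s t) ≫ D.split.inv.hom.hom) ≫ D.i =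
        dT D (dsEquiv (tB s B) D.M (chΓ s t)) := Category.assoc _ _ _
      rw [h1] at hy
      rw [← hy, h3])
  refine ⟨gaPt (tB s B) (fnOf s (algebraMap R B r * y)) ≫ w, ?_⟩
  rw [Category.assoc, hw]
  exact (hr y).symm

section field

variable {K : Type u} [Field K] {G : Over (Spec (CommRingCat.of K))} [GrpObj G]

lemma chi_comp {S : Scheme.{u}} {M N : Type} [AddCommGroup M] [AddCommGroup N] (θ : N →+ M) (n : N) :
    Red.DSmap S θ ≫ Red.chi S n = Red.chi S (θ n) := by
  rw [Red.chi, Red.chi, Trans894.DSmap_comp]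
  congr 1
  ext
  simp

/-- transport of a root homomorphism along an isomorphism of tori -/
theorem isRootHom_of_torus (D D' : Red.SplitRed G) (τ : D'.T ≅ D.T) [IsMonHom τ.hom] (hτ : τ.hom ≫ D.i = D'.i)
    (θ : D'.M ≃+ D.M) (hθ : D.split.inv.hom.hom ≫ τ.inv ≫ D'.split.hom.hom.hom =
      Red.DSmap (Spec (CommRingCat.of K)) θ.toAddMonoidHom) (a' : D'.idx) :
    Red.IsRootHom D.i (D.split.hom.hom.hom ≫ Red.chi _ (θ (D'.P.root a'))) (D'.u a') := by
  obtain ⟨h1, h2, h3⟩ := D'.rootHom a'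
  refine ⟨h1, h2, fun X t x => ?_⟩
  obtain ⟨y, hy, hy'⟩ := h3 X (t ≫ τ.inv) x
  refine ⟨y, ?_, ?_⟩
  · rw [hy]
    have : (t ≫ τ.inv) ≫ D'.i = t ≫ D.i := by
      rw [← hτ, Category.assoc, Iso.inv_hom_id_assoc]
    rw [this]
  · rw [hy']
    congr 2
    have h4 : D.split.hom.hom.hom ≫ D.split.inv.hom.hom = 𝟙 _ :=
      congrArg (fun z => z.hom.hom) D.split.hom_inv_id
    have h5 := congrArg (fun z => D.split.hom.hom.hom ≫ z) hθ
    simp only at h5
    rw [← Category.assoc, h4, Category.id_comp] at h5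
    have h6 : Red.DSmap (Spec (CommRingCat.of K)) θ.toAddMonoidHom ≫ Red.chi _ (D'.P.root a') =
      Red.chi _ (θ (D'.P.root a')) := chi_comp _ _
    rw [← h6, ← Category.assoc D.split.hom.hom.hom, ← h5]
    simp only [Category.assoc]

/-- **Comparison of two splittings with the same torus.** -/
theorem exists_cmp (D D' : Red.SplitRed G) (τ : D'.T ≅ D.T) [IsMonHom τ.hom] (hτ : τ.hom ≫ D.i = D'.i) :
    ∃ θ : D'.M ≃+ D.M, (∀ a' : D'.idx, ∃ a : D.idx, D.P.root a = θ (D'.P.root a') ∧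
        ∀ {H : Over (Spec (CommRingCat.of K))} (h : H ⟶ G) [Mono h],
          (∃ v : Red.Ga _ ⟶ H, v ≫ h = D'.u a') ↔ ∃ v : Red.Ga _ ⟶ H, v ≫ h = D.u a) := by
  have hτ' : IsMonHom τ.inv := inferInstance
  let φ : Red.DS (Spec (CommRingCat.of K)) D.M ⟶ Red.DS (Spec (CommRingCat.of K)) D'.M :=
    D.split.inv.hom.hom ≫ τ.inv ≫ D'.split.hom.hom.hom
  have hφ1 : IsMonHom φ := inferInstance
  have e1 : IsIso D.split.inv.hom.hom := (RedIso.und D.split).isIso_inv
  have e2 : IsIso D'.split.hom.hom.hom := (RedIso.und D'.split).isIso_hom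
  have hφ2 : IsIso φ := inferInstance
  obtain ⟨θ, hθ⟩ := TorConj.exists_addEquiv φ
  have hred : D.P.IsReduced := SplitReduced415.isReduced D
  have hred' : D'.P.IsReduced := SplitReduced415.isReduced D'
  have hθ2 : D'.split.inv.hom.hom ≫ τ.symm.inv ≫ D.split.hom.hom.hom =
      Red.DSmap (Spec (CommRingCat.of K)) θ.symm.toAddMonoidHom := by
    have h7 : Red.DSmap (Spec (CommRingCat.of K)) θ.symm.toAddMonoidHom ≫ φ = 𝟙 _ := by
      rw [hθ]
      exact (Trans894.DSiso₀ _ θ).inv_hom_id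
    have h8 : IsIso φ := hφ2
    rw [← cancel_mono φ, h7]
    simp only [φ, Category.assoc, Iso.symm_inv]
    have h9 : D.split.hom.hom.hom ≫ D.split.inv.hom.hom = 𝟙 _ :=
      congrArg (fun z => z.hom.hom) D.split.hom_inv_id
    have h10 : D'.split.inv.hom.hom ≫ D'.split.hom.hom.hom = 𝟙 _ :=
      congrArg (fun z => z.hom.hom) D'.split.inv_hom_id
    rw [reassoc_of% h9, Iso.hom_inv_id_assoc, h10]
  have hne : ∀ a' : D'.idx, θ (D'.P.root a') ≠ 0 := by
    intro a' h0
    rw [map_eq_zero_iff θ θ.injective] at h0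
    exact D'.P.ne_zero a' h0
  refine ⟨θ, fun a' => ?_⟩
  have hr := isRootHom_of_torus D D' τ hτ θ hθ a'
  obtain ⟨a, ha⟩ := RootSplit876.exists_root D (hne a') hr
  refine ⟨a, ha, fun {H} h _ => ⟨?_, ?_⟩⟩
  · have h11 : IsMonHom τ.symm.hom := hτ'
    have hr2 := isRootHom_of_torus D' D τ.symm (by rw [← hτ]; simp) θ.symm hθ2 a
    have h12 : θ.symm (D.P.root a) = D'.P.root a' := by rw [ha, AddEquiv.symm_apply_apply]
    rw [h12] at hr2
    exact fun h13 => lift_of_isRootHom D' hr2 h h13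
  · rw [← ha] at hr
    exact fun h13 => lift_of_isRootHom D hr h h13

end field

end K199.RootCmp
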