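import Groth.Agent.RedSub.K199.ConjRepN

/-!
# Subgroups which are étale locally conjugate to one of `q j : Q j ⟶ G_{S j}`, `i j : S j ⟶ S` a monomorphism

`exists_representableBy`: let `𝒬` be an étale local class of subgroups of `G`, `i j : S j ⟶ S` monomorphisms (closed
subschemes), `q j : Q j ⟶ G_{S j}` with normaliser `n j : N j ⟶ G_{S j}` and quotient `π j : G_{S j} ⟶ X j`. If all
members of `𝒬` over `T` are étale locally conjugate to one of the `q j` (in particular, `T ⟶ S` factors locally through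
one of the `S j`), and the `q j` are pairwise nowhere conjugate, then `∐ X j` represents the functor of subgroups of
class `𝒬`; the universal conjugate `univ i q j` over `G_{S j}` is the class of `π j`.
-/

set_option autoImplicit false
universe u

open CategoryTheory CategoryTheory.Limits AlgebraicGeometry Opposite MonoidalCategory CartesianMonoidalCategory
  MonObj GrpObj

namespace K199.ConjStrat

open Groth.Agent Groth.Agent.Sga3B Groth.Agent.Sga3B.BcPts Groth.Agent.Sga3B.MT Groth.Agent.Sga3B.RepDescent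
open Groth.Agent.RedSub.H647.SubPt Groth.Agent.RedSub.H647.SubF Groth.Agent.RedSub.H647.SubF.SubClass
open Groth.Agent.Redsub.H649.ConjPts (fam InC taut)
open Groth.Agent.RedSub.H660 Groth.Agent.RedSub.H660.ConjRep Groth.Agent.RedSub.H660.Restrict

variable {S : Scheme.{u}} {G : Over S} [GrpObj G]

/-- two pulled back sections are equal iff the points agree -/
lemma map_ofSub_eq_map_ofSub_iff (𝒬 : SubClass G) {T T₁ T₂ : Over S} (a : T ⟶ T₁) (b : T ⟶ T₂)
    {H₁ : Over T₁.left} [GrpObj H₁] {h₁ : H₁ ⟶ Red.bc T₁.hom G} (hQ₁ : 𝒬.Q T₁.hom h₁)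
    {H₂ : Over T₂.left} [GrpObj H₂] {h₂ : H₂ ⟶ Red.bc T₂.hom G} (hQ₂ : 𝒬.Q T₂.hom h₂) :
    𝒬.subsF.map a.op (𝒬.ofSub hQ₁) = 𝒬.subsF.map b.op (𝒬.ofSub hQ₂) ↔
      ∀ (X : Scheme.{u}) (y : X ⟶ T.left) (c : X ⟶ G.left), Pt h₁ (y ≫ a.left) c ↔ Pt h₂ (y ≫ b.left) c := by
  obtain ⟨H', _, h', hQ', e⟩ := 𝒬.exists_bc a hQ₁
  rw [(𝒬.map_ofSub_eq_iff a hQ₁ hQ').2 e, eq_comm, 𝒬.map_ofSub_eq_iff]
  simp only [e]

variable {J : Type u} {Sj : J → Scheme.{u}} (i : ∀ j, Sj j ⟶ S) {Q : ∀ j, Over (Sj j)} (q : ∀ j, Q j ⟶ Red.bc (i j) G)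

/-- `G_{S j}` over `S` -/
noncomputable abbrev GS (G : Over S) (j : J) : Over S := (Over.map (i j)).obj (Red.bc (i j) G)

/-- the universal conjugate of `q j` over `G_{S j}` -/
noncomputable def univ (j : J) : Red.bc (Red.bc (i j) G).hom (Q j) ⟶ Red.bc (GS i G j).hom G :=
  down (i j) (fam (q j) (taut (Red.bc (i j) G)))

/-- points of the universal conjugate -/
lemma pt_univ_iff {j : J} {X : Over (Sj j)} (a c : X ⟶ Red.bc (i j) G) :
    Pt (univ i q j) a.left (c.left ≫ pullback.fst G.hom (i j)) ↔ InC (q j) a c := by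
  have h0 := pt_iff_down (i j) (fam (q j) (taut (Red.bc (i j) G))) a.left c.left
  have h1 : c.left ≫ pullback.snd G.hom (i j) = a.left ≫ (Red.bc (i j) G).hom := (Over.w c).trans (Over.w a).symm
  have h2 := pt_fam_iff (q j) (taut (Red.bc (i j) G)) (Over.homMk a.left (Over.w a) : X ⟶ Over.mk _) c
  have h3 : (Over.homMk a.left (Over.w a) : X ⟶ Over.mk (Red.bc (i j) G).hom) ≫ taut (Red.bc (i j) G) = a := by
    apply Over.OverMorphism.ext
    exact Category.comp_id _
  rw [h3] at h2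
  rw [← h2]
  exact ⟨fun h => h0.2 ⟨h1, h⟩, fun h => (h0.1 h).2⟩

/-- the universal conjugate and `fam` -/
lemma pt_down_fam_iff {j : J} {V : Scheme.{u}} {w : V ⟶ Sj j} (g : Over.mk w ⟶ Red.bc (i j) G) {X : Scheme.{u}}
    (y : X ⟶ V) (c : X ⟶ G.left) : Pt (down (i j) (fam (q j) g)) y c ↔ Pt (univ i q j) (y ≫ g.left) c := by
  refine (same_iff_down (i j) (q := w) (q₁ := (Red.bc (i j) G).hom) (g := g.left) (Over.w g) (fam (q j) g)
    (fam (q j) (taut _))).1 (fun X y c => ?_) X y c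
  refine (same_iff g.left (Over.w g) (fam (q j) g) (fam (q j) (taut _))).2 (fun X y c => ?_) X y c
  rw [ConjRep.pt_fam_iff]
  have h1 := ConjRep.pt_fam_iff (q j) (taut (Red.bc (i j) G)) (Over.homMk (y.left ≫ g.left) (by
    rw [Category.assoc]
    exact (congrArg (y.left ≫ ·) (Over.w g)).trans (Over.w y)) : X ⟶ Over.mk (Red.bc (i j) G).hom) c
  refine Iff.trans ?_ h1.symm
  have e : y ≫ g = (Over.homMk (y.left ≫ g.left) (by
    rw [Category.assoc]
    exact (congrArg (y.left ≫ ·) (Over.w g)).trans (Over.w y)) : X ⟶ Over.mk (Red.bc (i j) G).hom) ≫ taut _ := by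
    apply Over.OverMorphism.ext
    exact (Category.comp_id _).symm
  rw [e]

/-- the universal conjugate at two points -/
lemma univ_same_iff {j : J} {X : Over (Sj j)} (a b : X ⟶ Red.bc (i j) G) :
    (∀ (Y : Scheme.{u}) (y : Y ⟶ X.left) (c : Y ⟶ G.left), Pt (univ i q j) (y ≫ a.left) c ↔
      Pt (univ i q j) (y ≫ b.left) c) ↔ RedSub.ConjEq (q j) (q j) (b⁻¹ * a) := by
  rw [← inC_iff_conjEq]
  constructor
  · intro h Y x c
    have h1 := h Y.left x.left (c.left ≫ pullback.fst G.hom (i j))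
    rw [← Over.comp_left, ← Over.comp_left, pt_univ_iff, pt_univ_iff] at h1
    exact h1
  · intro h Y y c
    have e1 := Over.w a
    have e2 := Over.w b
    by_cases w : c ≫ G.hom = (y ≫ X.hom) ≫ i j
    · let Y' : Over (Sj j) := Over.mk (y ≫ X.hom)
      let x' : Y' ⟶ X := Over.homMk y
      let c' : Y' ⟶ Red.bc (i j) G := Over.homMk (pullback.lift c (y ≫ X.hom) w) (pullback.lift_snd _ _ _)
      have h2 := h Y' x' c'
      rw [← pt_univ_iff, ← pt_univ_iff] at h2
      have e3 : c'.left ≫ pullback.fst G.hom (i j) = c := pullback.lift_fst _ _ _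
      rw [e3] at h2
      exact h2
    · constructor
      · intro h1
        refine (w ?_).elim
        have h2 := h1.w.symm
        change c ≫ G.hom = (y ≫ a.left) ≫ (Red.bc (i j) G).hom ≫ i j at h2
        rw [h2, ← e1]
        simp only [Category.assoc]
      · intro h1
        refine (w ?_).elim
        have h2 := h1.w.symm
        change c ≫ G.hom = (y ≫ b.left) ≫ (Red.bc (i j) G).hom ≫ i j at h2
        rw [h2, ← e2]
        simp only [Category.assoc]

section main

variable {i q} {𝒬 : SubClass G} [∀ j, GrpObj (Q j)] {N : ∀ j, Over (Sj j)} [∀ j, GrpObj (N j)]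
  (n : ∀ j, N j ⟶ Red.bc (i j) G)

omit [∀ j, GrpObj (Q j)] in
/-- equality of classes in the quotient -/
lemma comp_eq_iff_conjEq {j : J} {T : Over (Sj j)} {X : Over (Sj j)} {π : Red.bc (i j) G ⟶ X}
    (hN : Red.IsNormalizerOf (q j) (n j)) (hπ : RedSub.IsQuotient (n j) π) (a b : T ⟶ Red.bc (i j) G) :
    a ≫ π = b ≫ π ↔ ∀ (Y : Scheme.{u}) (y : Y ⟶ T.left) (c : Y ⟶ G.left), Pt (univ i q j) (y ≫ a.left) c ↔
      Pt (univ i q j) (y ≫ b.left) c := by
  refine (comp_quot_eq_iff (J := PUnit.{u + 1}) (Q := fun _ => N j) (q := fun _ => n j) (j := PUnit.unit) hπ a b).trans ?_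
  rw [← ConjRepN.conjEq_self_iff hN, univ_same_iff]

omit [∀ j, GrpObj (Q j)] in
lemma map_comp_eq_iff [∀ j, Mono (i j)] {j : J} {T : Over S} {X : Over (Sj j)} {π : Red.bc (i j) G ⟶ X}
    (hN : Red.IsNormalizerOf (q j) (n j)) (hπ : RedSub.IsQuotient (n j) π) (a b : T ⟶ GS i G j) :
    a ≫ (Over.map (i j)).map π = b ≫ (Over.map (i j)).map π ↔
      ∀ (Y : Scheme.{u}) (y : Y ⟶ T.left) (c : Y ⟶ G.left), Pt (univ i q j) (y ≫ a.left) c ↔
        Pt (univ i q j) (y ≫ b.left) c := by
  have hw : a.left ≫ (Red.bc (i j) G).hom = b.left ≫ (Red.bc (i j) G).hom := by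
    have h1 := (Over.w a).trans (Over.w b).symm
    change a.left ≫ (Red.bc (i j) G).hom ≫ i j = b.left ≫ (Red.bc (i j) G).hom ≫ i j at h1
    rw [← Category.assoc, ← Category.assoc] at h1
    exact (cancel_mono (i j)).1 h1
  let T' : Over (Sj j) := Over.mk (a.left ≫ (Red.bc (i j) G).hom)
  let a' : T' ⟶ Red.bc (i j) G := Over.homMk a.left rfl
  let b' : T' ⟶ Red.bc (i j) G := Over.homMk b.left hw.symm
  have h1 := comp_eq_iff_conjEq n hN hπ a' b'
  have h2 : (a ≫ (Over.map (i j)).map π = b ≫ (Over.map (i j)).map π) ↔ a' ≫ π = b' ≫ π := by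
    constructor
    · intro h
      apply Over.OverMorphism.ext
      exact congrArg (fun z => z.left) h
    · intro h
      apply Over.OverMorphism.ext
      exact congrArg (fun z => z.left) h
  rw [h2, h1]
  exact Iff.rfl

/-- the class of the universal conjugate -/
noncomputable def clU (hfam : ∀ j, 𝒬.Q (GS i G j).hom (univ i q j)) (j : J) : 𝒬.subsF.obj (op (GS i G j)) :=
  𝒬.ofSub (T := GS i G j) (hfam j)

/-- **Subgroups étale locally conjugate to one of the `q j` are represented by `∐ G_{S j} / N j`.** -/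
theorem exists_representableBy [∀ j, Mono (i j)] (hloc : 𝒬.IsLocal (fun {_ _ _} q => SubClass.EtCov q))
    (hfam : ∀ j, 𝒬.Q (GS i G j).hom (univ i q j))
    (hlocIn : ∀ {S' : Scheme.{u}} (f : S' ⟶ S) {H : Over S'} [GrpObj H] (h : H ⟶ Red.bc f G), 𝒬.Q f h →
      ∀ s : S', ∃ (V : Scheme.{u}) (p : V ⟶ S'), Etale p ∧ s ∈ Set.range p ∧ ∃ (j : J) (w : V ⟶ Sj j)
        (_ : w ≫ i j = p ≫ f) (g : Over.mk w ⟶ Red.bc (i j) G),
        ∀ (X : Scheme.{u}) (y : X ⟶ V) (c : X ⟶ G.left), Pt (down (i j) (fam (q j) g)) y c ↔ Pt h (y ≫ p) c)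
    (hN : ∀ j, Red.IsNormalizerOf (q j) (n j))
    (hne : ∀ (j k : J) (T : Over S) (a : T ⟶ GS i G j) (b : T ⟶ GS i G k), Nonempty T.left →
      (∀ (X : Scheme.{u}) (y : X ⟶ T.left) (c : X ⟶ G.left), Pt (univ i q j) (y ≫ a.left) c ↔
        Pt (univ i q k) (y ≫ b.left) c) → j = k)
    (X : ∀ j, Over (Sj j)) (π : ∀ j, Red.bc (i j) G ⟶ X j) (hπ : ∀ j, RedSub.IsQuotient (n j) (π j))
    (hsm : ∀ j, Smooth (π j).left) :
    ∃ r : 𝒬.subsF.RepresentableBy (sig fun j => (Over.map (i j)).obj (X j)),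
      ∀ j, r.homEquiv ((Over.map (i j)).map (π j) ≫ sigι (fun j => (Over.map (i j)).obj (X j)) j) = clU hfam j := by
  have hF : IsEtSheaf 𝒬.subsF := 𝒬.isEtSheaf_subsF hloc
  refine QuotSheaf.exists_representableBy hF (fun j => GS i G j) _
    (fun j => (Over.map (i j)).map (π j) ≫ sigι (fun j => (Over.map (i j)).obj (X j)) j) (clU hfam)
    (gen_of_smooth _ _ _ ?_ ?_) ?_ ?_
  · intro j
    have h1 : Smooth ((Over.map (i j)).map (π j)).left := hsm j
    rw [Over.comp_left]
    infer_instance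
  · intro x
    obtain ⟨j, y, rfl⟩ := exists_sigι (fun j => (Over.map (i j)).obj (X j)) x
    have h1 := (hπ j).1
    have h2 : Surjective ((Over.map (i j)).map (π j)).left := h1
    obtain ⟨z, rfl⟩ := ((Over.map (i j)).map (π j)).left.surjective y
    exact ⟨j, z, by rw [Over.comp_left, Scheme.Hom.comp_apply]⟩
  · intro T x t
    obtain ⟨H, _, h, hQ, rfl⟩ := 𝒬.exists_ofSub x
    obtain ⟨V, p, h1, h2, j, w, hw, g, hg⟩ := hlocIn T.hom h hQ t
    have hg' : g.left ≫ (GS i G j).hom = p ≫ T.hom := by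
      rw [← hw]
      have h3 := Over.w g
      change g.left ≫ (Red.bc (i j) G).hom ≫ i j = w ≫ i j
      rw [← Category.assoc, h3]
      rfl
    refine ⟨Over.mk (p ≫ T.hom), Over.homMk p, h1, h2, j, Over.homMk g.left hg', ?_⟩
    rw [clU, map_ofSub_eq_map_ofSub_iff]
    intro Y y c
    exact (pt_down_fam_iff i q g y c).symm.trans (hg Y y c)
  · intro j k T a b
    by_cases hT : Nonempty T.left
    · have key : ∀ (k : J) (_ : j = k) (b : T ⟶ GS i G k),
          (a ≫ (Over.map (i j)).map (π j) ≫ sigι (fun j => (Over.map (i j)).obj (X j)) j =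
            b ≫ (Over.map (i k)).map (π k) ≫ sigι (fun j => (Over.map (i j)).obj (X j)) k ↔
          𝒬.subsF.map a.op (clU hfam j) = 𝒬.subsF.map b.op (clU hfam k)) := by
        rintro _ rfl b
        rw [← Category.assoc, ← Category.assoc, cancel_mono, clU, map_ofSub_eq_map_ofSub_iff]
        exact map_comp_eq_iff n (hN j) (hπ j) a b
      constructor
      · intro h
        obtain ⟨t⟩ := hT
        have hjk := eq_of_sigι_eq (fun j => (Over.map (i j)).obj (X j)) t (a ≫ (Over.map (i j)).map (π j))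
          (b ≫ (Over.map (i k)).map (π k)) (by rw [Category.assoc, Category.assoc, h])
        exact (key k hjk b).1 h
      · intro h
        have h' := h
        rw [clU, clU, map_ofSub_eq_map_ofSub_iff] at h'
        exact (key k (hne j k T a b hT h') b).2 h
    · rw [not_nonempty_iff] at hT
      have h1 : (a ≫ (Over.map (i j)).map (π j) ≫ sigι (fun j => (Over.map (i j)).obj (X j)) j) =
          (b ≫ (Over.map (i k)).map (π k) ≫ sigι (fun j => (Over.map (i j)).obj (X j)) k) := by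
        apply Over.OverMorphism.ext
        exact (isInitialOfIsEmpty (X := T.left)).hom_ext _ _
      have h2 : 𝒬.subsF.map a.op (clU hfam j) = 𝒬.subsF.map b.op (clU hfam k) :=
        QuotSheaf.sheaf_ext hF (K := PEmpty) (fun k => k.elim) (fun k => k.elim) (fun k => k.elim)
          (fun t => (hT.false t).elim) (fun k => k.elim)
      exact ⟨fun _ => h2, fun _ => h1⟩

end main

end K199.ConjStrat
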