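import Groth.Agent.RedSub.K199.RCGeom

/-!
# Subgroups of type (RC): base change, étale descent, the split case

`IsRC h`: on every geometric fibre the roots of `H` form a closed set (the condition of S5573, S5575, S6116, S6118).

* `closedAt_bc_iff`: extension of algebraically closed fields; `closedAt_point_iff`: any geometric point;
* `IsRC.bc`, `IsRC.of_arrow`, `isRC_of_surj`, `isRC_of_cover`;
* `isRC_iff` (split, any base), `isRC_iff_of_connected`.
-/

set_option autoImplicit false
universe u

open CategoryTheory MonoidalCategory CartesianMonoidalCategory MonObj GrpObj AlgebraicGeometry Limits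

namespace K199.RC

open Groth.Agent Groth.Agent.Sga3B Groth.Agent.Sga3B.RedIso Groth.Agent.Sga3B.SplitIso848
  Groth.Agent.Sga3B.SplitBc264 Groth.Agent.Sga3B.BcNat

section field

variable {K L : Type u} [Field K] [IsAlgClosed K] [Field L] [IsAlgClosed L] {G H : Over (Spec (CommRingCat.of K))}
  [GrpObj G] [GrpObj H]

/-- the closedness of the set of roots is invariant under extensions of algebraically closed fields -/
theorem closedAt_bc_iff (hG : Red.IsReductive G) (h : H ⟶ G) (hH : RedSub.IsTypeR h)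
    (x : Spec (CommRingCat.of L) ⟶ Spec (CommRingCat.of K)) :
    ClosedAt ((Over.pullback x).map h) ↔ ClosedAt h := by
  obtain ⟨D, t, ht⟩ := HasSplit.geom hG h hH
  have hc : ConnectedSpace (Spec (CommRingCat.of K)) :=
    inferInstanceAs (ConnectedSpace (PrimeSpectrum K))
  have h1 := fun a => K194.Main1.roots_fibre D h hH t ht x a
  have h2 := K194.Main1.bc_torus D h t ht x
  have h3 := K194.Main1.isTypeR_fibre D h hH t ht x
  constructor
  · intro hcl
    refine closedAt_of_split h hH D t ht fun a b c ha hb habc => ?_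
    rw [← h1] at ha hb ⊢
    exact hcl (splitBc x D) _ h2 a b c ha hb habc
  · intro hcl
    refine closedAt_of_split _ h3 (splitBc x D) _ h2 fun a b c ha hb habc => ?_
    rw [h1] at ha hb ⊢
    exact hcl D t ht a b c ha hb habc

end field

variable {S S' : Scheme.{u}} {G H G' H' : Over S} [GrpObj G] [GrpObj H] [GrpObj G'] [GrpObj H']

/-- On every geometric fibre the set of roots of `H` is closed. -/
def IsRC (h : H ⟶ G) : Prop := ∀ s : S, ClosedAt ((Over.pullback (Red.geomPt s)).map h)

theorem closedAt_fib {K L : Type u} [Field K] [IsAlgClosed K] [Field L] [IsAlgClosed L]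
    {θ : Spec (CommRingCat.of L) ⟶ Spec (CommRingCat.of K)} {g : Spec (CommRingCat.of K) ⟶ S}
    {g' : Spec (CommRingCat.of L) ⟶ S'} {f : S' ⟶ S} (w : θ ≫ g = g' ≫ f) (hG : Red.IsReductive G) (h : H ⟶ G)
    (hH : RedSub.IsTypeR h) : ClosedAt ((Over.pullback g').map ((Over.pullback f).map h)) ↔
      ClosedAt ((Over.pullback g).map h) := by
  rw [← closedAt_bc_iff (RedBcAny636.isReductive_bc g hG) _ (RedSub.H648.TypeR.isTypeR_bc g hG hH) θ]
  have h1 := AlgBc.fib_arrow w h
  constructor
  · intro hc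
    refine hc.of_iso (fibIso w G) (und (fibIso w H)) ?_
    have h2 : (und (fibIso w G)).hom = (und (fibIso w G).symm).inv := rfl
    have h3 : (und (fibIso w H)).hom = (und (fibIso w H).symm).inv := rfl
    rw [h2, h3, Iso.comp_inv_eq, Category.assoc, h1, Iso.inv_hom_id_assoc]
  · intro hc
    exact hc.of_iso (fibIso w G).symm (und (fibIso w H).symm) h1

/-- **any geometric point** -/
theorem closedAt_point_iff (hG : Red.IsReductive G) (h : H ⟶ G) (hH : RedSub.IsTypeR h) {K : Type u} [Field K]
    [IsAlgClosed K] (x : Spec (CommRingCat.of K) ⟶ S) :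
    ClosedAt ((Over.pullback x).map h) ↔
      ClosedAt ((Over.pullback (Red.geomPt (x (IsLocalRing.closedPoint K)))).map h) := by
  obtain ⟨θ, hθ⟩ := MaxTorBc636.exists_geomPt x (IsLocalRing.closedPoint K)
  rw [← closedAt_fib hθ hG h hH]
  exact (closedAt_bc_iff (RedBcAny636.isReductive_bc x hG) _ (RedSub.H648.TypeR.isTypeR_bc x hG hH) _).symm

/-- closedness on the fibres is stable under base change -/
theorem IsRC.bc (f : S' ⟶ S) (hG : Red.IsReductive G) {h : H ⟶ G} (hH : RedSub.IsTypeR h) (hRC : IsRC h) :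
    IsRC ((Over.pullback f).map h) := by
  intro s'
  obtain ⟨θ, hθ⟩ := MaxTorBc636.exists_geomPt f s'
  exact (closedAt_fib hθ hG h hH).2 (hRC (f s'))

theorem IsRC.of_arrow {h : H ⟶ G} {h' : H' ⟶ G'} (φ : Grp.mk H ≅ Grp.mk H') (ψ : Grp.mk G ≅ Grp.mk G')
    (hc : h ≫ (und ψ).hom = (und φ).hom ≫ h') (hRC : IsRC h) : IsRC h' := by
  intro s
  exact (hRC s).of_iso (BcIso.bcMapIso (Red.geomPt s) ψ) (und (BcIso.bcMapIso (Red.geomPt s) φ))
    (AlgBc.bc_arrow (Red.geomPt s) φ ψ hc)

/-- descent -/
theorem isRC_of_cover {J : Type*} {S' : J → Scheme.{u}} (f : ∀ j, S' j ⟶ S) (hf : ∀ s : S, ∃ j, s ∈ Set.range (f j))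
    (hG : Red.IsReductive G) {h : H ⟶ G} (hH : RedSub.IsTypeR h) (hRC : ∀ j, IsRC ((Over.pullback (f j)).map h)) :
    IsRC h := by
  intro s
  obtain ⟨j, s', rfl⟩ := hf s
  obtain ⟨θ, hθ⟩ := MaxTorBc636.exists_geomPt (f j) s'
  exact (closedAt_fib hθ hG h hH).1 (hRC j s')

section split

variable (D : Red.SplitRed G) (h : H ⟶ G) (hH : RedSub.IsTypeR h) (t : D.T ⟶ H) (ht : t ≫ h = D.i)

include hH ht in
/-- the split case, connected base -/
theorem isRC_iff_of_connected [ConnectedSpace S] :
    IsRC h ↔ ∀ a b c : D.idx, (∃ v, v ≫ h = D.u a) → (∃ v, v ≫ h = D.u b) → D.P.root a + D.P.root b = D.P.root c →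
      ∃ v, v ≫ h = D.u c := by
  constructor
  · intro hRC a b c ha hb habc
    obtain ⟨s⟩ : Nonempty S := inferInstance
    have h1 := fun a => K194.Main1.roots_fibre D h hH t ht (Red.geomPt s) a
    rw [← h1] at ha hb ⊢
    exact hRC s (splitBc _ D) _ (K194.Main1.bc_torus D h t ht _) a b c ha hb habc
  · intro hcl s
    have h1 := fun a => K194.Main1.roots_fibre D h hH t ht (Red.geomPt s) a
    refine closedAt_of_split _ (K194.Main1.isTypeR_fibre D h hH t ht _) (splitBc _ D) _
      (K194.Main1.bc_torus D h t ht _) fun a b c ha hb habc => ?_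
    rw [h1] at ha hb ⊢
    exact hcl a b c ha hb habc

include hH ht in
/-- if the set of root groups contained in `H` is closed and constant on the base, `H` is of type (RC) -/
theorem isRC_of_const (R' : Set D.idx)
    (hR' : ∀ (s : S) (a : D.idx), (∃ v, v ≫ (Over.pullback (Red.geomPt s)).map h = (splitBc (Red.geomPt s) D).u a) ↔ a ∈ R')
    (hcl : ∀ a b c : D.idx, a ∈ R' → b ∈ R' → D.P.root a + D.P.root b = D.P.root c → c ∈ R') : IsRC h := by
  intro s
  refine closedAt_of_split _ (RedSub.H648.TypeR.isTypeR_bc _ D.reductive hH) (splitBc _ D) _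
    (K194.Main1.bc_torus D h t ht _) fun a b c ha hb habc => ?_
  rw [hR'] at ha hb ⊢
  exact hcl a b c ha hb habc

end split

end K199.RC
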