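import Groth.Agent.RedSub.H660.Classes

/-!
# Subgroups which are étale locally conjugate to one of the `Q j`, with normalisers

The theorems of `H660.ConjRep` / `H660.Classes` for subgroups `q j : Q j ⟶ G` with normaliser `n j : N j ⟶ G`
(possibly larger than `Q j`): `exists_representableBy'`, `good_representableBy`.
-/

set_option autoImplicit false
universe u

open CategoryTheory CategoryTheory.Limits AlgebraicGeometry Opposite MonoidalCategory CartesianMonoidalCategory
  MonObj GrpObj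

namespace K199.ConjRepN

open Groth.Agent Groth.Agent.Sga3B Groth.Agent.Sga3B.BcPts Groth.Agent.Sga3B.MT Groth.Agent.Sga3B.RepDescent
open Groth.Agent.RedSub.H647.SubPt Groth.Agent.RedSub.H647.SubF Groth.Agent.RedSub.H647.SubF.SubClass
open Groth.Agent.Redsub.H649.ConjPts (fam InC taut)
open Groth.Agent.RedSub.H645.EtConj
open Groth.Agent.RedSub.H660 Groth.Agent.RedSub.H660.ConjRep Groth.Agent.RedSub.H660.Restrict
  Groth.Agent.RedSub.H660.Classes Groth.Agent.Redsub.H649.ConjLoc

variable {S : Scheme.{u}} {G : Over S} [GrpObj G]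

/-- the elements conjugating `q` into itself are the points of the normaliser -/
lemma conjEq_self_iff {Q N : Over S} [GrpObj N] {q : Q ⟶ G} {n : N ⟶ G} (hN : Red.IsNormalizerOf q n)
    {T : Over S} (c : T ⟶ G) : RedSub.ConjEq q q c ↔ ∃ z : T ⟶ N, z ≫ n = c := by
  rw [hN.2.2]
  constructor
  · intro h X x t
    exact ⟨(h X x).1 t, (h X x).2 t⟩
  · intro h X x
    exact ⟨fun t => (h X x t).1, fun t => (h X x t).2⟩

section main

variable {𝒬 : SubClass G} {J : Type u} {Q N : J → Over S} [∀ j, GrpObj (Q j)] [∀ j, GrpObj (N j)] {q : ∀ j, Q j ⟶ G}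
  (n : ∀ j, N j ⟶ G)

/-- **Subgroups étale locally conjugate to one of the `q j` are represented by `∐ G / N j`**, for any `Y` which is
the disjoint union of the `X j = G / N j`. -/
theorem exists_representableBy' (hloc : 𝒬.IsLocal (fun {_ _ _} q => SubClass.EtCov q)) (hfam : FamIn 𝒬 Q q)
    (hlocIn : LocIn 𝒬 Q q) (hN : ∀ j, Red.IsNormalizerOf (q j) (n j))
    (hne : ∀ (i j : J) (T : Over S) (c : T ⟶ G), Nonempty T.left → RedSub.ConjEq (q i) (q j) c → i = j)
    (X : J → Over S) (π : ∀ j, G ⟶ X j) (hπ : ∀ j, RedSub.IsQuotient (n j) (π j))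
    (hsm : ∀ j, Smooth (π j).left) (Y : Over S) (κ : ∀ j, X j ⟶ Y) [∀ j, IsOpenImmersion (κ j).left]
    (hκ1 : ∀ y : Y.left, ∃ (j : J) (x : (X j).left), (κ j).left x = y)
    (hκ2 : ∀ (i j : J) (T : Over S) (a : T ⟶ X i) (b : T ⟶ X j), Nonempty T.left → a ≫ κ i = b ≫ κ j → i = j) :
    ∃ r : 𝒬.subsF.RepresentableBy Y, ∀ j, r.homEquiv (π j ≫ κ j) = cl hfam j := by
  have hF : IsEtSheaf 𝒬.subsF := 𝒬.isEtSheaf_subsF hloc
  have hmono : ∀ j, Mono (κ j) := fun j => Sga3C.ClosedSub.mono_of_left (κ j)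
  refine QuotSheaf.exists_representableBy hF (fun _ : J => G) Y (fun j => π j ≫ κ j) (cl hfam)
    (gen_of_smooth _ _ _ ?_ ?_) (gen_cl hfam hlocIn) ?_
  · intro j
    have := hsm j
    rw [Over.comp_left]
    infer_instance
  · intro x
    obtain ⟨j, y, rfl⟩ := hκ1 x
    have := (hπ j).1
    obtain ⟨z, rfl⟩ := (π j).left.surjective y
    exact ⟨j, z, by rw [Over.comp_left, Scheme.Hom.comp_apply]⟩
  · intro i j T a b
    by_cases hT : Nonempty T.left
    · constructor
      · intro h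
        simp only [← Category.assoc] at h
        obtain rfl := hκ2 i j T _ _ hT h
        rw [cancel_mono] at h
        rw [map_cl_eq_iff, conjEq_self_iff (hN i), ← comp_quot_eq_iff (hπ i), h]
      · intro h
        rw [map_cl_eq_iff] at h
        obtain rfl := hne i j T _ hT h
        rw [conjEq_self_iff (hN i), ← comp_quot_eq_iff (hπ i)] at h
        simp only [← Category.assoc, h]
    · rw [not_nonempty_iff] at hT
      have h1 : (a ≫ π i ≫ κ i) = (b ≫ π j ≫ κ j) := by
        apply Over.OverMorphism.ext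
        exact (isInitialOfIsEmpty (X := T.left)).hom_ext _ _
      have h2 : 𝒬.subsF.map a.op (cl hfam i) = 𝒬.subsF.map b.op (cl hfam j) :=
        QuotSheaf.sheaf_ext hF (K := PEmpty) (fun k => k.elim) (fun k => k.elim) (fun k => k.elim)
          (fun t => (hT.false t).elim) (fun k => k.elim)
      exact ⟨fun _ => h2, fun _ => h1⟩

end main

section good

variable {P : SubProp.{u}} (hP : Good P) (hG : Red.IsReductive G) {V : Scheme.{u}} (v : V ⟶ S)
variable {J : Type u} {Q N : J → Over V} [∀ j, GrpObj (Q j)] [∀ j, GrpObj (N j)] {q : ∀ j, Q j ⟶ Red.bc v G}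
  (n : ∀ j, N j ⟶ Red.bc v G)

/-- **Representability of the functor of subgroups with the property `P`** over `V ⟶ S`. -/
theorem good_exists_representableBy (hq : ∀ j, P (q j))
    (hconj : ∀ {S' : Scheme.{u}} (f : S' ⟶ V) {H : Over S'} [GrpObj H] (h : H ⟶ Red.bc f (Red.bc v G)),
      P h → ∀ s : S', ∃ j : J, ELConj ((Over.pullback f).map (q j)) h s)
    (hN : ∀ j, Red.IsNormalizerOf (q j) (n j))
    (hne : ∀ (i j : J) (T : Over V) (c : T ⟶ Red.bc v G), Nonempty T.left → RedSub.ConjEq (q i) (q j) c → i = j)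
    (X : J → Over V) (π : ∀ j, Red.bc v G ⟶ X j) (hπ : ∀ j, RedSub.IsQuotient (n j) (π j))
    (hsm : ∀ j, Smooth (N j).hom) (Y : Over V) (κ : ∀ j, X j ⟶ Y) [∀ j, IsOpenImmersion (κ j).left]
    (hκ1 : ∀ y : Y.left, ∃ (j : J) (x : (X j).left), (κ j).left x = y)
    (hκ2 : ∀ (i j : J) (T : Over V) (a : T ⟶ X i) (b : T ⟶ X j), Nonempty T.left → a ≫ κ i = b ≫ κ j → i = j) :
    ∃ r : (restrict v (hP.toClass hG)).subsF.RepresentableBy Y,
      ∀ j, r.homEquiv (π j ≫ κ j) = cl (hP.famIn hG v hq) j := by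
  exact exists_representableBy' (𝒬 := restrict v (hP.toClass hG)) n
    (restrict_isLocal v (hP.toClass_isLocal hG)) (hP.famIn hG v hq) (hP.locIn hG v hconj) hN hne X π hπ
    (fun j => have := hsm j; smooth_of_isQuotient (hπ j)) Y κ hκ1 hκ2

/-- **Representability of the functor of subgroups with the property `P`** over `V ⟶ S`. -/
theorem good_representableBy (hq : ∀ j, P (q j))
    (hconj : ∀ {S' : Scheme.{u}} (f : S' ⟶ V) {H : Over S'} [GrpObj H] (h : H ⟶ Red.bc f (Red.bc v G)),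
      P h → ∀ s : S', ∃ j : J, ELConj ((Over.pullback f).map (q j)) h s)
    (hN : ∀ j, Red.IsNormalizerOf (q j) (n j))
    (hne : ∀ (i j : J) (T : Over V) (c : T ⟶ Red.bc v G), Nonempty T.left → RedSub.ConjEq (q i) (q j) c → i = j)
    (X : J → Over V) (π : ∀ j, Red.bc v G ⟶ X j) (hπ : ∀ j, RedSub.IsQuotient (n j) (π j))
    (hsm : ∀ j, Smooth (N j).hom) (Y : Over V) (κ : ∀ j, X j ⟶ Y) [∀ j, IsOpenImmersion (κ j).left]
    (hκ1 : ∀ y : Y.left, ∃ (j : J) (x : (X j).left), (κ j).left x = y)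
    (hκ2 : ∀ (i j : J) (T : Over V) (a : T ⟶ X i) (b : T ⟶ X j), Nonempty T.left → a ≫ κ i = b ≫ κ j → i = j) :
    Nonempty (((Over.map v).op ⋙ (hP.toClass hG).subsF).RepresentableBy Y) := by
  refine representableBy_restrict v ?_
  obtain ⟨r, -⟩ := good_exists_representableBy hP hG v n hq hconj hN hne X π hπ hsm Y κ hκ1 hκ2
  exact ⟨r⟩

end good

end K199.ConjRepN
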