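import Groth.Agent.RedSub.H654.Coradical
import Groth.Agent.RedSub.K199.QuotTools
import Groth.Agent.Sga3B.MaxTorNear900

/-!
# Tools: the derived group as the kernel of the coradical quotient
-/

set_option autoImplicit false
universe u

open CategoryTheory MonoidalCategory CartesianMonoidalCategory MonObj GrpObj AlgebraicGeometry Limits

namespace K199.CorTools

open Groth.Agent Groth.Agent.Sga3B
open Groth.Agent.RedSub.H654 Groth.Agent.RedSub.H654.Coradical
open Groth.Agent.RedSub.H650.QuotPts QuotTools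

variable {S : Scheme.{u}}

theorem mono_of_isImmersion {X Y : Over S} (k : X ⟶ Y) [IsImmersion k.left] : Mono k := by
  have : Mono k.left := inferInstance
  exact Over.mono_of_mono_left k

theorem mono_of_isPullback {P X Y Z : Over S} {a : P ⟶ X} {b : P ⟶ Y} {i : X ⟶ Z} {k : Y ⟶ Z} [Mono k]
    (h : IsPullback a b i k) : Mono a := by
  refine ⟨fun {W} x y hxy => h.hom_ext hxy ?_⟩
  rw [← cancel_mono k, Category.assoc, Category.assoc, ← h.w, ← Category.assoc, ← Category.assoc, hxy]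

theorem mono_of_isKernel {G C D : Over S} [GrpObj G] [GrpObj C] {d : D ⟶ G} {f : G ⟶ C}
    (h : AlgGrp.IsKernel d f) : Mono d := by
  refine ⟨fun {W} x y hxy => h.hom_ext hxy (toUnit_unique _ _)⟩

/-- a point in the kernel lifts -/
theorem exists_lift_kernel {G C D : Over S} [GrpObj G] [GrpObj C] {d : D ⟶ G} {f : G ⟶ C}
    (h : AlgGrp.IsKernel d f) {X : Over S} (x : X ⟶ G) (hx : x ≫ f = 1) : ∃ y : X ⟶ D, y ≫ d = x :=
  ⟨h.lift x (toUnit X) hx, h.lift_fst _ _ _⟩

theorem isKernel_of_pts {G C D : Over S} [GrpObj G] [GrpObj C] {d : D ⟶ G} [Mono d] {f : G ⟶ C}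
    (h : ∀ (X : Over S) (x : X ⟶ G), x ≫ f = 1 ↔ ∃ y : X ⟶ D, y ≫ d = x) : AlgGrp.IsKernel d f := by
  have h1 : d ≫ f = 1 := (h D d).2 ⟨𝟙 D, Category.id_comp d⟩
  have h2 : ∀ s : PullbackCone f η[C], s.fst ≫ f = 1 := fun s => by
    rw [s.condition, toUnit_unique s.snd (toUnit _)]
    rfl
  refine ⟨⟨h1⟩, ⟨PullbackCone.IsLimit.mk _ (fun s => ((h s.pt s.fst).1 (h2 s)).choose)
    (fun s => ((h s.pt s.fst).1 (h2 s)).choose_spec) (fun s => toUnit_unique _ _) ?_⟩⟩
  intro s m hm _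
  rw [← cancel_mono d, hm]
  exact ((h s.pt s.fst).1 (h2 s)).choose_spec.symm

section

variable {G D C₁ C : Over S} [GrpObj G] [GrpObj D] [GrpObj C₁] [GrpObj C]

/-- the derived group is the kernel of the coradical quotient -/
theorem isKernel_corad (d : D ⟶ G) (f₀ : G ⟶ C₁) [IsMonHom f₀] (hker : AlgGrp.IsKernel d f₀)
    (hC₁ : ∀ (X : Over S) (a b : X ⟶ C₁), a * b = b * a)
    (hkill : RedSub.KilledByCommutative d) (q₀ : G ⟶ C) [IsMonHom q₀] (L : LQ q₀) :
    AlgGrp.IsKernel d q₀ := by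
  have hm : Mono d := mono_of_isKernel hker
  refine isKernel_of_pts fun X x => ⟨fun h => ?_, ?_⟩
  · exact exists_lift_kernel hker x (L.kill C₁ hC₁ f₀ x h)
  · rintro ⟨y, rfl⟩
    rw [Category.assoc, hkill C q₀ (MaxTorNear900.mul_comm_of_isTorus L.isTorus), MonObj.comp_one]

theorem isQuotient_corad (d : D ⟶ G) (f₀ : G ⟶ C₁) [IsMonHom f₀] (hker : AlgGrp.IsKernel d f₀)
    (hC₁ : ∀ (X : Over S) (a b : X ⟶ C₁), a * b = b * a)
    (hkill : RedSub.KilledByCommutative d) (q₀ : G ⟶ C) [IsMonHom q₀] (L : LQ q₀) (hL : Fppf q₀) :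
    RedSub.IsQuotient d q₀ := by
  have hm : Mono d := mono_of_isKernel hker
  exact isQuotient_of_isKernel q₀ (isKernel_corad d f₀ hker hC₁ hkill q₀ L) hL

end

/-- a quotient by a subgroup containing the derived group factors through the coradical -/
theorem exists_fac_corad {G D C H Q : Over S} [GrpObj G] [GrpObj D] [GrpObj C] [GrpObj H] (d : D ⟶ G) (q₀ : G ⟶ C)
    (hdq : RedSub.IsQuotient d q₀) (k : H ⟶ G) (e : D ⟶ H) (he : e ≫ k = d) (q : G ⟶ Q)
    (hq : RedSub.IsQuotient k q) : ∃ q' : C ⟶ Q, q₀ ≫ q' = q ∧ Fppf q' := by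
  obtain ⟨q', hq'⟩ := exists_desc hdq q fun T a y => by
    have h1 : y ≫ d = (y ≫ e) ≫ k := by rw [Category.assoc, he]
    rw [h1]
    exact Groth.Agent.RedSub.H650.QuotPts.mul_comp hq a (y ≫ e)
  exact ⟨q', hq', (fppf_of_isQuotient hdq).of_comp (by rw [hq']; exact fppf_of_isQuotient hq)⟩

/-- the kernel pair of the restriction of a quotient map to a subgroup -/
theorem ptQuot_of_isPullback {G H T T' Q : Over S} [GrpObj G] [GrpObj H] [GrpObj T] [GrpObj T']
    {a : T' ⟶ T} {b : T' ⟶ H} {i : T ⟶ G} [IsMonHom i] {k : H ⟶ G} (hsq : IsPullback a b i k) {q : G ⟶ Q}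
    (hq : PtQuot k q) : PtQuot a (i ≫ q) := by
  intro X x y
  constructor
  · intro h
    obtain ⟨z, hz⟩ := (hq X (x ≫ i) (y ≫ i)).1 (by simpa only [Category.assoc] using h)
    have h1 : (x⁻¹ * y) ≫ i = z ≫ k := by
      rw [MonObj.mul_comp, GrpObj.inv_comp, hz, inv_mul_cancel_left]
    refine ⟨hsq.lift _ _ h1, ?_⟩
    rw [hsq.lift_fst, mul_inv_cancel_left]
  · rintro ⟨z, rfl⟩
    rw [← Category.assoc, ← Category.assoc, MonObj.mul_comp]
    refine (hq X _ _).2 ⟨z ≫ b, ?_⟩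
    rw [Category.assoc, hsq.w, Category.assoc]

end K199.CorTools
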