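import Groth.Agent.RedSub.H654.Coradical
import Groth.Agent.Redsub.H649.TorConjLoc
import Groth.Agent.RedSub.K199.QuotTools

/-!
# A maximal torus of a reductive group maps onto the coradical by a smooth surjective homomorphism

* `of_conj`: if `j, i` are two maximal tori of `G` and `q : G ⟶ C` is a homomorphism to a commutative group then
  `j ≫ q` and `i ≫ q` share the properties of morphisms which are local for the fppf topology.
* `smooth_torus`, `surjective_torus`, `fppf_torus`: for the coradical quotient `q : G ⟶ C` (`LQ q`) and a maximal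
  torus `i : T ⟶ G` the composite `T ⟶ C` is smooth and surjective.
-/

set_option autoImplicit false
set_option linter.unusedSectionVars false
set_option linter.unusedVariables false
universe u

open CategoryTheory MonoidalCategory CartesianMonoidalCategory MonObj GrpObj AlgebraicGeometry Limits

namespace K199.CoradTorus

open Groth.Agent Groth.Agent.Sga3B
open Groth.Agent.RedSub.H654 Groth.Agent.RedSub.H654.Coradical

variable {S : Scheme.{u}}

lemma map_left_eq {X Y : Over S} (f : X ⟶ Y) {V : Scheme.{u}} (π : V ⟶ S) :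
    ((Over.pullback π).map f).left = (f ▷ Over.mk π).left := by
  apply pullback.hom_ext
  · have h1 : ((Over.pullback π).map f).left ≫ pullback.fst Y.hom π = pullback.fst X.hom π ≫ f.left :=
      pullback.lift_fst _ _ _
    have h2 : (f ▷ Over.mk π).left ≫ (fst Y (Over.mk π)).left = (fst X (Over.mk π)).left ≫ f.left := by
      rw [← Over.comp_left, ← Over.comp_left, whiskerRight_fst]
    exact h1.trans h2.symm
  · have h1 : ((Over.pullback π).map f).left ≫ pullback.snd Y.hom π = pullback.snd X.hom π :=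
      Over.w ((Over.pullback π).map f)
    have h2 : (f ▷ Over.mk π).left ≫ (snd Y (Over.mk π)).left = (snd X (Over.mk π)).left := by
      rw [← Over.comp_left, whiskerRight_snd]
    exact h1.trans h2.symm

section conj

variable {G C T T₀ : Over S} [GrpObj G] [GrpObj C] [GrpObj T] [GrpObj T₀]

/-- conjugate subgroups have the same image in a commutative quotient -/
theorem exists_iso_of_conjEq (q : G ⟶ C) [IsMonHom q] (hC : ∀ (X : Over S) (a b : X ⟶ C), a * b = b * a)
    (i : T ⟶ G) [Mono i] (j : T₀ ⟶ G) [Mono j] {V : Over S} (g : V ⟶ G) (h : RedSub.ConjEq j i g) :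
    ∃ θ : T ⊗ V ≅ T₀ ⊗ V, θ.hom ≫ ((j ≫ q) ▷ V) = (i ≫ q) ▷ V := by
  obtain ⟨a, ha⟩ := (h (T₀ ⊗ V) (snd _ _)).1 (fst _ _)
  obtain ⟨b, hb⟩ := (h (T ⊗ V) (snd _ _)).2 (fst _ _)
  have e1 : lift b (snd T V) ≫ a = fst T V := by
    rw [← cancel_mono i, Category.assoc, ← ha]
    rw [MonObj.comp_mul, MonObj.comp_mul, GrpObj.comp_inv, ← Category.assoc _ (snd T₀ V), lift_snd,
      ← Category.assoc _ (fst T₀ V), lift_fst, ← hb]
    group
  have e2 : lift a (snd T₀ V) ≫ b = fst T₀ V := by
    rw [← cancel_mono j, Category.assoc, ← hb]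
    rw [MonObj.comp_mul, MonObj.comp_mul, GrpObj.comp_inv, ← Category.assoc _ (snd T V), lift_snd,
      ← Category.assoc _ (fst T V), lift_fst, ← ha]
    group
  refine ⟨⟨lift b (snd T V), lift a (snd T₀ V), ?_, ?_⟩, ?_⟩
  · apply CartesianMonoidalCategory.hom_ext
    · rw [Category.assoc, lift_fst, e1, Category.id_comp]
    · rw [Category.assoc, lift_snd, lift_snd, Category.id_comp]
  · apply CartesianMonoidalCategory.hom_ext
    · rw [Category.assoc, lift_fst, e2, Category.id_comp]
    · rw [Category.assoc, lift_snd, lift_snd, Category.id_comp]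
  · apply CartesianMonoidalCategory.hom_ext
    · rw [Category.assoc, whiskerRight_fst, whiskerRight_fst, lift_fst_assoc, ← Category.assoc b, ← hb,
        MonObj.mul_comp, MonObj.mul_comp, GrpObj.inv_comp, hC, ← Category.assoc (fst T V)]
      group
    · rw [Category.assoc, whiskerRight_snd, whiskerRight_snd, lift_snd]

/-- two maximal tori and a homomorphism to a commutative group -/
theorem of_conj (P : MorphismProperty Scheme.{u}) [IsZariskiLocalAtTarget P]
    [P.IsStableUnderBaseChange] [P.DescendsAlong (@Surjective ⊓ @Flat ⊓ @LocallyOfFinitePresentation)]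
    (hG : Red.IsReductive G) (q : G ⟶ C) [IsMonHom q] (hC : ∀ (X : Over S) (a b : X ⟶ C), a * b = b * a)
    (i : T ⟶ G) (j : T₀ ⟶ G) (hi : Red.IsMaximalTorus i) (hj : Red.IsMaximalTorus j) (h : P (j ≫ q).left) :
    P (i ≫ q).left := by
  have := hi.2.1
  have := hj.2.1
  choose V π hπ hs g hg using fun s : S => Groth.Agent.Redsub.H649.TorConjLoc.exists_conjEq hG j i hj hi s
  have hcov : Parab.EtHom.IsCov π := ⟨fun s => inferInstance, fun s => inferInstance, fun s => ⟨s, hs s⟩⟩
  refine Parab.EtHom.of_cover P hcov _ fun s => ?_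
  obtain ⟨θ, hθ⟩ := exists_iso_of_conjEq q hC i j (g s) (hg s)
  have h2 : P ((j ≫ q) ▷ Over.mk (π s)).left := by
    rw [← map_left_eq]
    exact P.of_isPullback (Parab.EtHom.isPullback_map (π s) (j ≫ q)) h
  rw [map_left_eq, ← hθ, Over.comp_left]
  exact (P.cancel_left_of_respectsIso _ _).2 h2

end conj

section main

variable {G C T : Over S} [GrpObj G] [GrpObj C] [GrpObj T]

lemma isMaximalTorus_jOf (D : Red.SplitRed G) : Red.IsMaximalTorus (PinFinal.jOf D) :=
  Groth.Agent.Redsub.H649.TorConjLoc.isMaximalTorus_inv_comp D.split D.maximalTorus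

lemma isMonHom_comp_inv {A B C : Over S} [GrpObj A] [GrpObj B] [GrpObj C] (e : A ≅ B) [IsMonHom e.hom] :
    IsMonHom e.inv := inferInstance

/-- **A maximal torus maps onto the coradical.** -/
theorem of_LQ (P : MorphismProperty Scheme.{u}) [IsZariskiLocalAtTarget P]
    [P.IsStableUnderBaseChange] [P.DescendsAlong (@Surjective ⊓ @Flat ⊓ @LocallyOfFinitePresentation)]
    (hP : ∀ {S : Scheme.{u}} {X Y : Over S} [GrpObj X] [GrpObj Y] (q : X ⟶ Y) [IsMonHom q] (σ : Y ⟶ X) [IsMonHom σ],
      σ ≫ q = 𝟙 Y → IsAffineHom X.hom → Smooth X.hom → IsAffineHom Y.hom → P q.left)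
    (hG : Red.IsReductive G) (q : G ⟶ C) [IsMonHom q] (L : LQ q) (i : T ⟶ G) (hi : Red.IsMaximalTorus i) :
    P (i ≫ q).left := by
  refine Parab.EtHom.of_cover P L.isEtCov.cov (i ≫ q) fun s => ?_
  have h1 := RedBc892U.isReductive_bc (L.c s).v hG
  have hCt := TorusBc.isTorus_bc (L.c s).v L.isTorus
  rw [Functor.map_comp]
  have hm : IsMonHom ((Over.pullback (L.c s).v).map q) := inferInstance
  refine of_conj P h1 ((Over.pullback (L.c s).v).map q : Red.bc (L.c s).v G ⟶ Red.bc (L.c s).v C)
    (fun X a b => MaxTorNear900.mul_comm_of_isTorus hCt X a b)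
    ((Over.pullback (L.c s).v).map i : Red.bc (L.c s).v T ⟶ Red.bc (L.c s).v G)
    (PinFinal.jOf (L.c s).D.toSplitRed) (MaxTorBc636.isMaximalTorus_bc _ hG hi) (isMaximalTorus_jOf _) ?_
  have hj := (isMaximalTorus_jOf (L.c s).D.toSplitRed)
  have hj1 := hj.1
  have hj2 := TorusAlgClosed.isAffineHom_of_isTorus hj.2.2.1
  have hj3 := TorusAlgClosed.smooth_of_isTorus hj.2.2.1
  have hC2 := TorusAlgClosed.isAffineHom_of_isTorus hCt
  have hD := BorSpan613.isMonHom_DSmap (Spec (L.c s).B) (L.c s).ρ
  refine hP _ ((L.e s).hom ≫ Red.DSmap (Spec (L.c s).B) (L.c s).ρ) ?_ hj2 hj3 hC2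
  have h5 := L.sec_q s
  rw [LQ.sec, LocChart.PChart.σ] at h5
  simpa only [Category.assoc] using h5

theorem smooth_torus (hG : Red.IsReductive G) (q : G ⟶ C) [IsMonHom q] (L : LQ q) (i : T ⟶ G)
    (hi : Red.IsMaximalTorus i) : Smooth (i ≫ q).left :=
  of_LQ @Smooth (fun q _ σ _ h h1 h2 h3 => smooth_of_section q σ h) hG q L i hi

theorem surjective_torus (hG : Red.IsReductive G) (q : G ⟶ C) [IsMonHom q] (L : LQ q) (i : T ⟶ G)
    (hi : Red.IsMaximalTorus i) : Surjective (i ≫ q).left :=
  of_LQ @Surjective (fun q _ σ _ h _ _ _ => surjective_of_splitEpi q σ h) hG q L i hi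

theorem fppf_torus (hG : Red.IsReductive G) (q : G ⟶ C) [IsMonHom q] (L : LQ q) (i : T ⟶ G)
    (hi : Red.IsMaximalTorus i) : QuotTools.Fppf (i ≫ q) := by
  have h1 := smooth_torus hG q L i hi
  exact ⟨surjective_torus hG q L i hi, inferInstance, inferInstance⟩

end main

end K199.CoradTorus
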