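import Groth.Agent.RedSub.H660.ConjRep
import Groth.Agent.RedSub.H660.QuotSheaf
import Groth.Agent.RedSub.H647.ClosedF
import Groth.Agent.Sga3B.RepDescent9
import Groth.Agent.Sga3B.SplitBc264

/-!
# Étale descent of quotients by étale local equivalence relations

`ρ : ERel M` an étale local equivalence relation on the points of an `S`-scheme `M`.

* `IsQuotAt ρ v c` : `c : M_V ⟶ C` has the kernel pair `ρ`, for `v : V ⟶ S`;
* `exists_quot` : if for `V ⟶ S` étale and small enough `M_V` has a smooth surjective quotient `C` which is separated and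
  whose quasi-compact opens are quasi-affine, then `M` has a quotient `q : M ⟶ Q`, compatible with the local ones;
* `prop_hom`, `prop_left` : étale local properties of `Q` and of `q`.
-/

set_option autoImplicit false
universe u

open CategoryTheory CategoryTheory.Limits AlgebraicGeometry Opposite MonoidalCategory CartesianMonoidalCategory

namespace K199.EtQuot

open Groth.Agent Groth.Agent.Sga3B Groth.Agent.Sga3B.RepDescent Groth.Agent.RedSub.H647.ClosedF
  Groth.Agent.RedSub.H647.QCov Groth.Agent.RedSub.H660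

variable {S : Scheme.{u}}

/-- An étale local equivalence relation on the points of `M`. -/
structure ERel (M : Over S) where
  /-- the relation -/
  R : ∀ {X : Over S}, (X ⟶ M) → (X ⟶ M) → Prop
  refl : ∀ {X : Over S} (a : X ⟶ M), R a a
  symm : ∀ {X : Over S} {a b : X ⟶ M}, R a b → R b a
  trans : ∀ {X : Over S} {a b c : X ⟶ M}, R a b → R b c → R a c
  comp : ∀ {X Y : Over S} (f : Y ⟶ X) {a b : X ⟶ M}, R a b → R (f ≫ a) (f ≫ b)
  loc : ∀ {X : Over S} {a b : X ⟶ M}, (∀ x : X.left, ∃ (Y : Over S) (f : Y ⟶ X), Etale f.left ∧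
    x ∈ Set.range f.left ∧ R (f ≫ a) (f ≫ b)) → R a b

/-- pull back of an étale morphism -/
lemma exists_pb {T T' Y : Over S} (a : Y ⟶ T) (f : T' ⟶ T) (hf : Etale f.left) :
    ∃ (R : Over S) (p : R ⟶ Y) (q : R ⟶ T'), p ≫ a = q ≫ f ∧ Etale p.left ∧
      ∀ y : Y.left, a.left y ∈ Set.range f.left → y ∈ Set.range p.left := by
  refine ⟨Over.mk (pullback.fst a.left f.left ≫ Y.hom), Over.homMk (pullback.fst a.left f.left) rfl,
    Over.homMk (pullback.snd a.left f.left) ?_, Over.OverMorphism.ext pullback.condition, ?_, ?_⟩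
  · change pullback.snd a.left f.left ≫ T'.hom = pullback.fst a.left f.left ≫ Y.hom
    rw [← Over.w f, ← Category.assoc, ← pullback.condition, Category.assoc, Over.w a]
  · change Etale (pullback.fst a.left f.left)
    infer_instance
  · rintro y ⟨t, ht⟩
    obtain ⟨z, hz, -⟩ := Scheme.Pullback.exists_preimage_pullback (f := a.left) (g := f.left) y t ht.symm
    exact ⟨z, hz⟩

variable {M : Over S} (ρ : ERel M)

/-- the closed subscheme `I` of `M ×_S T` is the class of the point `x : T ⟶ M` -/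
def IsCls {T : Over S} (I : (closedF M).obj (op T)) (x : T ⟶ M) : Prop :=
  ∀ (Y : Over S) (g : Y ⟶ M) (a : Y ⟶ T), Mem (toI I) g a ↔ ρ.R g (a ≫ x)

variable {ρ}

lemma IsCls.map {T T' : Over S} (f : T' ⟶ T) {I : (closedF M).obj (op T)} {x : T ⟶ M} (h : IsCls ρ I x) :
    IsCls ρ ((closedF M).map f.op I) (f ≫ x) := by
  intro Y g a
  rw [toI_map, mem_map_iff, h, Category.assoc]

lemma IsCls.eq_iff {T : Over S} {I J : (closedF M).obj (op T)} {x y : T ⟶ M} (h : IsCls ρ I x) (h' : IsCls ρ J y) :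
    I = J ↔ ρ.R x y := by
  constructor
  · rintro rfl
    have h1 := (h' T x (𝟙 _)).1 ((h T x (𝟙 _)).2 (by rw [Category.id_comp]; exact ρ.refl x))
    rwa [Category.id_comp] at h1
  · intro hxy
    refine toI_injective (ideal_ext_of_mem fun Y g a => ?_)
    rw [h, h']
    exact ⟨fun H => ρ.trans H (ρ.comp a hxy), fun H => ρ.trans H (ρ.symm (ρ.comp a hxy))⟩

lemma IsCls.of_rel {T : Over S} {I : (closedF M).obj (op T)} {x y : T ⟶ M} (h : IsCls ρ I x) (hxy : ρ.R x y) :
    IsCls ρ I y := fun Y g a => (h Y g a).trans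
  ⟨fun H => ρ.trans H (ρ.comp a hxy), fun H => ρ.trans H (ρ.symm (ρ.comp a hxy))⟩

/-- existence of classes is étale local -/
lemma exists_isCls_of_cover {T : Over S} (x : T ⟶ M) (h : ∀ t : T.left, ∃ (T' : Over S) (f : T' ⟶ T), Etale f.left ∧
    t ∈ Set.range f.left ∧ ∃ I, IsCls ρ I (f ≫ x)) : ∃ I, IsCls ρ I x := by
  choose T' f hf ht I hI using h
  have hF : IsEtSheaf (closedF M) := IsQSheaf.isEtSheaf (isQSheaf_closedF M)
  obtain ⟨y, hy, -⟩ := hF T' f hf (fun t => ⟨t, ht t⟩) I (fun s t R p q hpq => by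
    rw [((hI s).map p).eq_iff ((hI t).map q), ← Category.assoc, ← Category.assoc, hpq]
    exact ρ.refl _)
  refine ⟨y, fun Y g a => ?_⟩
  have key : ∀ (t : T.left) (R : Over S) (p : R ⟶ Y) (q : R ⟶ T' t), p ≫ a = q ≫ f t →
      (Mem (toI y) (p ≫ g) (p ≫ a) ↔ ρ.R (p ≫ g) (p ≫ a ≫ x)) := by
    intro t R p q hpq
    rw [hpq, ← mem_map_iff, ← toI_map, hy, hI, ← Category.assoc, ← Category.assoc, hpq]
  choose R p q hpq hp hp' using fun y' : Y.left => exists_pb a (f (a.left y')) (hf _)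
  constructor
  · intro hm
    exact ρ.loc fun y' => ⟨R y', p y', hp y', hp' y' y' (ht _), (key _ _ _ _ (hpq y')).1 (hm.comp (p y'))⟩
  · intro hm
    refine Mem.of_cover p (IsQCov.of_etale hp fun y' => ⟨y', hp' y' y' (ht _)⟩) fun y' => ?_
    exact (key _ _ _ _ (hpq y')).2 (ρ.comp (p y') hm)

section up

variable {V : Scheme.{u}} (v : V ⟶ S)

/-- the `V`-point of `M_V` given by an `S`-point of `M` -/
noncomputable def up {Y : Over S} (t : Y.left ⟶ V) (ht : t ≫ v = Y.hom) (a : Y ⟶ M) : Y.left ⟶ (Red.bc v M).left :=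
  pullback.lift a.left t (by rw [Over.w, ht])

lemma up_fst {Y : Over S} (t : Y.left ⟶ V) (ht : t ≫ v = Y.hom) (a : Y ⟶ M) :
    up v t ht a ≫ pullback.fst M.hom v = a.left := pullback.lift_fst _ _ _

lemma up_snd {Y : Over S} (t : Y.left ⟶ V) (ht : t ≫ v = Y.hom) (a : Y ⟶ M) :
    up v t ht a ≫ (Red.bc v M).hom = t := pullback.lift_snd _ _ _

lemma comp_up {Y Y' : Over S} (g : Y' ⟶ Y) (t : Y.left ⟶ V) (ht : t ≫ v = Y.hom) (a : Y ⟶ M) :
    g.left ≫ up v t ht a = up v (g.left ≫ t) (by rw [Category.assoc, ht, Over.w]) (g ≫ a) := by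
  apply pullback.hom_ext
  · rw [Category.assoc]
    exact (congrArg (g.left ≫ ·) (up_fst v t ht a)).trans (up_fst v _ _ (g ≫ a)).symm
  · rw [Category.assoc]
    exact (congrArg (g.left ≫ ·) (up_snd v t ht a)).trans (up_snd v _ _ (g ≫ a)).symm

/-- the projection `M_V ⟶ M` -/
noncomputable def mv (M : Over S) : (Over.map v).obj (Red.bc v M) ⟶ M :=
  Over.homMk (pullback.fst M.hom v) pullback.condition

variable (ρ) in
/-- `c : M_V ⟶ C` has the kernel pair `ρ` -/
def IsQuotAt {C : Over V} (c : Red.bc v M ⟶ C) : Prop :=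
  ∀ (Y : Over S) (t : Y.left ⟶ V) (ht : t ≫ v = Y.hom) (a b : Y ⟶ M),
    up v t ht a ≫ c.left = up v t ht b ≫ c.left ↔ ρ.R a b

variable {v} {C : Over V} {c : Red.bc v M ⟶ C}

/-- local existence of classes -/
lemma exists_isCls_local [IsSeparated C.hom] (hc : IsQuotAt ρ v c) {T : Over S} (x : T ⟶ M) (τ : T.left ⟶ V)
    (hτ : τ ≫ v = T.hom) : ∃ I, IsCls ρ I x := by
  have hs : ((snd M T).left ≫ τ) ≫ v = (M ⊗ T : Over S).hom := by
    rw [Category.assoc, hτ, Over.w]
  let P : Over V := Over.mk ((snd M T).left ≫ τ)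
  let m₁ : P ⟶ Red.bc v M := Over.homMk (up v _ hs (fst M T)) (up_snd v _ hs _)
  let m₂ : P ⟶ Red.bc v M := Over.homMk (up v _ hs (snd M T ≫ x)) (up_snd v _ hs _)
  let ε := equalizer.ι (m₁ ≫ c) (m₂ ≫ c)
  have hε : IsClosedImmersion ε.left := inferInstance
  refine ⟨mkI M T ε.left.ker, fun Y g a => ?_⟩
  rw [toI_mkI]
  refine (mem_iff_ker ε.left g a).trans ?_
  have ht : (a.left ≫ τ) ≫ v = Y.hom := by rw [Category.assoc, hτ, Over.w]
  have e1 : (lift g a).left ≫ m₁.left = up v (a.left ≫ τ) ht g := by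
    refine (comp_up v (lift g a) _ hs (fst M T)).trans ?_
    have h1 : (lift g a).left ≫ (snd M T).left ≫ τ = a.left ≫ τ := by
      rw [← Category.assoc, ← Over.comp_left, lift_snd]
    congr 1
    rw [lift_fst]
  have e2 : (lift g a).left ≫ m₂.left = up v (a.left ≫ τ) ht (a ≫ x) := by
    refine (comp_up v (lift g a) _ hs (snd M T ≫ x)).trans ?_
    have h1 : (lift g a).left ≫ (snd M T).left ≫ τ = a.left ≫ τ := by
      rw [← Category.assoc, ← Over.comp_left, lift_snd]
    congr 1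
    rw [lift_snd_assoc]
  rw [← hc Y (a.left ≫ τ) ht, ← e1, ← e2]
  constructor
  · rintro ⟨z, hz⟩
    rw [← hz, Category.assoc, Category.assoc, Category.assoc, Category.assoc]
    congr 1
    exact congrArg CommaMorphism.left (equalizer.condition (m₁ ≫ c) (m₂ ≫ c))
  · intro h
    let Y' : Over V := Over.mk (a.left ≫ τ)
    let l : Y' ⟶ P := Over.homMk (lift g a).left (by
      change (lift g a).left ≫ (snd M T).left ≫ τ = a.left ≫ τ
      rw [← Category.assoc, ← Over.comp_left, lift_snd])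
    have hl : l ≫ m₁ ≫ c = l ≫ m₂ ≫ c := by
      apply Over.OverMorphism.ext
      change (lift g a).left ≫ m₁.left ≫ c.left = (lift g a).left ≫ m₂.left ≫ c.left
      rw [← Category.assoc, ← Category.assoc]
      exact h
    refine ⟨(equalizer.lift l hl).left, ?_⟩
    rw [← Over.comp_left]
    exact congrArg CommaMorphism.left (equalizer.lift_ι l hl)

end up

/-! ### The functor of classes -/

section quotF

variable (ρ)

/-- sections which are étale locally the class of a point -/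
def IsC (T : Over S) (I : (closedF M).obj (op T)) : Prop :=
  ∀ t : T.left, ∃ (T' : Over S) (f : T' ⟶ T), Etale f.left ∧ t ∈ Set.range f.left ∧
    ∃ x : T' ⟶ M, IsCls ρ ((closedF M).map f.op I) x

lemma isC_map {T T' : Over S} (g : T' ⟶ T) (I : (closedF M).obj (op T)) (h : IsC ρ T I) :
    IsC ρ T' ((closedF M).map g.op I) := by
  intro t
  obtain ⟨T₁, f, hf, ht, x, hx⟩ := h (g.left t)
  obtain ⟨R, p, q, hpq, hp, hp'⟩ := exists_pb g f hf
  refine ⟨R, p, hp, hp' t ht, q ≫ x, ?_⟩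
  have h1 := hx.map q
  rwa [← Functor.map_comp_apply, ← op_comp, ← hpq, op_comp, Functor.map_comp_apply] at h1

/-- the functor of classes -/
noncomputable def quotF : (Over S)ᵒᵖ ⥤ Type u := subF (closedF M) (IsC ρ) (isC_map ρ)

lemma isEtSheaf_quotF : IsEtSheaf (quotF ρ) := by
  refine isEtSheaf_subF (IsQSheaf.isEtSheaf (isQSheaf_closedF M)) _ ?_
  intro T J T' f hf hT y hy t
  obtain ⟨i, t', rfl⟩ := hT t
  obtain ⟨T₁, g, hg, ⟨t₁, ht₁⟩, x, hx⟩ := hy i t'
  have := hf i
  refine ⟨T₁, g ≫ f i, ?_, ⟨t₁, ?_⟩, x, ?_⟩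
  · rw [Over.comp_left]
    infer_instance
  · rw [Over.comp_left, Scheme.Hom.comp_apply, ht₁]
  · rwa [op_comp, Functor.map_comp_apply]

/-- underlying closed subscheme -/
noncomputable def qval {T : Over S} (ξ : (quotF ρ).obj (op T)) : (closedF M).obj (op T) := ξ.1

lemma qval_isC {T : Over S} (ξ : (quotF ρ).obj (op T)) : IsC ρ T (qval ρ ξ) := ξ.2

lemma qval_injective {T : Over S} : Function.Injective (qval ρ (T := T)) := fun _ _ h => Subtype.ext h

lemma qval_map {T T' : Over S} (g : T' ⟶ T) (ξ : (quotF ρ).obj (op T)) :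
    qval ρ ((quotF ρ).map g.op ξ) = (closedF M).map g.op (qval ρ ξ) := rfl

variable (hcls : ∀ {T : Over S} (x : T ⟶ M), ∃ I, IsCls ρ I x)

/-- the class of a point -/
noncomputable def cls {T : Over S} (x : T ⟶ M) : (quotF ρ).obj (op T) := by
  refine (⟨(hcls x).choose, fun t => ⟨T, 𝟙 T, ?_, ⟨t, rfl⟩, x, ?_⟩⟩ : {I : (closedF M).obj (op T) // IsC ρ T I})
  · rw [Over.id_left]
    infer_instance
  · rw [op_id, Functor.map_id_apply]
    exact (hcls x).choose_spec

lemma qval_cls {T : Over S} (x : T ⟶ M) : IsCls ρ (qval ρ (cls ρ hcls x)) x := (hcls x).choose_spec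

lemma map_cls {T T' : Over S} (g : T' ⟶ T) (x : T ⟶ M) : (quotF ρ).map g.op (cls ρ hcls x) = cls ρ hcls (g ≫ x) := by
  apply qval_injective
  rw [qval_map, ((qval_cls ρ hcls x).map g).eq_iff (qval_cls ρ hcls (g ≫ x))]
  exact ρ.refl _

lemma cls_eq_iff {T : Over S} (x y : T ⟶ M) : cls ρ hcls x = cls ρ hcls y ↔ ρ.R x y := by
  rw [← (qval_cls ρ hcls x).eq_iff (qval_cls ρ hcls y), (qval_injective ρ).eq_iff]

lemma exists_cls {T : Over S} (ξ : (quotF ρ).obj (op T)) (t : T.left) : ∃ (T' : Over S) (f : T' ⟶ T), Etale f.left ∧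
    t ∈ Set.range f.left ∧ ∃ x : T' ⟶ M, (quotF ρ).map f.op ξ = cls ρ hcls x := by
  obtain ⟨T', f, hf, ht, x, hx⟩ := qval_isC ρ ξ t
  refine ⟨T', f, hf, ht, x, qval_injective ρ ?_⟩
  rw [qval_map, hx.eq_iff (qval_cls ρ hcls x)]
  exact ρ.refl _

section local_rep

variable {V : Scheme.{u}} {v : V ⟶ S} {C : Over V} {c : Red.bc v M ⟶ C}

/-- **Local representability** -/
lemma exists_rep_local [Smooth c.left] [Surjective c.left] (hc : IsQuotAt ρ v c) :
    ∃ r : ((Over.map v).op ⋙ quotF ρ).RepresentableBy C, r.homEquiv c = cls ρ hcls (mv v M) := by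
  have hF : IsEtSheaf ((Over.map v).op ⋙ quotF ρ) := isEtSheaf_restrict (isEtSheaf_quotF ρ) v
  let ξ : ((Over.map v).op ⋙ quotF ρ).obj (op (Red.bc v M)) := cls ρ hcls (mv v M)
  have hmap : ∀ {T : Over V} (a : T ⟶ Red.bc v M), ((Over.map v).op ⋙ quotF ρ).map a.op ξ =
      cls ρ hcls ((Over.map v).map a ≫ mv v M) := fun a => map_cls ρ hcls ((Over.map v).map a) (mv v M)
  have hup : ∀ {T : Over V} (a : T ⟶ Red.bc v M), up v (Y := (Over.map v).obj T) T.hom rfl
      ((Over.map v).map a ≫ mv v M) = a.left := by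
    intro T a
    apply pullback.hom_ext
    · exact up_fst v _ _ _
    · exact (up_snd v _ _ _).trans (Over.w a).symm
  suffices hh : ∃ r : ((Over.map v).op ⋙ quotF ρ).RepresentableBy C, ∀ _ : PUnit.{u+1}, r.homEquiv c = ξ by
    obtain ⟨r, hr⟩ := hh
    exact ⟨r, hr PUnit.unit⟩
  refine QuotSheaf.exists_representableBy hF (fun _ : PUnit.{u+1} => Red.bc v M) C (fun _ => c)
    (fun _ => ξ) (ConjRep.gen_of_smooth _ _ _ (fun _ => inferInstance) fun x => ⟨PUnit.unit, c.left.surjective x⟩) ?_ ?_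
  · intro T x t
    obtain ⟨T', f, hf, ht, x', hx'⟩ := exists_cls ρ hcls (T := (Over.map v).obj T) x t
    have hw : (f.left ≫ T.hom) ≫ v = T'.hom := by
      rw [Category.assoc]
      exact Over.w f
    let T'' : Over V := Over.mk (f.left ≫ T.hom)
    let f'' : T'' ⟶ T := Over.homMk f.left
    let a : T'' ⟶ Red.bc v M := Over.homMk (up v (f.left ≫ T.hom) hw x') (up_snd v _ _ _)
    let θ : (Over.map v).obj T'' ⟶ T' := Over.homMk (𝟙 T'.left) ((Category.id_comp _).trans hw.symm)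
    have h1 : (Over.map v).map f'' = θ ≫ f := Over.OverMorphism.ext (Category.id_comp _).symm
    have h2 : (Over.map v).map a ≫ mv v M = θ ≫ x' := by
      apply Over.OverMorphism.ext
      exact (up_fst v (f.left ≫ T.hom) hw x').trans (Category.id_comp _).symm
    refine ⟨T'', f'', hf, ht, PUnit.unit, a, ?_⟩
    rw [hmap, h2, ← map_cls ρ hcls θ, ← hx']
    change _ = (quotF ρ).map ((Over.map v).map f'').op x
    rw [h1, op_comp, Functor.map_comp_apply]
  · rintro - - T a b
    dsimp only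
    rw [hmap, hmap, cls_eq_iff, ← hc ((Over.map v).obj T) T.hom rfl, hup, hup]
    constructor
    · intro h
      rw [← Over.comp_left, h, Over.comp_left]
    · intro h
      exact Over.OverMorphism.ext h

end local_rep

end quotF

/-! ### The quotient -/

section main

variable (ρ)

/-- **Existence of the quotient.** -/
theorem exists_quot
    (h : ∀ s : S, ∃ (V : Scheme.{u}) (v : V ⟶ S), Etale v ∧ s ∈ Set.range v ∧ ∃ (C : Over V) (c : Red.bc v M ⟶ C),
      Smooth c.left ∧ Surjective c.left ∧ IsSeparated C.hom ∧ IsQuotAt ρ v c ∧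
      ∀ U : C.left.Opens, IsCompact (U : Set C.left) → (U : Scheme.{u}).IsQuasiAffine) :
    ∃ (Q : Over S) (q : M ⟶ Q), (∀ {X : Over S} (a b : X ⟶ M), a ≫ q = b ≫ q ↔ ρ.R a b) ∧
      ∀ {V : Scheme.{u}} (v : V ⟶ S) (C : Over V) (c : Red.bc v M ⟶ C), Smooth c.left → Surjective c.left →
        IsQuotAt ρ v c → ∃ e : C ≅ Red.bc v Q, c ≫ e.hom = (Over.pullback v).map q := by
  have hcls : ∀ {T : Over S} (x : T ⟶ M), ∃ I, IsCls ρ I x := by
    intro T x
    refine exists_isCls_of_cover x fun t => ?_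
    obtain ⟨V, v, hv, hs, C, c, -, -, hC, hc, -⟩ := h (T.hom t)
    obtain ⟨z, hz⟩ := hs
    obtain ⟨w, hw, -⟩ := Scheme.Pullback.exists_preimage_pullback (f := T.hom) (g := v) t z hz.symm
    refine ⟨Over.mk (pullback.fst T.hom v ≫ T.hom), Over.homMk (pullback.fst T.hom v) rfl, ?_, ⟨w, hw⟩, ?_⟩
    · change Etale (pullback.fst T.hom v)
      infer_instance
    · exact exists_isCls_local hc _ (pullback.snd T.hom v) pullback.condition.symm
  obtain ⟨Q, ⟨r⟩⟩ := exists_representableBy_of_etale (isEtSheaf_quotF ρ) (fun s => by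
    obtain ⟨V, v, hv, hs, C, c, h1, h2, h3, h4, h5⟩ := h s
    obtain ⟨r, -⟩ := exists_rep_local ρ hcls h4
    exact ⟨V, v, hv, hs, C, ⟨r⟩, h5⟩)
  have hr : ∀ {X : Over S} (a : X ⟶ M), r.homEquiv (a ≫ r.homEquiv.symm (cls ρ hcls (𝟙 M))) = cls ρ hcls a := by
    intro X a
    rw [r.homEquiv_comp, Equiv.apply_symm_apply, map_cls, Category.comp_id]
  refine ⟨Q, r.homEquiv.symm (cls ρ hcls (𝟙 M)), ?_, ?_⟩
  · intro X a b
    rw [← r.homEquiv.injective.eq_iff, hr, hr, cls_eq_iff]
  · intro V v C c h1 h2 h3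
    obtain ⟨r', hr'⟩ := exists_rep_local ρ hcls h3
    let e := r'.uniqueUpToIso (repBC v r)
    refine ⟨e, (repBC v r).homEquiv.injective ?_⟩
    have e1 : (repBC v r).homEquiv (c ≫ e.hom) = r'.homEquiv c := by
      have h4 : (repBC v r).homEquiv e.hom = r'.homEquiv (𝟙 C) := by
        rw [Functor.RepresentableBy.uniqueUpToIso_hom]
        exact Equiv.apply_symm_apply _ _
      rw [(repBC v r).homEquiv_comp, h4, ← r'.homEquiv_comp, Category.comp_id]
    have e2 : (repBC v r).homEquiv ((Over.pullback v).map (r.homEquiv.symm (cls ρ hcls (𝟙 M)))) =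
        r.homEquiv (mv v M ≫ r.homEquiv.symm (cls ρ hcls (𝟙 M))) := by
      change r.homEquiv (((Over.mapPullbackAdj v).homEquiv _ _).symm _) = _
      congr 1
      apply Over.OverMorphism.ext
      simp only [mv, Adjunction.homEquiv_counit, Over.comp_left, Over.homMk_left]
      exact pullback.lift_fst _ _ _
    rw [e1, hr', e2, hr]

variable {ρ} {Q : Over S} {q : M ⟶ Q}

/-- étale local properties of the quotient map -/
theorem prop_left (P : MorphismProperty Scheme.{u}) [IsZariskiLocalAtTarget P]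
    [P.IsStableUnderBaseChange] [P.DescendsAlong (@Surjective ⊓ @Flat ⊓ @QuasiCompact)]
    (h : ∀ s : S, ∃ (V : Scheme.{u}) (v : V ⟶ S), Etale v ∧ s ∈ Set.range v ∧ P ((Over.pullback v).map q).left) :
    P q.left := by
  refine of_etale_cover q.left fun y => ?_
  obtain ⟨V, v, hv, ⟨z, hz⟩, hP⟩ := h (Q.hom y)
  obtain ⟨w, hw, -⟩ := Scheme.Pullback.exists_preimage_pullback (f := Q.hom) (g := v) y z hz.symm
  refine ⟨(Red.bc v Q).left, pullback.fst Q.hom v, inferInstance, ⟨w, hw⟩, ?_⟩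
  have h1 := SplitBc264.isPullback_map_left v q
  exact (P.arrow_mk_iso_iff (Arrow.isoMk h1.isoPullback (Iso.refl _) (by simp))).1 hP

/-- étale local properties of the quotient -/
theorem prop_hom (P : MorphismProperty Scheme.{u}) [IsZariskiLocalAtTarget P]
    [P.IsStableUnderBaseChange] [P.DescendsAlong (@Surjective ⊓ @Flat ⊓ @QuasiCompact)]
    (h : ∀ s : S, ∃ (V : Scheme.{u}) (v : V ⟶ S), Etale v ∧ s ∈ Set.range v ∧ P (Red.bc v Q).hom) :
    P Q.hom := of_etale_cover Q.hom h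


end main

end K199.EtQuot
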