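import Groth.Agent.Sga3B.MaxTorBc636
import Mathlib.AlgebraicGeometry.AlgClosed.Basic

/-!
# Geometric points

`IsGeo Z` : `Z` is the spectrum of an algebraically closed field; `IsGeo.exists_lift` : geometric points lift along
morphisms locally of finite type.
-/

set_option autoImplicit false
universe u

open CategoryTheory CategoryTheory.Limits AlgebraicGeometry

namespace K199.GeoPt

open Groth.Agent.Sga3B

/-- spectra of algebraically closed fields -/
def IsGeo (Z : Scheme.{u}) : Prop :=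
  ∃ (K : Type u) (_ : Field K) (_ : IsAlgClosed K), Nonempty (Z ≅ Spec (CommRingCat.of K))

lemma isGeo_spec (K : Type u) [Field K] [IsAlgClosed K] : IsGeo (Spec (CommRingCat.of K)) :=
  ⟨K, inferInstance, inferInstance, ⟨Iso.refl _⟩⟩

variable {X Y Z : Scheme.{u}}

lemma IsGeo.nonempty (hZ : IsGeo Z) : Nonempty Z := by
  obtain ⟨K, _, _, ⟨e⟩⟩ := hZ
  exact ⟨e.inv (IsLocalRing.closedPoint K)⟩

lemma IsGeo.subsingleton (hZ : IsGeo Z) : Subsingleton Z := by
  obtain ⟨K, _, _, ⟨e⟩⟩ := hZ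
  have h1 : Subsingleton (Spec (CommRingCat.of K)) := inferInstance
  exact (e.hom.isOpenEmbedding.injective).subsingleton

/-- Geometric points lift. -/
theorem exists_lift_spec (q : X ⟶ Y) [LocallyOfFiniteType q] (K : Type u) [Field K] [IsAlgClosed K]
    (y : Spec (CommRingCat.of K) ⟶ Y) (hy : y (IsLocalRing.closedPoint K) ∈ Set.range q) :
    ∃ x : Spec (CommRingCat.of K) ⟶ X, x ≫ q = y := by
  let π : pullback q y ⟶ Spec (CommRingCat.of K) := pullback.snd q y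
  have h1 : JacobsonSpace ↥(pullback q y) := LocallyOfFiniteType.jacobsonSpace π
  obtain ⟨x₀, hx₀⟩ := hy
  obtain ⟨z, -, -⟩ := Scheme.Pullback.exists_preimage_pullback (f := q) (g := y) x₀ _ hx₀
  obtain ⟨x, -, hx⟩ := nonempty_inter_closedPoints (X := ↥(pullback q y)) ⟨z, Set.mem_univ z⟩
    isOpen_univ.isLocallyClosed
  refine ⟨pointOfClosedPoint π x hx ≫ pullback.fst q y, ?_⟩
  rw [Category.assoc, pullback.condition, ← Category.assoc]
  exact (congrArg (· ≫ y) (pointOfClosedPoint_comp π x hx)).trans (Category.id_comp y)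

/-- **Geometric points lift.** -/
theorem IsGeo.exists_lift (hZ : IsGeo Z) (q : X ⟶ Y) [LocallyOfFiniteType q] (y : Z ⟶ Y)
    (hy : ∃ z : Z, y z ∈ Set.range q) : ∃ x : Z ⟶ X, x ≫ q = y := by
  have hs := hZ.subsingleton
  obtain ⟨K, _, _, ⟨e⟩⟩ := hZ
  obtain ⟨z, hz⟩ := hy
  obtain ⟨x, hx⟩ := exists_lift_spec q K (e.inv ≫ y) (by
    rw [Scheme.Hom.comp_apply, Subsingleton.elim (e.inv (IsLocalRing.closedPoint K)) z]
    exact hz)
  exact ⟨e.hom ≫ x, by rw [Category.assoc, hx, Iso.hom_inv_id_assoc]⟩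

lemma IsGeo.exists_lift_of_surjective (hZ : IsGeo Z) (q : X ⟶ Y) [LocallyOfFiniteType q] [Surjective q] (y : Z ⟶ Y) :
    ∃ x : Z ⟶ X, x ≫ q = y :=
  hZ.exists_lift q y ⟨hZ.nonempty.some, q.surjective _⟩

/-- A geometric point over each point. -/
lemma exists_geo (x : X) : ∃ (Z : Scheme.{u}) (f : Z ⟶ X), IsGeo Z ∧ ∀ z, f z = x :=
  ⟨_, Red.geomPt x, isGeo_spec _, fun z => by
    rw [Scheme.Hom.comp_apply]
    exact Scheme.fromSpecResidueField_apply _ _⟩

/-- geometric points factor through `Red.geomPt` -/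
lemma IsGeo.exists_fac (hZ : IsGeo Z) (f : Z ⟶ X) : ∃ (x : X) (g : Z ⟶ _), g ≫ Red.geomPt x = f := by
  obtain ⟨K, _, _, ⟨e⟩⟩ := hZ
  obtain ⟨x, θ, hθ⟩ := MaxTorBc636.exists_fac_geomPt (e.inv ≫ f)
  exact ⟨x, e.hom ≫ θ, by rw [Category.assoc, hθ, Iso.hom_inv_id_assoc]⟩

end K199.GeoPt
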