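import Groth.Prelude.Def_RedSub

/-!
# Locally quasi-projective schemes over `S`

* `isLQP_of_iso` : invariance under isomorphisms;
* `isLQP_left` : `cl : M ⟶ Cl` a morphism of `S`-schemes, `M` locally quasi-projective over `S`; then `M` is locally
  quasi-projective over `Cl`.
-/

set_option autoImplicit false
universe u

open CategoryTheory CategoryTheory.Limits AlgebraicGeometry

namespace K199.LQP

variable {S : Scheme.{u}}

/-- invariance under isomorphism -/
lemma isLQP_of_iso {Q Q' : Over S} (e : Q ≅ Q') (hQ : RedSub.IsLocallyQuasiProjective Q) :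
    RedSub.IsLocallyQuasiProjective Q' := by
  intro s
  obtain ⟨V, hs, m, j, hj, hj'⟩ := hQ s
  have h1 : IsIso ((Over.pullback V.ι).map e.inv).left :=
    inferInstanceAs (IsIso ((Over.forget _).map ((Over.pullback V.ι).map e.inv)))
  refine ⟨V, hs, m, ((Over.pullback V.ι).map e.inv).left ≫ j, inferInstance, ?_⟩
  rw [Category.assoc, hj']
  exact Over.w ((Over.pullback V.ι).map e.inv)

/-- quasi-projectivity over an intermediate scheme -/
theorem isLQP_left {M Cl : Over S} (cl : M ⟶ Cl) (hM : RedSub.IsLocallyQuasiProjective M) :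
    RedSub.IsLocallyQuasiProjective (Over.mk cl.left) := by
  intro y
  obtain ⟨U, hU, n, e₀, he₀, he₀'⟩ := hM (Cl.hom y)
  let V' : Cl.left.Opens := Cl.hom ⁻¹ᵁ U
  let ρ : (V' : Scheme.{u}) ⟶ U := Cl.hom ∣_ U
  have hρ : ρ ≫ U.ι = V'.ι ≫ Cl.hom := morphismRestrict_ι _ _
  let P := pullback cl.left V'.ι
  let a₀ : P ⟶ pullback M.hom U.ι := pullback.lift (pullback.fst _ _) (pullback.snd _ _ ≫ ρ) (by
    rw [Category.assoc, hρ, ← pullback.condition_assoc, Over.w cl])
  have ha₀ : a₀ ≫ pullback.fst M.hom U.ι = pullback.fst cl.left V'.ι := pullback.lift_fst _ _ _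
  have ha₀' : a₀ ≫ pullback.snd M.hom U.ι = pullback.snd cl.left V'.ι ≫ ρ := pullback.lift_snd _ _ _
  have h1 : IsOpenImmersion a₀ := by
    have h2 : IsOpenImmersion (a₀ ≫ pullback.fst M.hom U.ι) := by
      rw [ha₀]
      infer_instance
    exact IsOpenImmersion.of_comp a₀ (pullback.fst M.hom U.ι)
  let e₁ : pullback M.hom U.ι ⟶ CohB1.ProjSpaceOver n (U : Scheme.{u}) := e₀
  have he₁ : IsImmersion e₁ := he₀
  have he₁' : e₁ ≫ CohB1.ProjSpaceOver.toBase n (U : Scheme.{u}) = pullback.snd M.hom U.ι := he₀'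
  let fU : CohB1.ProjSpaceOver n (U : Scheme.{u}) ⟶ CohB1.ProjSpace n (ULift.{u} ℤ) := pullback.fst _ _
  let fV : CohB1.ProjSpaceOver n (V' : Scheme.{u}) ⟶ CohB1.ProjSpace n (ULift.{u} ℤ) := pullback.fst _ _
  let e : P ⟶ CohB1.ProjSpaceOver n (V' : Scheme.{u}) :=
    pullback.lift (a₀ ≫ e₁ ≫ fU) (pullback.snd _ _) (specULiftZIsTerminal.hom_ext _ _)
  have he : e ≫ fV = a₀ ≫ e₁ ≫ fU := pullback.lift_fst _ _ _
  have he' : e ≫ CohB1.ProjSpaceOver.toBase n (V' : Scheme.{u}) = pullback.snd cl.left V'.ι := pullback.lift_snd _ _ _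
  let q : CohB1.ProjSpaceOver n (V' : Scheme.{u}) ⟶ CohB1.ProjSpaceOver n (U : Scheme.{u}) :=
    pullback.lift fV (CohB1.ProjSpaceOver.toBase n (V' : Scheme.{u}) ≫ ρ) (specULiftZIsTerminal.hom_ext _ _)
  have hq : q ≫ fU = fV := pullback.lift_fst _ _ _
  have hq' : q ≫ CohB1.ProjSpaceOver.toBase n (U : Scheme.{u}) = CohB1.ProjSpaceOver.toBase n (V' : Scheme.{u}) ≫ ρ :=
    pullback.lift_snd _ _ _
  have hext : ∀ {T : Scheme.{u}} (a b : T ⟶ CohB1.ProjSpaceOver n (U : Scheme.{u})), a ≫ fU = b ≫ fU →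
      a ≫ CohB1.ProjSpaceOver.toBase n (U : Scheme.{u}) = b ≫ CohB1.ProjSpaceOver.toBase n (U : Scheme.{u}) → a = b :=
    fun a b h h' => pullback.hom_ext h h'
  have h3 : e ≫ q = a₀ ≫ e₁ := by
    apply hext
    · rw [Category.assoc, hq, he, Category.assoc]
    · rw [Category.assoc, hq', ← Category.assoc, he', Category.assoc, he₁', ha₀']
  have h4 : IsImmersion (e ≫ q) := by
    rw [h3]
    infer_instance
  exact ⟨V', hU, n, e, IsImmersion.of_comp e q, pullback.lift_snd _ _ _⟩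

end K199.LQP
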