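import Groth.Prelude.Def_RedSub
import Groth.Agent.RedSub.H637.PosRoots
import Groth.Agent.Sga3B.IsomComb

/-!
# Closed sets of roots `P` with `P ∪ -P = everything` contain a system of positive roots
-/

set_option autoImplicit false

open RootPairing

namespace K199.ParabSet

open Groth.Agent.RedSub.H637.PosRoots Groth.Agent.Sga3A.Weyl Groth.Agent.Sga3B.IsomComb

variable {idx M N : Type} [AddCommGroup M] [AddCommGroup N] [Finite idx]
  {P : RootPairing idx ℤ M N} (b : P.Base)

omit [Finite idx] in
/-- a positive root whose reflection in a simple root `s` is negative is a multiple of `s` -/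
lemma eq_zsmul_of_reflection_neg {s a : idx} (hs : s ∈ b.support) (ha : b.IsPos a)
    (h : ¬ b.IsPos (P.reflectionPerm s a)) : ∃ n : ℤ, P.root a = n • P.root s := by
  classical
  obtain ⟨f, hf0, hf, hfs⟩ := b.exists_root_eq_sum_int a
  obtain ⟨g, hg0, hg, hgs⟩ := b.exists_root_eq_sum_int (P.reflectionPerm s a)
  have hf' : 0 < f := by
    refine hf.resolve_right fun hneg => ?_
    rw [RootPairing.Base.isPos_iff, RootPairing.Base.height_eq_sum hfs] at ha
    exact absurd ha (not_lt.2 (Finset.sum_nonpos fun j _ => hneg.le j))
  have hg' : g < 0 := by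
    refine hg.resolve_left fun hpos => h ?_
    rw [RootPairing.Base.isPos_iff', RootPairing.Base.height_eq_sum hgs]
    exact Finset.sum_nonneg fun j _ => hpos.le j
  have h1 : P.root (P.reflectionPerm s a) = P.root a - P.pairing a s • P.root s := by
    rw [P.root_reflectionPerm, P.reflection_apply_root]
  have h2 : ∑ j ∈ b.support, g j • P.root j =
      ∑ j ∈ b.support, (f j - (if j = s then P.pairing a s else 0)) • P.root j := by
    rw [← hgs, h1, hfs]
    simp only [sub_smul, Finset.sum_sub_distrib]
    congr 1
    rw [Finset.sum_eq_single_of_mem s hs]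
    · simp
    · intro j _ hj
      simp [hj]
  have h3 : ∀ j ∈ b.support, g j = f j - (if j = s then P.pairing a s else 0) := by
    intro j hj
    rw [b.support.sum_subtype (p := (· ∈ b.support)) (by simp) (F := inferInstance),
      b.support.sum_subtype (p := (· ∈ b.support)) (by simp) (F := inferInstance)] at h2
    have aux := Fintype.linearIndependent_iffₛ.mp
      (b.linearIndepOn_root.restrict_scalars' ℤ) (g ∘ (↑))
      ((fun j => f j - (if j = s then P.pairing a s else 0)) ∘ (↑)) (by simpa using h2)
    simpa using! aux ⟨j, hj⟩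
  have h4 : ∀ j ∈ b.support, j ≠ s → f j = 0 := by
    intro j hj hjs
    have := h3 j hj
    rw [if_neg hjs, sub_zero] at this
    have h5 := hf'.le j
    have h6 := hg'.le j
    simp only [Pi.zero_apply] at h5 h6
    omega
  refine ⟨f s, ?_⟩
  rw [hfs, Finset.sum_eq_single_of_mem s hs]
  intro j hj hjs
  rw [h4 j hj hjs, zero_smul]

include b in
/-- **Bourbaki VI §1 Prop. 20**: a closed set of roots `R'` with `R' ∪ -R' = R` contains a system of positive roots. -/
theorem exists_base_posRoots_subset (R' : Set idx)
    (hcl : ∀ a b c : idx, a ∈ R' → b ∈ R' → P.root a + P.root b = P.root c → c ∈ R')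
    (hun : ∀ a : idx, a ∈ R' ∨ P.reflectionPerm a a ∈ R') :
    ∃ b' : P.Base, RedSub.posRoots P b' ⊆ R' := by
  classical
  -- choose `g` in the automorphism group with the least number of bad roots
  let cnt : P.Aut → ℕ := fun g => Set.ncard {c : idx | c ∉ R' ∧ b.IsPos (g • c)}
  obtain ⟨g, hg⟩ : ∃ g : P.Aut, ∀ g' : P.Aut, cnt g ≤ cnt g' := by
    obtain ⟨g, -, hg⟩ := WellFounded.has_min (InvImage.wf cnt Nat.lt_wfRel.wf) Set.univ ⟨1, trivial⟩
    exact ⟨g, fun g' => not_lt.1 (hg g' trivial)⟩
  have key : ∀ c, b.IsPos (g • c) → c ∈ R' := by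
    -- enough for simple roots
    suffices hsimple : ∀ s ∈ b.support, g⁻¹ • s ∈ R' by
      intro c hc
      have h1 : ∀ y, b.IsPos y → g⁻¹ • y ∈ R' := by
        intro y hy
        refine hy.induction_on_add (p := fun y => g⁻¹ • y ∈ R') hsimple ?_
        intro i j k hk hi hj
        refine hcl _ _ _ hi (hsimple j hj) ?_
        rw [root_smul, root_smul, root_smul, hk, smul_add]
      have := h1 _ hc
      rwa [inv_smul_smul] at this
    intro s hs
    by_contra hβ
    -- reflect
    have hlt : cnt (Equiv.reflection P s * g) < cnt g := by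
      apply Set.ncard_lt_ncard _ (Set.toFinite _)
      rw [Set.ssubset_iff_of_subset]
      · refine ⟨g⁻¹ • s, ⟨hβ, ?_⟩, ?_⟩
        · rw [smul_inv_smul]
          exact RootPairing.Base.isPos_of_mem_support hs
        · rintro ⟨-, h⟩
          rw [mul_smul, smul_inv_smul, reflection_smul_idx, isPos_neg_iff] at h
          exact h (RootPairing.Base.isPos_of_mem_support hs)
      · rintro c ⟨hc, hpos⟩
        refine ⟨hc, ?_⟩
        by_contra hneg
        rw [mul_smul, reflection_smul_idx] at hpos
        apply hc
        -- `x = g c` is negative, `s_s x` is positive: `-x` is `s` or `2 s`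
        set x := g • c with hx
        have h1 : b.IsPos (P.reflectionPerm x x) := by
          rw [isPos_neg_iff]; exact hneg
        have h2 : ¬ b.IsPos (P.reflectionPerm s (P.reflectionPerm x x)) := by
          have h3 : P.reflectionPerm s (P.reflectionPerm x x) =
              P.reflectionPerm (P.reflectionPerm s x) (P.reflectionPerm s x) := by
            apply P.root.injective
            rw [P.root_reflectionPerm, P.root_reflectionPerm, P.reflection_apply_self, map_neg,
              P.root_reflectionPerm (P.reflectionPerm s x), P.reflection_apply_self,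
              P.root_reflectionPerm]
          rw [h3, isPos_neg_iff, not_not]
          exact hpos
        obtain ⟨n, hn⟩ := eq_zsmul_of_reflection_neg b hs h1 h2
        rw [P.root_reflectionPerm, P.reflection_apply_self] at hn
        -- `-root x = n • root s`
        have hβ' : P.reflectionPerm (g⁻¹ • s) (g⁻¹ • s) ∈ R' := (hun _).resolve_left hβ
        have hc' : P.root c = n • P.root (P.reflectionPerm (g⁻¹ • s) (g⁻¹ • s)) := by
          have h4 : P.root c = g⁻¹ • P.root x := by rw [hx, ← root_smul, inv_smul_smul]
          have h5 : P.root x = -(n • P.root s) := by rw [← hn, neg_neg]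
          have h6 : g⁻¹ • (n • P.root s) = n • (g⁻¹ • P.root s) :=
            map_zsmul (DistribSMul.toAddMonoidHom M g⁻¹) n (P.root s)
          rw [h4, h5, P.root_reflectionPerm, P.reflection_apply_self, root_smul,
            smul_neg, smul_neg, h6]
        -- n is 1 or 2
        have hpos' : 0 < n := by
          have h5 := b.height_add_zsmul (i := s) (j := s) (k := P.reflectionPerm x x) (z := n - 1)
            (by rw [P.root_reflectionPerm, P.reflection_apply_self, hn]; module)
          rw [RootPairing.Base.isPos_iff, h5, RootPairing.Base.height_one_of_mem_support hs] at h1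
          simpa using h1
        have h6 : n * P.pairing (g⁻¹ • s) c = -2 := by
          have h7 : P.pairing c c = 2 := P.pairing_same c
          have h8 : P.pairing (P.reflectionPerm (g⁻¹ • s) (g⁻¹ • s)) c =
              - P.pairing (g⁻¹ • s) c := by
            simp
          rw [← P.root_coroot_eq_pairing, hc', map_zsmul, LinearMap.smul_apply,
            P.root_coroot_eq_pairing, h8] at h7
          simp only [smul_eq_mul, mul_neg] at h7
          omega
        have h9 : n ∣ 2 := ⟨-P.pairing (g⁻¹ • s) c, by rw [mul_neg, h6, neg_neg]⟩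
        have h10 : n ≤ 2 := Int.le_of_dvd (by norm_num) h9
        obtain rfl | rfl : n = 1 ∨ n = 2 := by omega
        · rw [one_smul] at hc'
          rw [P.root.injective hc']
          exact hβ'
        · refine hcl _ _ _ hβ' hβ' ?_
          rw [hc', two_smul]
    exact absurd (hg _) (not_le.2 hlt)
  refine ⟨pullBase g b, fun a ha => key a ?_⟩
  rw [← mem_posRoots_iff]
  change P.root a ∈ AddSubmonoid.closure _ at ha
  change P.root (g • a) ∈ AddSubmonoid.closure _
  rw [root_smul]
  have h1 : g • P.root a ∈ AddSubmonoid.map
      (DistribSMul.toAddMonoidHom M g) (AddSubmonoid.closure (P.root '' ((pullBase g b).support : Set idx))) :=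
    ⟨_, ha, rfl⟩
  rw [AddMonoidHom.map_mclosure] at h1
  refine AddSubmonoid.closure_mono ?_ h1
  rintro _ ⟨_, ⟨j, hj, rfl⟩, rfl⟩
  refine ⟨g • j, ?_, ?_⟩
  · exact (mem_pullBase g b j).1 hj
  · exact root_smul P g j

end K199.ParabSet
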