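import Groth.Agent.RedSub.K199.SubCor
import Groth.Agent.RedSub.K199.CentSS

/-!
# Products of a semisimple group and a torus
-/

set_option autoImplicit false
universe u

open CategoryTheory MonoidalCategory CartesianMonoidalCategory MonObj GrpObj AlgebraicGeometry Limits

namespace K199.ProdSS

open Groth.Agent Groth.Agent.Sga3B

variable {S : Scheme.{u}} {G D Z R : Over S} [GrpObj G] [GrpObj D] [GrpObj Z] [GrpObj R]

lemma central {j : Z ⟶ G} (hZ : Red.IsCentre j) {X : Over S} (z : X ⟶ Z) (g : X ⟶ G) :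
    (z ≫ j) * g = g * (z ≫ j) := by
  have h := (hZ.2.2 X (z ≫ j)).1 ⟨z, rfl⟩ X (𝟙 X) g
  simpa only [Category.id_comp, Category.comp_id] using h

/-- in a product of a semisimple group and a torus the radical meets the derived group trivially -/
theorem inter_trivial (d : D ⟶ G) (hkill : RedSub.KilledByCommutative d) (j : Z ⟶ G) (hZ : Red.IsCentre j)
    (r : R ⟶ Z) (hR : Red.IsMaximalTorus r) {G₁ G₂ : Over S} [GrpObj G₁] [GrpObj G₂] (p₁ : G ⟶ G₁) (p₂ : G ⟶ G₂)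
    [IsMonHom p₁] [IsMonHom p₂] (h₁ : Red.IsSemisimple G₁) (h₂ : Red.IsTorus G₂) [IsIso (lift p₁ p₂)]
    (X : Over S) (x : X ⟶ R) (y : X ⟶ D) (hxy : x ≫ r ≫ j = y ≫ d) : x = 1 := by
  have hrm := hR.1
  have hrmono := hR.2.1
  have hjm := hZ.1
  have hjmono := hZ.2.1
  have hf : r ≫ j ≫ p₁ = 1 := by
    refine CentSS.eq_one h₁ hR.2.2.1 (r ≫ j ≫ p₁) fun X z g => ?_
    have h3 := congrArg (· ≫ p₁) (central hZ (z ≫ r) (lift g 1 ≫ inv (lift p₁ p₂)))
    have h4 : (lift g (1 : X ⟶ G₂) ≫ inv (lift p₁ p₂)) ≫ p₁ = g := by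
      have : inv (lift p₁ p₂) ≫ p₁ = fst _ _ := by
        rw [IsIso.inv_comp_eq, lift_fst]
      rw [Category.assoc, this, lift_fst]
    simp only [MonObj.mul_comp, h4] at h3
    simpa only [Category.assoc] using h3
  have e1 : (x ≫ r ≫ j) ≫ p₁ = 1 := by
    simp only [Category.assoc]
    rw [hf, MonObj.comp_one]
  have e2 : (x ≫ r ≫ j) ≫ p₂ = 1 := by
    rw [hxy, Category.assoc, hkill G₂ p₂ (MaxTorNear900.mul_comm_of_isTorus h₂), MonObj.comp_one]
  have e3 : x ≫ r ≫ j = 1 := by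
    generalize x ≫ r ≫ j = w at e1 e2
    rw [← cancel_mono (lift p₁ p₂)]
    apply CartesianMonoidalCategory.hom_ext
    · rw [Category.assoc, Category.assoc, lift_fst, e1, MonObj.one_comp]
    · rw [Category.assoc, Category.assoc, lift_snd, e2, MonObj.one_comp]
  have hm : Mono (r ≫ j) := inferInstance
  rw [← cancel_mono (r ≫ j), e3, MonObj.one_comp]

/-- multiplication of a central subgroup with a subgroup is a homomorphism -/
theorem isMonHom_mul (i : R ⟶ G) [IsMonHom i] (d : D ⟶ G) [IsMonHom d]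
    (hc : ∀ (X : Over S) (z : X ⟶ R) (g : X ⟶ G), (z ≫ i) * g = g * (z ≫ i)) :
    IsMonHom ((i ⊗ₘ d) ≫ μ[G]) := by
  have key : ∀ {X : Over S} (x : X ⟶ R ⊗ D), x ≫ (i ⊗ₘ d) ≫ μ[G] = ((x ≫ fst _ _) ≫ i) * ((x ≫ snd _ _) ≫ d) := by
    intro X x
    rw [Hom.mul_def, ← Category.assoc]
    congr 1
    apply CartesianMonoidalCategory.hom_ext <;> simp
  refine Pts.isMonHom_of_points _ fun X x y => ?_
  rw [key, key, key]
  have h1 : (x * y) ≫ fst R D = (x ≫ fst _ _) * (y ≫ fst _ _) := MonObj.mul_comp _ _ _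
  have h2 : (x * y) ≫ snd R D = (x ≫ snd _ _) * (y ≫ snd _ _) := MonObj.mul_comp _ _ _
  rw [h1, h2, MonObj.mul_comp, MonObj.mul_comp]
  have h3 := hc X (y ≫ fst _ _) ((x ≫ snd _ _) ≫ d)
  generalize (x ≫ fst R D) ≫ i = a at *
  generalize (y ≫ fst R D) ≫ i = a' at *
  generalize (x ≫ snd R D) ≫ d = b at *
  generalize (y ≫ snd R D) ≫ d = b' at *
  calc a * a' * (b * b') = a * (a' * b) * b' := by group
    _ = a * (b * a') * b' := by rw [h3]
    _ = a * b * (a' * b') := by group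

lemma isMonHom_inv {A B : Over S} [GrpObj A] [GrpObj B] (f : A ⟶ B) [IsMonHom f] [IsIso f] : IsMonHom (inv f) := by
  refine Pts.isMonHom_of_points _ fun X x y => ?_
  rw [← cancel_mono f, MonObj.mul_comp (x ≫ inv f) (y ≫ inv f) f]
  simp only [Category.assoc, IsIso.inv_hom_id, Category.comp_id]

/-- if `R × D → G` is an isomorphism then `G` is the product of a semisimple group and a torus -/
theorem exists_product (hD : Red.IsSemisimple D) (hRt : Red.IsTorus R) (i : R ⟶ G) [IsMonHom i] (d : D ⟶ G)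
    [IsMonHom d] (hc : ∀ (X : Over S) (z : X ⟶ R) (g : X ⟶ G), (z ≫ i) * g = g * (z ≫ i))
    (h : IsIso ((i ⊗ₘ d) ≫ μ[G])) :
    ∃ (G₁ G₂ : Over S) (_ : GrpObj G₁) (_ : GrpObj G₂) (p₁ : G ⟶ G₁) (p₂ : G ⟶ G₂), IsMonHom p₁ ∧ IsMonHom p₂ ∧
        Red.IsSemisimple G₁ ∧ Red.IsTorus G₂ ∧ IsIso (lift p₁ p₂) := by
  have hm := isMonHom_mul i d hc
  have hm' := isMonHom_inv ((i ⊗ₘ d) ≫ μ[G])
  refine ⟨D, R, inferInstance, inferInstance, inv ((i ⊗ₘ d) ≫ μ[G]) ≫ snd _ _, inv ((i ⊗ₘ d) ≫ μ[G]) ≫ fst _ _,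
    inferInstance, inferInstance, hD, hRt, ?_⟩
  have h1 : lift (inv ((i ⊗ₘ d) ≫ μ[G]) ≫ snd _ _) (inv ((i ⊗ₘ d) ≫ μ[G]) ≫ fst _ _) =
      inv ((i ⊗ₘ d) ≫ μ[G]) ≫ lift (snd _ _) (fst _ _) := by
    apply CartesianMonoidalCategory.hom_ext
    · rw [lift_fst, Category.assoc, lift_fst]
    · rw [lift_snd, Category.assoc, lift_snd]
  have h2 : IsIso (lift (snd R D) (fst R D)) := by
    refine ⟨lift (snd D R) (fst D R), ?_, ?_⟩ <;>
    apply CartesianMonoidalCategory.hom_ext <;> simp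
  rw [h1]
  infer_instance

end K199.ProdSS
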