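import Groth.Agent.RedSub.K199.RCQuot
import Groth.Agent.RedSub.K199.LQP

/-!
# The scheme of conjugacy classes of subgroups of type (RC)

`main` (closedness of the subgroups of type (RC) is a hypothesis `ClosedStmt`).
-/

set_option autoImplicit false
universe u

open CategoryTheory CategoryTheory.Limits AlgebraicGeometry Opposite MonoidalCategory CartesianMonoidalCategory
  MonObj GrpObj

namespace K199.RCCls

open Groth.Agent.Redsub.H649.ConjPts (fam InC taut)
open Groth.Agent Groth.Agent.Sga3B Groth.Agent.Sga3B.RepDescent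
  Groth.Agent.RedSub.H647.SubPt Groth.Agent.RedSub.H647.SubF Groth.Agent.RedSub.H647.SubF.SubClass
  Groth.Agent.RedSub.H660.ConjRep Groth.Agent.RedSub.H660.Restrict Groth.Agent.RedSub.H660.Classes
  K199.RCRel K199.EtQuot K199.GeoPt K199.SigMap K199.TypeRCov K199.RCRep K199.RCQuot

section loc

variable {V : Scheme.{u}} {G : Over V} [GrpObj G] {D : Red.SplitRed G} (m : Mod D)

lemma hom_surjective (j : JJ.{u} D.P) : Surjective (m.X j).hom := by
  refine ⟨fun x => ⟨(η[G] ≫ m.π j).left x, ?_⟩⟩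
  rw [← Scheme.Hom.comp_apply, Over.w (η[G] ≫ m.π j)]
  rfl

lemma smooth_fold : Smooth (fold m.X).left := smooth_sigMap _ fun j => by
  have := m.smX j
  exact inferInstanceAs (Smooth (m.X j).hom)

lemma surjective_fold : Surjective (fold m.X).left := surjective_sigMap _ fun j => by
  have := hom_surjective m j
  exact inferInstanceAs (Surjective (m.X j).hom)

lemma quasiCompact_fold : QuasiCompact (fold m.X).left := by
  have := D.fintypeIdx
  exact quasiCompact_sigMap _ fun j => by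
    have := m.qcX j
    exact inferInstanceAs (QuasiCompact (m.X j).hom)

end loc

variable {S : Scheme.{u}} {G : Over S} [GrpObj G] {M : Over S} {H : Over M.left} {h : H ⟶ Red.bc M.hom G}

section L

variable {V : Scheme.{u}} {v : V ⟶ S} {D : Red.SplitRed (Red.bc v G)} {m : Mod D} (L : Loc h v m)

/-- properties of the local quotient map -/
lemma prop_c (P : MorphismProperty Scheme.{u}) [P.RespectsIso] (hP : P (fold m.X).left) : P L.c.left := by
  have h1 : IsIso L.e.hom.left := (Over.forget _).map_isIso L.e.hom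
  rw [Loc.c, Over.comp_left]
  exact (P.cancel_left_of_respectsIso _ _).2 hP

end L

/-- connectedness of the geometric fibres -/
theorem connected_fibre (hG : Red.IsReductive G) {Cl : Over S} (cl : M ⟶ Cl)
    (hloc : ∀ s : S, ∃ (A : CommRingCat.{u}) (v : Spec A ⟶ S), Etale v ∧ s ∈ Set.range v ∧
      ∃ (D : Red.SplitRed (Red.bc v G)) (m : Mod D) (L : Loc h v m)
        (e : units (JJ.{u} D.P) (Spec A) ≅ Red.bc v Cl), L.c ≫ e.hom = (Over.pullback v).map cl) (y : Cl.left) :
    ConnectedSpace ↥(Red.geomFibre y (Over.mk cl.left)).left := by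
  obtain ⟨A, v, hv, hs, D, m, L, e, he⟩ := hloc (Cl.hom y)
  have hK : IsGeo (Spec (CommRingCat.of (AlgebraicClosure (Cl.left.residueField y)))) := isGeo_spec _
  have hy : ∀ z, Red.geomPt y z = y := fun z => by
    rw [Scheme.Hom.comp_apply]
    exact Scheme.fromSpecResidueField_apply _ _
  obtain ⟨z₀⟩ := id hK.nonempty
  obtain ⟨t, ht⟩ := hK.exists_lift v (Red.geomPt y ≫ Cl.hom) ⟨z₀, by
    rw [Scheme.Hom.comp_apply, hy]
    exact hs⟩
  have hfst : ∀ {T : Over (Spec A)} (a : T ⟶ Red.bc v M), (a ≫ (Over.pullback v).map cl).left ≫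
      pullback.fst Cl.hom v = (a.left ≫ pullback.fst M.hom v) ≫ cl.left := by
    intro T a
    rw [Over.comp_left, Category.assoc, Category.assoc]
    congr 1
    exact (SplitBc264.isPullback_map_left v cl).w.symm
  let yh : Over.mk t ⟶ Red.bc v Cl := Over.homMk (pullback.lift (Red.geomPt y) t ht.symm) (pullback.lift_snd _ _ _)
  have hyh : yh.left ≫ pullback.fst Cl.hom v = Red.geomPt y := pullback.lift_fst _ _ _
  obtain ⟨j, b', hb'⟩ := exists_fac (T := Over.mk t) hK (yh ≫ e.inv)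
  have hb'' : toUnit _ ≫ unitι (JJ.{u} D.P) (Spec A) j ≫ e.hom = yh := by
    have h1 : b' ≫ unitι (JJ.{u} D.P) (Spec A) j = yh ≫ e.inv := hb'
    rw [← Category.assoc, toUnit_unique (toUnit (Over.mk t)) b', h1, Category.assoc, e.inv_hom_id, Category.comp_id]
  -- the map from the fibre of `G`
  have hGv : Red.IsReductive (Red.bc v G) := RedBcAny636.isReductive_bc v hG
  have hconn : ConnectedSpace (pullback (Red.bc v G).hom t : Scheme.{u}) := MaxTorBc505.connectedSpace_bc hGv t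
  let W : Over (Spec A) := Over.mk (pullback.snd (Red.bc v G).hom t ≫ t)
  let ga : W ⟶ Red.bc v G := Over.homMk (pullback.fst (Red.bc v G).hom t) pullback.condition
  let p : W ⟶ Over.mk t := Over.homMk (pullback.snd (Red.bc v G).hom t)
  let mu : W ⟶ Red.bc v M := (ga ≫ m.π j ≫ sigι m.X j) ≫ L.e.inv
  have hmu : mu ≫ (Over.pullback v).map cl = p ≫ yh := by
    have h1 := L.comp_c mu ga j (by rw [Category.assoc, L.e.inv_hom_id, Category.comp_id])
    rw [← he, ← Category.assoc, h1, ← hb'', Category.assoc, ← Category.assoc p]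
    congr 1
  let F : W.left ⟶ pullback cl.left (Red.geomPt y) := pullback.lift (mu.left ≫ pullback.fst M.hom v) p.left (by
    rw [← hfst, hmu, Over.comp_left, Category.assoc, hyh])
  have hF1 : F ≫ pullback.fst _ _ = mu.left ≫ pullback.fst M.hom v := pullback.lift_fst _ _ _
  have hF2 : F ≫ pullback.snd _ _ = p.left := pullback.lift_snd _ _ _
  have hFs : Function.Surjective F := by
    intro z
    obtain ⟨Z, f, hZ, hf⟩ := exists_geo z
    obtain ⟨f₁, hf₁⟩ : ∃ f₁, f₁ = f ≫ pullback.fst cl.left (Red.geomPt y) := ⟨_, rfl⟩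
    obtain ⟨f₂, hf₂⟩ : ∃ f₂, f₂ = f ≫ pullback.snd cl.left (Red.geomPt y) := ⟨_, rfl⟩
    have hf₁₂ : f₁ ≫ cl.left = f₂ ≫ Red.geomPt y := by
      rw [hf₁, hf₂, Category.assoc, Category.assoc, pullback.condition]
    have hw : f₁ ≫ M.hom = (f₂ ≫ t) ≫ v := by
      rw [Category.assoc, ht, ← Over.w cl, ← Category.assoc, hf₁₂, Category.assoc]
    let α : Over.mk (f₂ ≫ t) ⟶ Red.bc v M := Over.homMk (pullback.lift f₁ _ hw) (pullback.lift_snd _ _ _)
    have hα : α.left ≫ pullback.fst M.hom v = f₁ := pullback.lift_fst _ _ _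
    let k : Over.mk (f₂ ≫ t) ⟶ Over.mk t := Over.homMk f₂ rfl
    have hk : α ≫ (Over.pullback v).map cl = k ≫ yh := by
      apply Over.OverMorphism.ext
      apply pullback.hom_ext
      · refine (hfst α).trans ?_
        rw [hα, Over.comp_left, Category.assoc, hyh]
        exact hf₁₂
      · exact (Over.w (α ≫ (Over.pullback v).map cl)).trans (Over.w (k ≫ yh)).symm
    obtain ⟨i, g, hg⟩ := exists_gj (m := m) hZ (α ≫ L.e.hom)
    have h1 := L.comp_c α g i hg
    obtain ⟨z'⟩ := id hZ.nonempty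
    have hij : i = j := by
      have h2 : toUnit (Over.mk (f₂ ≫ t)) ≫ unitι (JJ.{u} D.P) (Spec A) i =
          toUnit (Over.mk (f₂ ≫ t)) ≫ unitι (JJ.{u} D.P) (Spec A) j := by
        rw [← h1, ← cancel_mono e.hom, Category.assoc, he, hk, ← hb'', Category.assoc, ← Category.assoc k]
        congr 1
      exact eq_of_sigι_eq (fun _ : JJ.{u} D.P => 𝟙_ (Over (Spec A))) (T := Over.mk (f₂ ≫ t)) z' _ _ h2
    subst hij
    have hgt : g.left ≫ (Red.bc v G).hom = f₂ ≫ t := Over.w g
    have hwW : pullback.lift g.left f₂ hgt ≫ W.hom = f₂ ≫ t := by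
      change pullback.lift g.left f₂ hgt ≫ pullback.snd (Red.bc v G).hom t ≫ t = f₂ ≫ t
      rw [← Category.assoc, pullback.lift_snd]
    let w : Over.mk (f₂ ≫ t) ⟶ W := Over.homMk (pullback.lift g.left f₂ hgt) hwW
    have hw1 : w ≫ ga = g := Over.OverMorphism.ext (pullback.lift_fst _ _ _)
    have hw2 : w.left ≫ p.left = f₂ := pullback.lift_snd _ _ _
    have hw3 : w ≫ mu = α := by
      rw [← cancel_mono L.e.hom, hg, Category.assoc, Category.assoc, L.e.inv_hom_id, Category.comp_id,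
        ← Category.assoc, hw1]
    have h3 : w.left ≫ F = f := by
      apply pullback.hom_ext
      · rw [Category.assoc, hF1, ← Category.assoc, ← Over.comp_left, hw3, hα, hf₁]
      · rw [Category.assoc, hF2, hw2, hf₂]
    refine ⟨w.left z', ?_⟩
    rw [← Scheme.Hom.comp_apply, h3]
    exact hf z'
  have hW : ConnectedSpace W.left := hconn
  exact hFs.connectedSpace F.continuous

theorem main (hcl : ClosedStmt.{u}) (hG : Red.IsReductive G) [GrpObj H] (hh : RedSub.IsTypeR h) (hRC : RC.IsRC h)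
    (huniv : ∀ (S' : Scheme.{u}) (f : S' ⟶ S) (H' : Over S') [GrpObj H'] (h' : H' ⟶ Red.bc f G), RedSub.IsTypeR h' →
      RC.IsRC h' → ∃! g : S' ⟶ M.left, g ≫ M.hom = f ∧ RedSub.SamePoints G f h' M h g) :
    ∃ (Cl : Over S) (cl : M ⟶ Cl), IsFinite Cl.hom ∧ Etale Cl.hom ∧ Smooth cl.left ∧ Surjective cl.left ∧
      QuasiCompact cl.left ∧ LocallyOfFinitePresentation cl.left ∧ RedSub.IsLocallyQuasiProjective (Over.mk cl.left) ∧
      (∀ c : ↥Cl.left, ConnectedSpace ↥(Red.geomFibre c (Over.mk cl.left)).left) ∧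
      ∀ (S' : Scheme.{u}) (f : S' ⟶ S) (H₁ H₂ : Over S') [GrpObj H₁] [GrpObj H₂] (h₁ : H₁ ⟶ Red.bc f G)
        (h₂ : H₂ ⟶ Red.bc f G) (g₁ g₂ : S' ⟶ M.left), RedSub.IsTypeR h₁ → RedSub.IsTypeR h₂ →
        g₁ ≫ M.hom = f → g₂ ≫ M.hom = f → RedSub.SamePoints G f h₁ M h g₁ → RedSub.SamePoints G f h₂ M h g₂ →
        (g₁ ≫ cl.left = g₂ ≫ cl.left ↔
          ∀ s : ↥S', ∃ gpt : 𝟙_ _ ⟶ Red.geomFibre s (Red.bc f G),
            RedSub.ConjEq ((Over.pullback (Red.geomPt s)).map h₁) ((Over.pullback (Red.geomPt s)).map h₂) gpt) := by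
  have hM : (good_RC.toClass hG).Represents M h := by
    refine ⟨⟨RedBcAny636.isReductive_bc _ hG, hcl (RedBcAny636.isReductive_bc _ hG) h hh hRC, hh, hRC⟩, ?_⟩
    intro S' f H' _ h' hQ
    exact huniv S' f H' h' hQ.2.2.1 hQ.2.2.2
  have hloc₀ : ∀ s : S, ∃ (A : CommRingCat.{u}) (v : Spec A ⟶ S), Etale v ∧ s ∈ Set.range v ∧
      ∃ (D : Red.SplitRed (Red.bc v G)) (m : Mod D), Nonempty (Loc h v m) := by
    intro s
    obtain ⟨A, v, hv, hs, ⟨D⟩⟩ := RCMain.exists_split_spec hG s
    obtain ⟨m⟩ := exists_mod D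
    exact ⟨A, v, hv, hs, D, m, exists_loc hcl hG hM v m⟩
  obtain ⟨Cl, cl, hrel, hiso⟩ := exists_quot (relM h) (fun s => by
    obtain ⟨A, v, hv, hs, D, m, ⟨L⟩⟩ := hloc₀ s
    have := D.fintypeIdx
    have hfin : IsFinite (units (JJ.{u} D.P) (Spec A)).hom := isFinite_units _ A
    have haff : IsAffine (units (JJ.{u} D.P) (Spec A)).left := isAffine_of_isAffineHom (units (JJ.{u} D.P) (Spec A)).hom
    refine ⟨Spec A, v, hv, hs, _, L.c, prop_c L @Smooth (smooth_fold m), prop_c L @Surjective (surjective_fold m),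
      inferInstance, L.isQuotAt, fun U hU => isQuasiAffine_of_le (le_top : U ≤ ⊤) (isAffineOpen_top _) hU⟩)
  have hloc : ∀ s : S, ∃ (A : CommRingCat.{u}) (v : Spec A ⟶ S), Etale v ∧ s ∈ Set.range v ∧
      ∃ (D : Red.SplitRed (Red.bc v G)) (m : Mod D) (L : Loc h v m)
        (e : units (JJ.{u} D.P) (Spec A) ≅ Red.bc v Cl), L.c ≫ e.hom = (Over.pullback v).map cl := by
    intro s
    obtain ⟨A, v, hv, hs, D, m, ⟨L⟩⟩ := hloc₀ s
    obtain ⟨e, he⟩ := hiso v _ L.c (prop_c L @Smooth (smooth_fold m)) (prop_c L @Surjective (surjective_fold m))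
      L.isQuotAt
    exact ⟨A, v, hv, hs, D, m, L, e, he⟩
  have hP : ∀ (P : MorphismProperty Scheme.{u}) [P.RespectsIso], (∀ {A : CommRingCat.{u}} {v : Spec A ⟶ S}
      {D : Red.SplitRed (Red.bc v G)} (m : Mod D), P (fold m.X).left) → ∀ s : S, ∃ (V : Scheme.{u}) (v : V ⟶ S),
        Etale v ∧ s ∈ Set.range v ∧ P ((Over.pullback v).map cl).left := by
    intro P _ hP s
    obtain ⟨A, v, hv, hs, D, m, L, e, he⟩ := hloc s
    refine ⟨Spec A, v, hv, hs, ?_⟩
    have h1 : IsIso e.hom.left := (Over.forget _).map_isIso e.hom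
    rw [← he, Over.comp_left]
    exact (P.cancel_right_of_respectsIso _ _).2 (prop_c L P (hP m))
  have hP' : ∀ (P : MorphismProperty Scheme.{u}) [P.RespectsIso], (∀ (A : CommRingCat.{u}) (J : Type u) [Finite J],
      P (units J (Spec A)).hom) → ∀ s : S, ∃ (V : Scheme.{u}) (v : V ⟶ S),
        Etale v ∧ s ∈ Set.range v ∧ P (Red.bc v Cl).hom := by
    intro P _ hP s
    obtain ⟨A, v, hv, hs, D, m, L, e, he⟩ := hloc s
    refine ⟨Spec A, v, hv, hs, ?_⟩
    have := D.fintypeIdx
    have h1 : IsIso e.inv.left := (Over.forget _).map_isIso e.inv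
    rw [← Over.w e.inv]
    exact (P.cancel_left_of_respectsIso _ _).2 (hP A _)
  have hsm : Smooth cl.left := prop_left @Smooth (hP @Smooth fun m => smooth_fold m)
  refine ⟨Cl, cl, ?_, ?_, hsm, ?_, ?_, inferInstance, ?_, connected_fibre hG cl hloc, ?_⟩
  · exact prop_hom @IsFinite (hP' @IsFinite fun A J _ => isFinite_units J A)
  · exact prop_hom @Etale (hP' @Etale fun A J _ => etale_units J _)
  · exact prop_left @Surjective (hP @Surjective fun m => surjective_fold m)
  · exact prop_left @QuasiCompact (hP @QuasiCompact fun m => quasiCompact_fold m)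
  · refine LQP.isLQP_left cl ?_
    obtain ⟨M', H', _, h', hM', -, -, -, -, hlqp⟩ := RCMain.exists_represents hcl hG
    obtain ⟨r⟩ := (good_RC.toClass hG).representableBy hM
    obtain ⟨r'⟩ := (good_RC.toClass hG).representableBy hM'
    exact LQP.isLQP_of_iso (r'.uniqueUpToIso r) hlqp
  · intro S' f H₁ H₂ _ _ h₁ h₂ g₁ g₂ _ _ hg₁ hg₂ hs₁ hs₂
    rw [← rel_iff hg₁ hg₂ hs₁ hs₂, ← hrel]
    constructor
    · intro H
      exact Over.OverMorphism.ext H
    · intro H
      exact congrArg CommaMorphism.left H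

end K199.RCCls
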