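import Groth.Agent.RedSub.K199.RootCmp
import Groth.Agent.RedSub.K194.Main1
import Groth.Agent.RedSub.H652.CommonTorus
import Groth.Agent.RedSub.H643.TypeRTorus
import Groth.Agent.Sga3B.BorTor988

/-!
# Closed root sets on geometric fibres (subgroups of type (RC)): independence of the splitting

* `ClosedAt h`: for every splitting of the ambient group whose torus is contained in `H` the set of roots contained in
  `H` is closed;
* `HasSplit h`: there is such a splitting; `HasSplit.geom`: it exists over algebraically closed fields for `h` of type (R);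
* `exists_cmp_conj`, `closedAt_of_split`: over an algebraically closed field closedness for one such splitting implies
  `ClosedAt h`;
* `closedAt_bc_iff`: invariance under extensions of algebraically closed fields.
-/

set_option autoImplicit false
universe u

open CategoryTheory MonoidalCategory CartesianMonoidalCategory MonObj GrpObj AlgebraicGeometry Limits

namespace K199.RC

open Groth.Agent Groth.Agent.Sga3B Groth.Agent.Sga3B.RedIso Groth.Agent.Sga3B.SplitIso848
  Groth.Agent.Sga3B.SplitBc264 Groth.Agent.Sga3B.RG.BrHc Groth.Agent.RedSub.H652.CommonTorus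

variable {S S' : Scheme.{u}} {G H G' H' : Over S}

/-- The roots of `H` with respect to every splitting of `G` whose torus is contained in `H` form a closed set. -/
def ClosedAt [GrpObj G] (h : H ⟶ G) : Prop :=
  ∀ (D' : Red.SplitRed G) (t' : D'.T ⟶ H), t' ≫ h = D'.i →
    ∀ a b c : D'.idx, (∃ v, v ≫ h = D'.u a) → (∃ v, v ≫ h = D'.u b) → D'.P.root a + D'.P.root b = D'.P.root c →
      ∃ v, v ≫ h = D'.u c

/-- there is a splitting of `G` whose torus is contained in `H` -/
def HasSplit [GrpObj G] (h : H ⟶ G) : Prop :=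
  ∃ (D : Red.SplitRed G) (t : D.T ⟶ H), t ≫ h = D.i

section

variable [GrpObj G] [GrpObj G']

theorem HasSplit.of_iso {h : H ⟶ G} {h' : H' ⟶ G'} (hs : HasSplit h)
    (e : Grp.mk G ≅ Grp.mk G') (φ : H ≅ H') (w : h ≫ (und e).hom = φ.hom ≫ h') : HasSplit h' := by
  obtain ⟨D, t, ht⟩ := hs
  refine ⟨splitOfIso e D, t ≫ φ.hom, ?_⟩
  have h1 : (t ≫ φ.hom) ≫ h' = D.i ≫ (und e).hom := by
    rw [Category.assoc, ← w, ← Category.assoc, ht]
  exact h1

theorem HasSplit.bc (f : S' ⟶ S) {h : H ⟶ G} (hs : HasSplit h) : HasSplit ((Over.pullback f).map h) := by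
  obtain ⟨D, t, ht⟩ := hs
  refine ⟨splitBc f D, (Over.pullback f).map t, ?_⟩
  have h1 : (Over.pullback f).map t ≫ (Over.pullback f).map h = (Over.pullback f).map D.i := by
    rw [← Functor.map_comp, ht]
  exact h1

theorem ClosedAt.of_iso {h : H ⟶ G} {h' : H' ⟶ G'} (hc : ClosedAt h)
    (e : Grp.mk G ≅ Grp.mk G') (φ : H ≅ H') (w : h ≫ (und e).hom = φ.hom ≫ h') : ClosedAt h' := by
  intro D t ht a b c ha hb habc
  have hi : (und e).inv = (und e.symm).hom := rfl
  have w' : h' ≫ (und e).inv = φ.inv ≫ h := by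
    rw [Iso.comp_inv_eq, Category.assoc, w, Iso.inv_hom_id_assoc]
  have key : ∀ d : D.idx, (∃ v, v ≫ h' = D.u d) ↔ ∃ v, v ≫ h = (splitOfIso e.symm D).u d := by
    intro d
    have h0 : (splitOfIso e.symm D).u d = D.u d ≫ (und e).inv := rfl
    rw [h0]
    constructor
    · rintro ⟨v, hv⟩
      exact ⟨v ≫ φ.inv, by rw [← hv, Category.assoc, Category.assoc, w']⟩
    · rintro ⟨v, hv⟩
      refine ⟨v ≫ φ.hom, ?_⟩
      rw [Category.assoc, ← w, ← Category.assoc, hv, Category.assoc, Iso.inv_hom_id, Category.comp_id]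
  rw [key] at ha hb ⊢
  refine hc (splitOfIso e.symm D) (t ≫ φ.inv) ?_ a b c ha hb habc
  have h1 : (t ≫ φ.inv) ≫ h = D.i ≫ (und e).inv := by
    rw [Category.assoc, ← w', ← Category.assoc, ht]
  exact h1

end

section geom

variable {K : Type u} [Field K] [IsAlgClosed K] {G H : Over (Spec (CommRingCat.of K))} [GrpObj G] [GrpObj H]

theorem HasSplit.geom (hG : Red.IsReductive G) (h : H ⟶ G) (hH : RedSub.IsTypeR h) : HasSplit h := by
  obtain ⟨S', f, hf, ⟨s', hs'⟩, hD⟩ := Groth.Agent.RedSub.H643.TypeRTorus.exists_splitRed_into hG h hH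
    (IsLocalRing.closedPoint K)
  have h0 : HasSplit ((Over.pullback f).map h) := hD
  obtain ⟨σ, hσ, -⟩ := Scheme.exists_fac_of_etale_of_isSepClosed f (𝟙 (Spec (CommRingCat.of K))) s'
    (by rw [hs']; exact Subsingleton.elim _ _)
  have h1 : HasSplit ((Over.pullback (σ ≫ f)).map h) :=
    (h0.bc σ).of_iso (BcIso.bcCompIso σ f G).symm (und (BcIso.bcCompIso σ f H).symm)
      (BcNat.comp_nat_inv σ f h).symm
  rw [hσ] at h1
  exact h1.of_iso (BcIso.bcIdIso G) (und (BcIso.bcIdIso H)) (BcNat.id_nat h).symm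

/-- **Comparison of two splittings whose tori are contained in `H`.** -/
theorem exists_cmp_conj (h : H ⟶ G) (hH : RedSub.IsTypeR h) (D D' : Red.SplitRed G) (t : D.T ⟶ H) (ht : t ≫ h = D.i)
    (t' : D'.T ⟶ H) (ht' : t' ≫ h = D'.i) :
    ∃ θ : D'.M ≃+ D.M, ∀ a' : D'.idx, ∃ a : D.idx, D.P.root a = θ (D'.P.root a') ∧
      ((∃ v : Red.Ga _ ⟶ H, v ≫ h = D'.u a') ↔ ∃ v : Red.Ga _ ⟶ H, v ≫ h = D.u a) := by
  obtain ⟨⟨hm, himm⟩, hsm, -, hconn, -⟩ := hH
  have hGo := AlgBc.isReductive_iff.1 D.reductive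
  have hmono : Mono h := Over.mono_of_mono_left h
  have hcl0 : IsClosedImmersion h.left := Groth.Agent.S0351.result K H G h
  have hGaff : IsAffine G.left := hGo.1
  have hHaff : IsAffine H.left := isAffine_of_isAffineHom h.left
  have hc : ConnectedSpace H.left := K194.Solv.connectedSpace_of_fibres hconn
  have h01 : IsMonHom (t ≫ h) := by rw [ht]; exact D.maximalTorus.1
  have h02 : IsMonHom (t' ≫ h) := by rw [ht']; exact D'.maximalTorus.1
  have htm : IsMonHom t := MaxTorusCrit.isMonHom_of_comp_mono t h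
  have htm' : IsMonHom t' := MaxTorusCrit.isMonHom_of_comp_mono t' h
  have hT := BorTor988.isMaximalTorus_of_comp h t (by rw [ht]; exact D.maximalTorus)
  have hT' := BorTor988.isMaximalTorus_of_comp h t' (by rw [ht']; exact D'.maximalTorus)
  obtain ⟨c, f, hf, hfc⟩ := RG.BrHc2.exists_conj_iso H t' t hT' hT
  let e : Grp.mk G ≅ Grp.mk G := Grp.mkIso' (conjIso (c ≫ h)⁻¹)
  have he : ∀ {X : Over (Spec (CommRingCat.of K))} (x : X ⟶ G), x ≫ (und e).hom = conjHom (c ≫ h)⁻¹ x := fun x => by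
    change x ≫ conjHom (c ≫ h)⁻¹ (𝟙 G) = _
    rw [comp_conjHom', Category.comp_id]
  let D₁ : Red.SplitRed G := splitOfIso e D
  have key : f.hom ≫ D₁.i = D'.i := by
    change f.hom ≫ D.i ≫ (und e).hom = D'.i
    rw [he, ← ht, comp_conjHom', ← Category.assoc, hfc, ← ht']
    have h1 : conjHom c t' ≫ h = conjHom (c ≫ h) (t' ≫ h) := by
      rw [conjHom, conjHom, MonObj.mul_comp, MonObj.mul_comp, GrpObj.inv_comp]
      simp only [Category.assoc]
    rw [h1, conjHom_inv_conjHom]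
  let f' : D'.T ≅ D₁.T := f
  have hf' : IsMonHom f'.hom := hf
  obtain ⟨θ, hθ⟩ := RootCmp.exists_cmp D₁ D' f' key
  refine ⟨θ, fun a' => ?_⟩
  obtain ⟨a, ha, ha'⟩ := hθ a'
  refine ⟨a, ha, (ha' h).trans ?_⟩
  have h0 : D₁.u a = conjHom (c ≫ h)⁻¹ (D.u a) := he _
  rw [h0]
  have h2 : ∀ (c : 𝟙_ (Over (Spec (CommRingCat.of K))) ⟶ H) (v : Red.Ga _ ⟶ H), conjHom c v ≫ h = conjHom (c ≫ h) (v ≫ h) :=
    fun c v => by
      rw [conjHom, conjHom, MonObj.mul_comp, MonObj.mul_comp, GrpObj.inv_comp]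
      simp only [Category.assoc]
  constructor
  · rintro ⟨v, hv⟩
    refine ⟨conjHom c v, ?_⟩
    rw [h2, hv, conjHom_conjHom_inv]
  · rintro ⟨v, hv⟩
    refine ⟨conjHom c⁻¹ v, ?_⟩
    rw [h2, hv, GrpObj.inv_comp]

/-- **Closedness of the set of roots can be tested on one splitting.** -/
theorem closedAt_of_split (h : H ⟶ G) (hH : RedSub.IsTypeR h) (D : Red.SplitRed G) (t : D.T ⟶ H) (ht : t ≫ h = D.i)
    (hcl : ∀ a b c : D.idx, (∃ v, v ≫ h = D.u a) → (∃ v, v ≫ h = D.u b) → D.P.root a + D.P.root b = D.P.root c →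
      ∃ v, v ≫ h = D.u c) : ClosedAt h := by
  intro D' t' ht' a' b' c' ha hb habc
  obtain ⟨θ, hθ⟩ := exists_cmp_conj h hH D D' t ht t' ht'
  obtain ⟨a, ha1, ha2⟩ := hθ a'
  obtain ⟨b, hb1, hb2⟩ := hθ b'
  obtain ⟨c, hc1, hc2⟩ := hθ c'
  rw [hc2]
  refine hcl a b c (ha2.1 ha) (hb2.1 hb) ?_
  rw [ha1, hb1, hc1, ← map_add, habc]

end geom

end K199.RC
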