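import Groth.Agent.RedSub.K199.RtsConj
import Groth.Agent.RedSub.K195.WeylConn
import Groth.Agent.RedSub.H645.EtConj

/-!
# Local conjugacy of subgroups of type (RC) of a split group to the models, and non-conjugacy

* `exists_elConj_model`: a subgroup of type (RC) is étale locally conjugate to a model with closed set of roots `R'`;
* `Wrel P R₁ R₂`: `R₂` is the image of `R₁` under an element of the Weyl group; `conj_of_wrel`, `wrel_of_conjEq`.
-/

set_option autoImplicit false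
universe u

open CategoryTheory MonoidalCategory CartesianMonoidalCategory MonObj GrpObj AlgebraicGeometry Limits

namespace K199.RCLoc

open Groth.Agent Groth.Agent.Sga3B Groth.Agent.Sga3B.RedIso Groth.Agent.Sga3B.SplitIso848
  Groth.Agent.Sga3B.SplitBc264 Groth.Agent.Sga3B.RG.BrHc Groth.Agent.RedSub.H652.CommonTorus
  Groth.Agent.Sga3B.Parab.ConjPt Groth.Agent.RedSub.H645.EtConj
open Groth.Agent.RedSub.H635.Uniq Groth.Agent.RedSub.H643.TypeRTorus K199.RtsM K199.RtsConj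

section words

variable {idx M N : Type*} [AddCommGroup M] [AddCommGroup N] (P : RootPairing idx ℤ M N)

/-- the Weyl group element of a word -/
def wl (l : List idx) : M ≃+ M := ((l.map fun a => P.reflection a).prod : M ≃ₗ[ℤ] M).toAddEquiv

lemma wl_nil (m : M) : wl P [] m = m := rfl

lemma wl_cons (a : idx) (l : List idx) (m : M) : wl P (a :: l) m = P.reflection a (wl P l m) := by
  change ((a :: l).map fun a => P.reflection a).prod m = _
  rw [List.map_cons, List.prod_cons]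
  rfl

lemma wl_append (l l' : List idx) (m : M) : wl P (l ++ l') m = wl P l (wl P l' m) := by
  change ((l ++ l').map fun a => P.reflection a).prod m = _
  rw [List.map_append, List.prod_append]
  rfl

lemma wl_root (l : List idx) (b : idx) : ∃ a : idx, P.root a = wl P l (P.root b) := by
  induction l with
  | nil => exact ⟨b, rfl⟩
  | cons c l ih =>
    obtain ⟨a, ha⟩ := ih
    exact ⟨P.reflectionPerm c a, by rw [wl_cons, ← ha, P.root_reflectionPerm]⟩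

lemma wl_reverse (l : List idx) (m : M) : wl P l (wl P l.reverse m) = m := by
  induction l generalizing m with
  | nil => rfl
  | cons a l ih =>
    rw [List.reverse_cons, wl_append, wl_cons, ih]
    change P.reflection a (P.reflection a m) = m
    exact P.reflection_same a m

lemma wl_reverse' (l : List idx) (m : M) : wl P l.reverse (wl P l m) = m := by
  have h := wl_reverse P l.reverse m
  rwa [List.reverse_reverse] at h

/-- the image of a set of roots under the inverse of a Weyl group element -/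
def mv (l : List idx) (R : Set idx) : Set idx := {b | ∃ a ∈ R, P.root a = wl P l (P.root b)}

/-- two sets of roots are conjugate under the Weyl group -/
def Wrel (R₁ R₂ : Set idx) : Prop := ∃ l : List idx, R₂ = mv P l R₁

lemma mv_nil (R : Set idx) : mv P [] R = R := by
  ext b
  constructor
  · rintro ⟨a, ha, hab⟩
    have : a = b := P.root.injective hab
    rwa [← this]
  · intro hb
    exact ⟨b, hb, rfl⟩

lemma mv_mv (l l' : List idx) (R : Set idx) : mv P l' (mv P l R) = mv P (l ++ l') R := by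
  ext b
  constructor
  · rintro ⟨a, ⟨c, hc, hca⟩, hab⟩
    exact ⟨c, hc, by rw [hca, hab, wl_append]⟩
  · rintro ⟨c, hc, hcb⟩
    obtain ⟨a, ha⟩ := wl_root P l' b
    exact ⟨a, ⟨c, hc, by rw [hcb, wl_append, ha]⟩, ha⟩

lemma mv_reverse (l : List idx) (R : Set idx) : mv P l.reverse (mv P l R) = R := by
  rw [mv_mv]
  ext b
  constructor
  · rintro ⟨a, ha, hab⟩
    rw [wl_append, wl_reverse] at hab
    rwa [← P.root.injective hab]
  · intro hb
    exact ⟨b, hb, by rw [wl_append, wl_reverse]⟩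

/-- the equivalence relation -/
def wSetoid : Setoid (Set idx) where
  r := Wrel P
  iseqv := ⟨fun R => ⟨[], (mv_nil P R).symm⟩, fun {R₁ R₂} ⟨l, hl⟩ => ⟨l.reverse, by rw [hl, mv_reverse]⟩,
    fun {R₁ R₂ R₃} ⟨l, hl⟩ ⟨l', hl'⟩ => ⟨l ++ l', by rw [hl', hl, mv_mv]⟩⟩

/-- closed sets of roots -/
def Closed (R : Set idx) : Prop := ∀ a b c : idx, a ∈ R → b ∈ R → P.root a + P.root b = P.root c → c ∈ R

lemma Closed.mv {R : Set idx} (h : Closed P R) (l : List idx) : Closed P (mv P l R) := by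
  rintro a b c ⟨a', ha', ha⟩ ⟨b', hb', hb⟩ habc
  obtain ⟨c', hc'⟩ := wl_root P l c
  refine ⟨c', h a' b' c' ha' hb' ?_, hc'⟩
  rw [ha, hb, hc', ← map_add, habc]

end words

variable {S S' : Scheme.{u}} {G H H₀ H₁ H₂ : Over S} [GrpObj G] [GrpObj H] [GrpObj H₀] [GrpObj H₁] [GrpObj H₂]

/-- **A subgroup of type (RC) of a split group is étale locally conjugate to a model.** -/
theorem exists_elConj_model (D : Red.SplitRed G) (h : H ⟶ G) (hH : RedSub.IsTypeR h) (hRC : RC.IsRC h) (s : S) :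
    ∃ R' : Set D.idx, Closed D.P R' ∧ ∀ {H₀ : Over S} [GrpObj H₀] (h₀ : H₀ ⟶ G) (t₀ : D.T ⟶ H₀),
      RedSub.IsTypeR h₀ → t₀ ≫ h₀ = D.i → Rts D h₀ R' → ELConj h₀ h s := by
  have hG := D.reductive
  obtain ⟨c, hc⟩ := exists_geom hG h hH D.i D.maximalTorus s
  have hGa := hG.1
  have hGs := hG.2.1
  have hHs := hH.2.1
  have hHm := hH.1.1
  have hHi := hH.1.2
  have m1 : Mono h := Over.mono_of_mono_left h
  have k4 : IsMonHom D.i := D.maximalTorus.1
  obtain ⟨U₂, f₂, hf₂, ⟨s₂, hs₂⟩, g, hg⟩ := exists_etale_of_point D.maximalTorus.2.2.1 D.i h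
    (Red.geomPt s) c hc s (by rw [IsoFam.range_geomPt]; rfl)
  obtain ⟨t, ht⟩ := exists_conj_into (splitBc f₂ D) ((Over.pullback f₂).map h) g hg
  let D₂ : Red.SplitRed (Red.bc f₂ G) := splitOfIso (inn g) (splitBc f₂ D)
  have hH₂ : RedSub.IsTypeR ((Over.pullback f₂).map h) := RedSub.H648.TypeR.isTypeR_bc f₂ hG hH
  have hRC₂ : RC.IsRC ((Over.pullback f₂).map h) := hRC.bc f₂ hG hH
  obtain ⟨U, hsU, hU⟩ := exists_open D₂ ((Over.pullback f₂).map h) hH₂ t ht s₂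
  have hne : Nonempty (U : Scheme.{u}) := ⟨⟨s₂, hsU⟩⟩
  have hHU : RedSub.IsTypeR ((Over.pullback U.ι).map ((Over.pullback f₂).map h)) :=
    RedSub.H648.TypeR.isTypeR_bc U.ι D₂.reductive hH₂
  refine ⟨{a | s₂ ∈ E D₂ ((Over.pullback f₂).map h) a}, ?_, ?_⟩
  · intro a b c ha hb habc
    exact hU.closed hHU _ (K194.Main1.bc_torus D₂ _ t ht U.ι) (hRC₂.bc U.ι D₂.reductive hH₂) a b c ha hb habc
  · intro H₀ _ h₀ t₀ hH₀ ht₀ hR₀
    let k : Red.bc f₂ H₀ ⟶ Red.bc f₂ G := (Over.pullback f₂).map h₀ ≫ (und (inn g)).hom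
    have hk1 : RedSub.IsTypeR ((Over.pullback f₂).map h₀) := RedSub.H648.TypeR.isTypeR_bc f₂ hG hH₀
    have hk : RedSub.IsTypeR k := RedSub.H648.TypeR.isTypeR_of_arrow (Iso.refl _) (inn g)
      (show (Over.pullback f₂).map h₀ ≫ (und (inn g)).hom = 𝟙 _ ≫ k from (Category.id_comp _).symm) hk1
    have hRk : Rts D₂ k {a | s₂ ∈ E D₂ ((Over.pullback f₂).map h) a} :=
      Rts.of_iso (D := splitBc f₂ D) (h' := k) (hR₀.bc f₂) (inn g) (Iso.refl _)
        (show (Over.pullback f₂).map h₀ ≫ (und (inn g)).hom = 𝟙 _ ≫ k from (Category.id_comp _).symm)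
    have htk : ∃ tk : D₂.T ⟶ Red.bc f₂ H₀, tk ≫ k = D₂.i := by
      refine ⟨(Over.pullback f₂).map t₀, ?_⟩
      have e1 := K194.Main1.bc_torus D h₀ t₀ ht₀ f₂
      have e2 : D₂.i = (splitBc f₂ D).i ≫ (und (inn g)).hom := rfl
      rw [e2, ← e1]
      exact (Category.assoc _ _ _).symm
    obtain ⟨tk, htk⟩ := htk
    obtain ⟨e, he⟩ := (hRk.bc U.ι).exists_iso hU (RedSub.H648.TypeR.isTypeR_bc U.ι D₂.reductive hk) hHU
      _ (K194.Main1.bc_torus D₂ k tk htk U.ι) _ (K194.Main1.bc_torus D₂ _ t ht U.ι)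
    have l1 : K195.Le.LeAt k ((Over.pullback f₂).map h) U.ι :=
      (K195.Le.leAt_iff_bc _ _ _).2 ⟨e.hom, he⟩
    have l2 : K195.Le.LeAt ((Over.pullback f₂).map h) k U.ι :=
      (K195.Le.leAt_iff_bc _ _ _).2 ⟨e.inv, by rw [← he, Iso.inv_hom_id_assoc]⟩
    rw [← hs₂]
    refine (SmConj.of_bc f₂ (s' := s₂) (?_ : SmConj ((Over.pullback f₂).map h₀) ((Over.pullback f₂).map h) s₂)).elConj
    refine ⟨U, U.ι, inferInstance, ⟨⟨s₂, hsU⟩, rfl⟩, toUnit _ ≫ g, ?_⟩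
    intro X x y
    have h1 : (x ≫ toUnit (Over.mk U.ι) ≫ g) * y * (x ≫ toUnit (Over.mk U.ι) ≫ g)⁻¹ = y ≫ (und (inn g)).hom := by
      rw [comp_inn, ← Category.assoc, toUnit_unique (x ≫ toUnit _) (toUnit X)]
    rw [h1]
    constructor
    · rintro ⟨v, hv⟩
      obtain ⟨z, hz⟩ := (K195.Le.leAt_iff_pts _ _ _).1 l1 X x.left (Over.w x) v
      refine ⟨z, ?_⟩
      rw [hz, ← hv]
      exact (Category.assoc _ _ _).symm
    · rintro ⟨v, hv⟩
      obtain ⟨z, hz⟩ := (K195.Le.leAt_iff_pts _ _ _).1 l2 X x.left (Over.w x) v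
      refine ⟨z, ?_⟩
      rw [← cancel_mono (und (inn g)).hom, ← hv, ← hz]
      exact Category.assoc _ _ _

/-- **Models with conjugate sets of roots are conjugate.** -/
theorem conj_of_wrel (D : Red.SplitRed G) {h₁ : H₁ ⟶ G} {h₂ : H₂ ⟶ G} {R₁ R₂ : Set D.idx} (hW : Wrel D.P R₁ R₂)
    (hR₁ : Rts D h₁ R₁) (hR₂ : Rts D h₂ R₂) (hH₁ : RedSub.IsTypeR h₁) (hH₂ : RedSub.IsTypeR h₂)
    (t₁ : D.T ⟶ H₁) (ht₁ : t₁ ≫ h₁ = D.i) (t₂ : D.T ⟶ H₂) (ht₂ : t₂ ≫ h₂ = D.i) :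
    ∃ n : 𝟙_ (Over S) ⟶ G, Conj h₁ h₂ n := by
  obtain ⟨l, rfl⟩ := hW
  obtain ⟨n, hn⟩ := exists_acts D l
  exact ⟨n, conj_of_acts (wl D.P l) hn (wl_root D.P l) hR₁ hR₂ hH₁ hH₂ t₁ ht₁ t₂ ht₂⟩

section field

variable {K : Type u} [Field K] [IsAlgClosed K] {G H₁ H₂ : Over (Spec (CommRingCat.of K))} [GrpObj G] [GrpObj H₁]
  [GrpObj H₂]

/-- **Conjugate subgroups have conjugate sets of roots** (algebraically closed fields). -/
theorem wrel_of_conj (D : Red.SplitRed G) {h₁ : H₁ ⟶ G} {h₂ : H₂ ⟶ G} {R₁ R₂ : Set D.idx}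
    (hR₁ : Rts D h₁ R₁) (hR₂ : Rts D h₂ R₂) (hH₁ : RedSub.IsTypeR h₁) (hH₂ : RedSub.IsTypeR h₂)
    (t₁ : D.T ⟶ H₁) (ht₁ : t₁ ≫ h₁ = D.i) (t₂ : D.T ⟶ H₂) (ht₂ : t₂ ≫ h₂ = D.i)
    (c : 𝟙_ (Over (Spec (CommRingCat.of K))) ⟶ G) (hc : Conj h₁ h₂ c) : Wrel D.P R₁ R₂ := by
  obtain ⟨⟨hm, himm⟩, hsm, -, hconn, -⟩ := id hH₂
  have hGo := AlgBc.isReductive_iff.1 D.reductive
  have hmono : Mono h₂ := Over.mono_of_mono_left h₂
  have hcl0 : IsClosedImmersion h₂.left := Groth.Agent.S0351.result K H₂ G h₂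
  have hGaff : IsAffine G.left := hGo.1
  have hHaff : IsAffine H₂.left := isAffine_of_isAffineHom h₂.left
  have hcn : ConnectedSpace H₂.left := K194.Solv.connectedSpace_of_fibres hconn
  have him : IsMonHom D.i := D.maximalTorus.1
  -- `c T c⁻¹` is contained in `H₂`
  have hcT : ∀ (X : Over (Spec (CommRingCat.of K))) (x : X ⟶ D.T), ∃ y : X ⟶ H₂, y ≫ h₂ = conjHom c (x ≫ D.i) := by
    intro X x
    obtain ⟨v, hv⟩ := (hc X (toUnit X) (x ≫ D.i)).1 ⟨x ≫ t₁, by rw [Category.assoc, ht₁]⟩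
    exact ⟨v, hv⟩
  obtain ⟨t₃, ht₃⟩ := hcT D.T (𝟙 _)
  rw [Category.id_comp] at ht₃
  have h01 : IsMonHom (t₂ ≫ h₂) := by rw [ht₂]; infer_instance
  have h02 : IsMonHom (t₃ ≫ h₂) := by rw [ht₃]; infer_instance
  have htm : IsMonHom t₂ := MaxTorusCrit.isMonHom_of_comp_mono t₂ h₂
  have htm' : IsMonHom t₃ := MaxTorusCrit.isMonHom_of_comp_mono t₃ h₂
  have hT := BorTor988.isMaximalTorus_of_comp h₂ t₂ (by rw [ht₂]; exact D.maximalTorus)
  have hT' := BorTor988.isMaximalTorus_of_comp h₂ t₃ (by rw [ht₃]; exact isMaximalTorus_conjHom c D.maximalTorus)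
  obtain ⟨g, f, hf, hfc⟩ := RG.BrHc2.exists_conj_iso H₂ t₃ t₂ hT' hT
  -- `n = g c` normalises the torus and conjugates `H₁` to `H₂`
  let n : 𝟙_ (Over (Spec (CommRingCat.of K))) ⟶ G := (g ≫ h₂) * c
  have hni : conjHom n D.i = f.hom ≫ D.i := by
    have h1 : conjHom g t₃ ≫ h₂ = conjHom (g ≫ h₂) (t₃ ≫ h₂) := by
      rw [conjHom, conjHom, MonObj.mul_comp, MonObj.mul_comp, GrpObj.inv_comp]
      simp only [Category.assoc]
    rw [← ht₂, ← Category.assoc, hfc, h1, ht₃, ht₂, conjHom, conjHom, conjHom, MonObj.comp_mul]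
    group
  have hnn : Groth.Agent.RedSub.H647.WeylLoc.Normalises D n := by
    intro X x t
    refine ⟨t ≫ D.split.inv.hom.hom ≫ f.hom ≫ D.split.hom.hom.hom, ?_⟩
    have h1 : (x ≫ n) * IsomCore.dT D t * (x ≫ n)⁻¹ = conjHom n (IsomCore.dT D t) := by
      rw [conjHom, toUnit_unique x (toUnit X)]
    rw [h1, IsomCore.dT, IsomCore.dT, ← comp_conjHom', ← comp_conjHom', hni]
    simp only [Category.assoc]
    rw [reassoc_of% (sp1 D)]
  have hconnK : ConnectedSpace (𝟙_ (Over (Spec (CommRingCat.of K)))).left :=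
    inferInstanceAs (ConnectedSpace (PrimeSpectrum K))
  obtain ⟨w, hw, hact⟩ := K195.WeylConn.exists_acts_of_connected hnn
  obtain ⟨l, hl⟩ := K195.WeylConn.exists_word D.P hw
  have hacts : Acts D n (wl D.P l).toAddMonoidHom := by
    intro X t
    have h1 := hact X (toUnit X) (t ≫ D.split.hom.hom.hom)
    rw [Groth.Agent.Sga3B.IsomCore.dT_hom, hl] at h1
    rw [h1, Groth.Agent.Sga3B.IsomCore.dT]
    simp only [Category.assoc]
    rfl
  refine ⟨l, ?_⟩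
  -- compare the roots of `n H₁ n⁻¹ = H₂`
  have hconj : Conj h₁ h₂ n := by
    intro X x y
    have e : x ≫ n = (x ≫ g ≫ h₂) * (x ≫ c) := MonObj.comp_mul _ _ _
    rw [hc X x y, e]
    constructor
    · rintro ⟨v, hv⟩
      refine ⟨(x ≫ g) * v * (x ≫ g)⁻¹, ?_⟩
      rw [MonObj.mul_comp, MonObj.mul_comp, GrpObj.inv_comp, hv, Category.assoc]
      group
    · rintro ⟨v, hv⟩
      refine ⟨(x ≫ g)⁻¹ * v * (x ≫ g), ?_⟩
      rw [MonObj.mul_comp, MonObj.mul_comp, GrpObj.inv_comp, hv, Category.assoc]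
      group
  have hRn := rts_conj (wl D.P l) hacts (wl_root D.P l) hR₁
  have hmono1 : Mono h₁ := by
    have := hH₁.1.2
    exact Over.mono_of_mono_left h₁
  -- an isomorphism over `G`
  have hiff : ∀ (X : Over (Spec (CommRingCat.of K))) (y : X ⟶ G), (∃ v : X ⟶ H₁, v ≫ conjHom n h₁ = y) ↔
      ∃ v : X ⟶ H₂, v ≫ h₂ = y := by
    intro X y
    have h1 := hconj X (toUnit X) (conjHom n⁻¹ y)
    have h2 : (toUnit X ≫ n) * conjHom n⁻¹ y * (toUnit X ≫ n)⁻¹ = y := conjHom_conjHom_inv n y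
    rw [h2] at h1
    refine Iff.trans ?_ h1
    constructor
    · rintro ⟨v, rfl⟩
      exact ⟨v, by rw [comp_conjHom', conjHom_inv_conjHom]⟩
    · rintro ⟨v, hv⟩
      exact ⟨v, by rw [comp_conjHom', hv, conjHom_conjHom_inv]⟩
  let s : Spec (CommRingCat.of K) := (⊥ : PrimeSpectrum K)
  have hE : ∀ a, s ∈ E D (conjHom n h₁) a ↔ s ∈ E D h₂ a := by
    intro a
    constructor
    · rintro ⟨L, _, x, hx, hT⟩
      exact ⟨L, inferInstance, x, hx, (hiff _ _).1 hT⟩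
    · rintro ⟨L, _, x, hx, hT⟩
      exact ⟨L, inferInstance, x, hx, (hiff _ _).2 hT⟩
  ext a
  rw [← hR₂ s a, ← hE a, hRn s a]
  exact Iff.rfl

end field

/-- **Nowhere conjugate.** -/
theorem wrel_of_conjEq (D : Red.SplitRed G) {h₁ : H₁ ⟶ G} {h₂ : H₂ ⟶ G} {R₁ R₂ : Set D.idx}
    (hR₁ : Rts D h₁ R₁) (hR₂ : Rts D h₂ R₂) (hH₁ : RedSub.IsTypeR h₁) (hH₂ : RedSub.IsTypeR h₂)
    (t₁ : D.T ⟶ H₁) (ht₁ : t₁ ≫ h₁ = D.i) (t₂ : D.T ⟶ H₂) (ht₂ : t₂ ≫ h₂ = D.i) {T : Over S} (hT : Nonempty T.left)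
    (c : T ⟶ G) (hc : RedSub.ConjEq h₁ h₂ c) : Wrel D.P R₁ R₂ := by
  obtain ⟨t⟩ := hT
  let K : Type u := AlgebraicClosure (T.left.residueField t)
  let x : Spec (CommRingCat.of K) ⟶ S := Red.geomPt t ≫ T.hom
  let y : (Over.map x).obj (𝟙_ (Over (Spec (CommRingCat.of K)))) ⟶ T := Over.homMk (Red.geomPt t) (by
    change Red.geomPt t ≫ T.hom = 𝟙 _ ≫ x
    rw [Category.id_comp])
  have hc' : RedSub.ConjEq h₁ h₂ (y ≫ c) := by
    intro X z
    have := hc X (z ≫ y)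
    rw [Category.assoc] at this
    exact this
  let g : 𝟙_ (Over (Spec (CommRingCat.of K))) ⟶ Red.bc x G := DSPts.bcEquiv x _ G (y ≫ c)
  have h3 : RedSub.ConjEq ((Over.pullback x).map h₁) ((Over.pullback x).map h₂) g := by
    rw [RedSub.H645.ConjEqIff.conjEq_bc_iff, MulEquiv.symm_apply_apply]
    exact hc'
  exact wrel_of_conj (splitBc x D) (hR₁.bc x) (hR₂.bc x) (RedSub.H648.TypeR.isTypeR_bc x D.reductive hH₁)
    (RedSub.H648.TypeR.isTypeR_bc x D.reductive hH₂) _ (K194.Main1.bc_torus D h₁ t₁ ht₁ x) _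
    (K194.Main1.bc_torus D h₂ t₂ ht₂ x) g ((RedSub.H645.ConjEqIff.conjEq_iff g).1 h3)

end K199.RCLoc
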