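import Groth.Agent.RedSub.H660.FinCop
import Groth.Agent.RedSub.K199.GeoPt

/-!
# Morphisms of disjoint unions over `V`

`sigMap φ : sig X ⟶ sig Y` for `φ j : X j ⟶ Y j`; `units J V` is the disjoint union of copies of `V`.
-/

set_option autoImplicit false
universe u

open CategoryTheory CategoryTheory.Limits AlgebraicGeometry Opposite MonoidalCategory CartesianMonoidalCategory

namespace K199.SigMap

open Groth.Agent Groth.Agent.RedSub.H660.ConjRep K199.GeoPt

variable {V : Scheme.{u}} {J : Type u} {X Y : J → Over V} (φ : ∀ j, X j ⟶ Y j)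

/-- the disjoint union of the `φ j` -/
noncomputable def sigMap : sig X ⟶ sig Y :=
  Over.homMk (Limits.Sigma.map fun j => (φ j).left) (by
    refine Sigma.hom_ext _ _ fun j => ?_
    simp [sig])

lemma sigι_sigMap (j : J) : sigι X j ≫ sigMap φ = φ j ≫ sigι Y j := by
  apply Over.OverMorphism.ext
  change Sigma.ι (fun j => (X j).left) j ≫ Limits.Sigma.map (fun j => (φ j).left) =
    (φ j).left ≫ Sigma.ι (fun j => (Y j).left) j
  exact ι_colimMap _ _

lemma smooth_sigMap (h : ∀ j, Smooth (φ j).left) : Smooth (sigMap φ).left := by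
  refine (IsZariskiLocalAtSource.iff_of_openCover (P := @Smooth) (sigmaOpenCover fun j => (X j).left)).2 fun j => ?_
  have h1 := h j
  change Smooth ((sigι X j).left ≫ (sigMap φ).left)
  rw [← Over.comp_left, sigι_sigMap, Over.comp_left]
  infer_instance

lemma surjective_sigMap (h : ∀ j, Surjective (φ j).left) : Surjective (sigMap φ).left := by
  refine ⟨fun y => ?_⟩
  obtain ⟨j, y', rfl⟩ := exists_sigι Y y
  have := h j
  obtain ⟨x, rfl⟩ := (φ j).left.surjective y'
  refine ⟨(sigι X j).left x, ?_⟩
  rw [← Scheme.Hom.comp_apply, ← Over.comp_left, sigι_sigMap, Over.comp_left, Scheme.Hom.comp_apply]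

lemma quasiCompact_sigMap [Finite J] (h : ∀ j, QuasiCompact (φ j).left) : QuasiCompact (sigMap φ).left :=
  Ega2.SigmaMap.sigmaMap_of_isZariskiLocalAtTarget (@QuasiCompact) _ h

/-- a geometric point of the disjoint union lies in one of the members -/
lemma exists_fac {T : Over V} (hT : IsGeo T.left) (b : T ⟶ sig X) : ∃ (j : J) (b' : T ⟶ X j), b' ≫ sigι X j = b := by
  obtain ⟨t⟩ := hT.nonempty
  have := hT.subsingleton
  obtain ⟨j, x, hx⟩ := exists_sigι X (b.left t)
  have hr : Set.range b.left ⊆ Set.range (sigι X j).left := by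
    rintro _ ⟨t', rfl⟩
    rw [Subsingleton.elim t' t]
    exact ⟨x, hx⟩
  have h1 : IsOpenImmersion.lift (sigι X j).left b.left hr ≫ (sigι X j).left = b.left := IsOpenImmersion.lift_fac _ _ _
  exact ⟨j, Over.homMk (IsOpenImmersion.lift (sigι X j).left b.left hr) (by
    rw [← Over.w (sigι X j), ← Category.assoc, h1, Over.w b]), Over.OverMorphism.ext h1⟩

/-- the disjoint union of copies of `V` -/
noncomputable def units (J : Type u) (V : Scheme.{u}) : Over V := sig fun _ : J => 𝟙_ (Over V)

/-- the inclusions -/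
noncomputable def unitι (J : Type u) (V : Scheme.{u}) (j : J) : 𝟙_ (Over V) ⟶ units J V := sigι (fun _ : J => 𝟙_ (Over V)) j

/-- morphisms to a disjoint union of copies of the base are determined by the indices -/
lemma unit_ext {T : Over V} (a b : T ⟶ units J V) (h : ∀ t : T.left, ∃ j : J,
    a.left t ∈ Set.range (unitι J V j).left ∧ b.left t ∈ Set.range (unitι J V j).left) : a = b := by
  apply Over.OverMorphism.ext
  refine Scheme.hom_ext_of_forall _ _ fun t => ?_
  obtain ⟨j, ha, hb⟩ := h t
  have ho : IsOpenImmersion (unitι J V j).left := inferInstanceAs (IsOpenImmersion (sigι _ j).left)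
  let O : T.left.Opens := a.left ⁻¹ᵁ (unitι J V j).left.opensRange ⊓ b.left ⁻¹ᵁ (unitι J V j).left.opensRange
  have key : ∀ (c : T ⟶ units J V) (hc : Set.range (O.ι ≫ c.left) ⊆ Set.range (unitι J V j).left),
      O.ι ≫ c.left = O.ι ≫ T.hom ≫ (unitι J V j).left := by
    intro c hc
    have h1 : IsOpenImmersion.lift (unitι J V j).left (O.ι ≫ c.left) hc ≫ (unitι J V j).left = O.ι ≫ c.left :=
      IsOpenImmersion.lift_fac _ _ _
    have h2 : IsOpenImmersion.lift (unitι J V j).left (O.ι ≫ c.left) hc = O.ι ≫ T.hom := by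
      have h3 : (unitι J V j).left ≫ (units J V).hom = 𝟙 V := Over.w (unitι J V j)
      have h4 := congrArg (· ≫ (units J V).hom) h1
      simp only [Category.assoc] at h4
      rw [h3, Over.w c] at h4
      exact (Category.comp_id _).symm.trans h4
    rw [← h1, h2, Category.assoc]
  refine ⟨O, ⟨ha, hb⟩, ?_⟩
  rw [key a, key b]
  · rintro _ ⟨x, rfl⟩
    rw [Scheme.Hom.comp_apply]
    exact x.2.2
  · rintro _ ⟨x, rfl⟩
    rw [Scheme.Hom.comp_apply]
    exact x.2.1

/-- the index -/
noncomputable def fold (X : J → Over V) : sig X ⟶ units J V := sigMap fun j => toUnit (X j)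

lemma sigι_fold (X : J → Over V) (j : J) : sigι X j ≫ fold X = toUnit _ ≫ unitι J V j := sigι_sigMap _ j

lemma etale_units (J : Type u) (V : Scheme.{u}) : Etale (units J V).hom :=
  IsZariskiLocalAtSource.sigmaDesc (P := @Etale) fun _ => inferInstanceAs (Etale (𝟙 V))

lemma isFinite_units (J : Type u) [Finite J] (A : CommRingCat.{u}) : IsFinite (units J (Spec A)).hom :=
  Ega2.SigmaMap.isFinite_fold A

end K199.SigMap
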