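import Groth.Agent.RedSub.K199.UnivPts
import Groth.Agent.RedSub.K199.SigMap
import Groth.Agent.RedSub.K199.RCMain

/-!
# The local quotient of the scheme of subgroups of type (RC) by geometric conjugacy

`Loc hM v m` : the data of the isomorphism `M_V ≅ ∐ X j`.
* `exists_loc`, `Loc.isQuotAt`.
-/

set_option autoImplicit false
universe u

open CategoryTheory CategoryTheory.Limits AlgebraicGeometry Opposite MonoidalCategory CartesianMonoidalCategory
  MonObj GrpObj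

namespace K199.RCQuot

open Groth.Agent.Redsub.H649.ConjPts (fam InC taut)
open Groth.Agent Groth.Agent.Sga3B Groth.Agent.Sga3B.RepDescent
  Groth.Agent.RedSub.H647.SubPt Groth.Agent.RedSub.H647.SubF Groth.Agent.RedSub.H647.SubF.SubClass
  Groth.Agent.RedSub.H660.ConjRep Groth.Agent.RedSub.H660.Restrict Groth.Agent.RedSub.H660.Classes
  K199.RCRel K199.EtQuot K199.GeoPt K199.SigMap K199.TypeRCov K199.RCRep

variable {S : Scheme.{u}} {G : Over S} [GrpObj G] {M : Over S} {H : Over M.left} (h : H ⟶ Red.bc M.hom G)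

/-- A local description of the scheme `M` of subgroups of type (RC). -/
structure Loc {V : Scheme.{u}} (v : V ⟶ S) {D : Red.SplitRed (Red.bc v G)} (m : Mod D) where
  /-- the isomorphism -/
  e : Red.bc v M ≅ sig m.X
  /-- the universal subgroup -/
  pt : ∀ (j : JJ D.P) {T : Over V} (b : T ⟶ Red.bc v M) (g : T ⟶ Red.bc v G), b ≫ e.hom = g ≫ m.π j ≫ sigι m.X j →
    ∀ (Y : Over V) (y : Y ⟶ T) (c : Y ⟶ Red.bc v G), InC (m.q j) (y ≫ g) c ↔
      Pt h (y.left ≫ b.left ≫ pullback.fst M.hom v) (c.left ≫ pullback.fst G.hom v)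

variable {h} in
theorem exists_loc [GrpObj H] (hcl : ClosedStmt.{u}) (hG : Red.IsReductive G) (hM : (good_RC.toClass hG).Represents M h)
    {V : Scheme.{u}} (v : V ⟶ S) {D : Red.SplitRed (Red.bc v G)} (m : Mod D) : Nonempty (Loc h v m) := by
  obtain ⟨r, hr⟩ := m.exists_rep hcl hG v
  obtain ⟨e, he⟩ := UnivPts.exists_iso hM v _ r _ hr
  exact ⟨⟨e, he⟩⟩

variable {V : Scheme.{u}} {v : V ⟶ S} {D : Red.SplitRed (Red.bc v G)} {m : Mod D}

/-- geometric points of the disjoint union lift to `G` -/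
lemma exists_gj {Z : Over V} (hZ : IsGeo Z.left) (b : Z ⟶ sig m.X) : ∃ (j : JJ D.P) (g : Z ⟶ Red.bc v G),
    b = g ≫ m.π j ≫ sigι m.X j := by
  obtain ⟨j, b', rfl⟩ := exists_fac hZ b
  have h1 := (m.quot j).1
  have h2 := (m.quot j).2.2.1
  obtain ⟨g, hg⟩ := hZ.exists_lift_of_surjective (m.π j).left b'.left
  refine ⟨j, Over.homMk g (by rw [← Over.w (m.π j), ← Category.assoc, hg, Over.w b']), ?_⟩
  rw [← Category.assoc]
  congr 1
  exact Over.OverMorphism.ext hg.symm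

namespace Loc

variable {h} (L : Loc h v m)

/-- the local quotient map -/
noncomputable def c : Red.bc v M ⟶ units (JJ.{u} D.P) V := L.e.hom ≫ fold m.X

lemma comp_c {T : Over V} (b : T ⟶ Red.bc v M) (g : T ⟶ Red.bc v G) (j : JJ D.P)
    (hb : b ≫ L.e.hom = g ≫ m.π j ≫ sigι m.X j) : b ≫ L.c = toUnit T ≫ unitι (JJ.{u} D.P) V j := by
  rw [c, ← Category.assoc, hb, Category.assoc, Category.assoc, sigι_fold, ← Category.assoc, ← Category.assoc]
  congr 1
  exact toUnit_unique _ _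

/-- conjugacy over `V` -/
lemma crw {T : Over V} {b b' : T ⟶ Red.bc v M} {g g' : T ⟶ Red.bc v G} {j : JJ D.P}
    (hb : b ≫ L.e.hom = g ≫ m.π j ≫ sigι m.X j) (hb' : b' ≫ L.e.hom = g' ≫ m.π j ≫ sigι m.X j) :
    CRW h v (b.left ≫ pullback.fst M.hom v) (b'.left ≫ pullback.fst M.hom v) (g' * g⁻¹) := by
  intro Y y c
  rw [← L.pt j b g hb, ← L.pt j b' g' hb', InC, InC]
  have e : (y ≫ g)⁻¹ * ((y ≫ (g' * g⁻¹))⁻¹ * c * (y ≫ (g' * g⁻¹))) * (y ≫ g) = (y ≫ g')⁻¹ * c * (y ≫ g') := by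
    rw [MonObj.comp_mul, GrpObj.comp_inv]
    group
  rw [e]

lemma eq_of_crw {T : Over V} (hT : Nonempty T.left) {b b' : T ⟶ Red.bc v M} {g g' : T ⟶ Red.bc v G} {j j' : JJ D.P}
    (hb : b ≫ L.e.hom = g ≫ m.π j ≫ sigι m.X j) (hb' : b' ≫ L.e.hom = g' ≫ m.π j' ≫ sigι m.X j') {k : T ⟶ Red.bc v G}
    (hk : CRW h v (b.left ≫ pullback.fst M.hom v) (b'.left ≫ pullback.fst M.hom v) k) : j = j' := by
  refine m.eq_of_conjEq (g'⁻¹ * (k * g)) hT ((inC_iff_conjEq _ _ _ _).1 fun Y y c => ?_)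
  have h1 := hk Y y c
  rw [← L.pt j b g hb, ← L.pt j' b' g' hb'] at h1
  rw [h1, InC, InC]
  have e : (y ≫ g)⁻¹ * ((y ≫ k)⁻¹ * c * (y ≫ k)) * (y ≫ g) = (y ≫ (k * g))⁻¹ * c * (y ≫ (k * g)) := by
    rw [MonObj.comp_mul]
    group
  rw [e]

theorem isQuotAt : IsQuotAt (relM h) v L.c := by
  intro Y t ht a b
  let T : Over V := Over.mk t
  let α : T ⟶ Red.bc v M := Over.homMk (up v t ht a) (up_snd v t ht a)
  let β : T ⟶ Red.bc v M := Over.homMk (up v t ht b) (up_snd v t ht b)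
  have hα : α.left ≫ pullback.fst M.hom v = a.left := up_fst v t ht a
  have hβ : β.left ≫ pullback.fst M.hom v = b.left := up_fst v t ht b
  -- geometric points of `T`
  have key : ∀ (Z : Over S) (x : Z ⟶ Y), IsGeo Z.left → ∃ (i j : JJ D.P) (g₁ g₂ : Over.mk (x.left ≫ t) ⟶ Red.bc v G),
      ((Over.homMk x.left : Over.mk (x.left ≫ t) ⟶ T) ≫ α) ≫ L.e.hom = g₁ ≫ m.π i ≫ sigι m.X i ∧
      ((Over.homMk x.left : Over.mk (x.left ≫ t) ⟶ T) ≫ β) ≫ L.e.hom = g₂ ≫ m.π j ≫ sigι m.X j := by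
    intro Z x hZ
    obtain ⟨i, g₁, h1⟩ := exists_gj (m := m) (Z := Over.mk (x.left ≫ t)) hZ
      (((Over.homMk x.left : Over.mk (x.left ≫ t) ⟶ T) ≫ α) ≫ L.e.hom)
    obtain ⟨j, g₂, h2⟩ := exists_gj (m := m) (Z := Over.mk (x.left ≫ t)) hZ
      (((Over.homMk x.left : Over.mk (x.left ≫ t) ⟶ T) ≫ β) ≫ L.e.hom)
    exact ⟨i, j, g₁, g₂, h1, h2⟩
  constructor
  · intro hab Z x hZ
    obtain ⟨i, j, g₁, g₂, h1, h2⟩ := key Z x hZ
    have hab' : α ≫ L.c = β ≫ L.c := Over.OverMorphism.ext hab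
    have e1 := L.comp_c _ _ _ h1
    have e2 := L.comp_c _ _ _ h2
    rw [Category.assoc, hab', ← Category.assoc, e2] at e1
    obtain ⟨z⟩ := hZ.nonempty
    obtain rfl : j = i := eq_of_sigι_eq (fun _ : JJ.{u} D.P => 𝟙_ (Over V)) (T := Over.mk (x.left ≫ t)) z _ _ e1
    have h3 := L.crw h1 h2
    let Z' : Over S := (Over.map v).obj (Over.mk (x.left ≫ t))
    have hw : (x.left ≫ t) ≫ v = Z.hom := by rw [Category.assoc, ht, Over.w]
    let θ : Z ⟶ Z' := Over.homMk (𝟙 _) ((Category.id_comp _).trans hw)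
    let θ' : Z' ⟶ Z := Over.homMk (𝟙 _) ((Category.id_comp _).trans hw.symm)
    have hθ : θ ≫ θ' = 𝟙 _ := Over.OverMorphism.ext (Category.id_comp _)
    have ea : (θ' ≫ x ≫ a).left = ((Over.homMk x.left : Over.mk (x.left ≫ t) ⟶ T) ≫ α).left ≫
        pullback.fst M.hom v := by
      rw [Over.comp_left, Over.comp_left, Over.comp_left, Category.assoc, hα]
      exact Category.id_comp _
    have eb : (θ' ≫ x ≫ b).left = ((Over.homMk x.left : Over.mk (x.left ≫ t) ⟶ T) ≫ β).left ≫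
        pullback.fst M.hom v := by
      rw [Over.comp_left, Over.comp_left, Over.comp_left, Category.assoc, hβ]
      exact Category.id_comp _
    rw [← ea, ← eb, ← cr_iff] at h3
    have h4 := h3.comp θ
    rw [← Category.assoc θ θ', ← Category.assoc θ θ', hθ, Category.id_comp, Category.id_comp] at h4
    exact ⟨_, h4⟩
  · intro hab
    suffices hh : α ≫ L.c = β ≫ L.c from congrArg CommaMorphism.left hh
    refine unit_ext _ _ fun t₀ => ?_
    obtain ⟨Z₀, f, hZ, hf⟩ := exists_geo (X := Y.left) t₀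
    let Z : Over S := Over.mk (f ≫ Y.hom)
    let x : Z ⟶ Y := Over.homMk f
    obtain ⟨i, j, g₁, g₂, h1, h2⟩ := key Z x hZ
    obtain ⟨g, hg⟩ := hab Z x hZ
    let Z' : Over S := (Over.map v).obj (Over.mk (x.left ≫ t))
    have hw : (x.left ≫ t) ≫ v = Z.hom := by rw [Category.assoc, ht, Over.w]
    let θ' : Z' ⟶ Z := Over.homMk (𝟙 _) ((Category.id_comp _).trans hw.symm)
    have ea : (θ' ≫ x ≫ a).left = ((Over.homMk x.left : Over.mk (x.left ≫ t) ⟶ T) ≫ α).left ≫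
        pullback.fst M.hom v := by
      rw [Over.comp_left, Over.comp_left, Over.comp_left, Category.assoc, hα]
      exact Category.id_comp _
    have eb : (θ' ≫ x ≫ b).left = ((Over.homMk x.left : Over.mk (x.left ≫ t) ⟶ T) ≫ β).left ≫
        pullback.fst M.hom v := by
      rw [Over.comp_left, Over.comp_left, Over.comp_left, Category.assoc, hβ]
      exact Category.id_comp _
    have h3 := hg.comp θ'
    rw [← (BcPts.bcEquiv v (Over.mk (x.left ≫ t)) G).symm_apply_apply (θ' ≫ g), cr_iff, ea, eb] at h3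
    obtain ⟨z⟩ := hZ.nonempty
    obtain rfl : i = j := L.eq_of_crw (T := Over.mk (x.left ≫ t)) ⟨z⟩ h1 h2 h3
    have e1 := L.comp_c _ _ _ h1
    have e2 := L.comp_c _ _ _ h2
    refine ⟨i, ?_, ?_⟩
    · refine ⟨(toUnit (Over.mk (x.left ≫ t))).left z, ?_⟩
      rw [← Scheme.Hom.comp_apply, ← Over.comp_left, ← e1, Category.assoc, Over.comp_left, Scheme.Hom.comp_apply]
      exact congrArg _ (hf z)
    · refine ⟨(toUnit (Over.mk (x.left ≫ t))).left z, ?_⟩
      rw [← Scheme.Hom.comp_apply, ← Over.comp_left, ← e2, Category.assoc, Over.comp_left, Scheme.Hom.comp_apply]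
      exact congrArg _ (hf z)

end Loc

end K199.RCQuot
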