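import Groth.Agent.RedSub.K199.EtQuot
import Groth.Agent.RedSub.K199.GeoPt
import Groth.Agent.RedSub.H647.SubPt
import Groth.Agent.Redsub.H649.ConjLoc
import Groth.Agent.Sga3B.RepDescent8

/-!
# Geometric conjugacy of the members of a family of subgroups

`h : H ⟶ G_M` a family of subgroups of `G` parametrised by `M`.

* `CR h a b g` : the subgroup given by `a : Z ⟶ M` is carried to the one given by `b` by `int g`, `g : Z ⟶ G`;
* `relM h : ERel M` : conjugacy at all geometric points;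
* `relM_iff` : the relation in terms of `RedSub.ConjEq` and geometric fibres.
-/

set_option autoImplicit false
universe u

open CategoryTheory CategoryTheory.Limits AlgebraicGeometry Opposite MonoidalCategory CartesianMonoidalCategory
  MonObj GrpObj

namespace K199.RCRel

open Groth.Agent Groth.Agent.Sga3B Groth.Agent.Sga3B.RepDescent Groth.Agent.Sga3B.BcPts
  Groth.Agent.RedSub.H647.SubPt K199.EtQuot K199.GeoPt

variable {S : Scheme.{u}} {G : Over S} [GrpObj G] {M : Over S} {H : Over M.left} (h : H ⟶ Red.bc M.hom G)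

/-- conjugacy of the subgroups classified by `a` and `b` -/
def CR {Z : Over S} (a b : Z ⟶ M) (g : Z ⟶ G) : Prop :=
  ∀ (Y : Over S) (y : Y ⟶ Z) (c : Y ⟶ G),
    Pt h (y.left ≫ b.left) c.left ↔ Pt h (y.left ≫ a.left) ((y ≫ g)⁻¹ * c * (y ≫ g)).left

variable {h}

lemma CR.refl {Z : Over S} (a : Z ⟶ M) : CR h a a 1 := by
  intro Y y c
  have e : (y ≫ (1 : Z ⟶ G))⁻¹ * c * (y ≫ 1) = c := by
    rw [MonObj.comp_one]
    group
  rw [e]

lemma CR.symm {Z : Over S} {a b : Z ⟶ M} {g : Z ⟶ G} (H : CR h a b g) : CR h b a g⁻¹ := by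
  intro Y y c
  have e : (y ≫ g⁻¹)⁻¹ * c * (y ≫ g⁻¹) = (y ≫ g) * c * (y ≫ g)⁻¹ := by
    rw [GrpObj.comp_inv]
    group
  have e2 : (y ≫ g)⁻¹ * ((y ≫ g) * c * (y ≫ g)⁻¹) * (y ≫ g) = c := by group
  rw [e, H Y y, e2]

lemma CR.trans {Z : Over S} {a b c : Z ⟶ M} {g g' : Z ⟶ G} (H : CR h a b g) (H' : CR h b c g') :
    CR h a c (g' * g) := by
  intro Y y d
  have e : (y ≫ g)⁻¹ * ((y ≫ g')⁻¹ * d * (y ≫ g')) * (y ≫ g) = (y ≫ (g' * g))⁻¹ * d * (y ≫ (g' * g)) := by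
    rw [MonObj.comp_mul]
    group
  rw [H' Y y, H Y y, e]

lemma CR.comp {Z Z' : Over S} (f : Z' ⟶ Z) {a b : Z ⟶ M} {g : Z ⟶ G} (H : CR h a b g) :
    CR h (f ≫ a) (f ≫ b) (f ≫ g) := by
  intro Y y c
  have h1 := H Y (y ≫ f) c
  rwa [Over.comp_left, Category.assoc, Category.assoc, ← Over.comp_left, ← Over.comp_left, Category.assoc] at h1

variable (h) in
/-- conjugacy at all geometric points -/
def relM : ERel M where
  R {X} a b := ∀ (Z : Over S) (x : Z ⟶ X), IsGeo Z.left → ∃ g, CR h (x ≫ a) (x ≫ b) g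
  refl a Z x _ := ⟨1, CR.refl _⟩
  symm H Z x hZ := by
    obtain ⟨g, hg⟩ := H Z x hZ
    exact ⟨_, hg.symm⟩
  trans H H' Z x hZ := by
    obtain ⟨g, hg⟩ := H Z x hZ
    obtain ⟨g', hg'⟩ := H' Z x hZ
    exact ⟨_, hg.trans hg'⟩
  comp f a b H Z x hZ := by
    obtain ⟨g, hg⟩ := H Z (x ≫ f) hZ
    rw [Category.assoc, Category.assoc] at hg
    exact ⟨g, hg⟩
  loc {X a b} H Z x hZ := by
    obtain ⟨z⟩ := hZ.nonempty
    obtain ⟨Y, f, hf, hy, hR⟩ := H (x.left z)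
    obtain ⟨y, hy⟩ := hZ.exists_lift f.left x.left ⟨z, hy⟩
    obtain ⟨y', rfl⟩ : ∃ y' : Z ⟶ Y, y' ≫ f = x :=
      ⟨Over.homMk y (by rw [← Over.w f, ← Category.assoc, hy, Over.w x]), Over.OverMorphism.ext hy⟩
    obtain ⟨g, hg⟩ := hR Z y' hZ
    exact ⟨g, by rwa [Category.assoc, Category.assoc]⟩

/-- it is enough to look at one geometric point over each point -/
lemma rel_of_fac {X : Over S} {a b : X ⟶ M} (H : ∀ x : X.left, ∃ (Z : Over S) (k : Z ⟶ X)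
    (e : Spec (CommRingCat.of (AlgebraicClosure (X.left.residueField x))) ⟶ Z.left),
      e ≫ k.left = Red.geomPt x ∧ ∃ g, CR h (k ≫ a) (k ≫ b) g) : (relM h).R a b := by
  intro Z x hZ
  obtain ⟨x', θ, hθ⟩ := hZ.exists_fac x.left
  obtain ⟨Z', k, e, he, g, hg⟩ := H x'
  obtain ⟨θ', rfl⟩ : ∃ θ' : Z ⟶ Z', θ' ≫ k = x := by
    have h1 : (θ ≫ e) ≫ k.left = x.left := by rw [Category.assoc, he, hθ]
    exact ⟨Over.homMk (θ ≫ e) (by rw [← Over.w k, ← Category.assoc, h1, Over.w x]), Over.OverMorphism.ext h1⟩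
  exact ⟨θ' ≫ g, by
    rw [Category.assoc, Category.assoc]
    exact hg.comp θ'⟩

section bc

variable {W : Scheme.{u}} (w : W ⟶ S)

variable (h) in
/-- conjugacy of subgroups over a base change -/
def CRW {Z : Over W} (α β : Z.left ⟶ M.left) (g : Z ⟶ Red.bc w G) : Prop :=
  ∀ (Y : Over W) (y : Y ⟶ Z) (c : Y ⟶ Red.bc w G),
    Pt h (y.left ≫ β) (c.left ≫ pullback.fst G.hom w) ↔
      Pt h (y.left ≫ α) (((y ≫ g)⁻¹ * c * (y ≫ g)).left ≫ pullback.fst G.hom w)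

omit [GrpObj G] in
lemma bcEquiv_symm_left {Z : Over W} (c : Z ⟶ Red.bc w G) :
    ((bcEquiv w Z G).symm c).left = c.left ≫ pullback.fst G.hom w := by
  rw [bcEquiv, Adjunction.homEquiv_counit]
  simp only [Over.comp_left, Over.map_map_left, Over.mapPullbackAdj_counit_app, Over.homMk_left]

lemma bcEquiv_symm_conj {Z : Over W} (g c : Z ⟶ Red.bc w G) :
    (bcEquiv w Z G).symm (g⁻¹ * c * g) =
      ((bcEquiv w Z G).symm g)⁻¹ * (bcEquiv w Z G).symm c * (bcEquiv w Z G).symm g := by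
  change (bcMulEquiv w Z G).symm (g⁻¹ * c * g) = ((bcMulEquiv w Z G).symm g)⁻¹ * (bcMulEquiv w Z G).symm c *
    (bcMulEquiv w Z G).symm g
  rw [map_mul, map_mul, map_inv]

/-- comparison of `CR` and `CRW` -/
lemma cr_iff {Z : Over W} (a b : (Over.map w).obj Z ⟶ M) (g : Z ⟶ Red.bc w G) :
    CR h a b ((bcEquiv w Z G).symm g) ↔ CRW h w a.left b.left g := by
  constructor
  · intro H Y y c
    have h1 := H ((Over.map w).obj Y) ((Over.map w).map y) ((bcEquiv w Y G).symm c)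
    rw [← comp_bcEquiv_symm, ← bcEquiv_symm_conj, bcEquiv_symm_left, bcEquiv_symm_left] at h1
    exact h1
  · intro H Y y c
    have h1 := H (dn w y) (dnHom w y) (bcEquiv w (dn w y) G ((dnIso w y).hom ≫ c))
    rw [← bcEquiv_symm_left, ← bcEquiv_symm_left, bcEquiv_symm_conj, Equiv.symm_apply_apply, comp_bcEquiv_symm,
      ← dnIso_hom_comp] at h1
    have e : ((dnIso w y).hom ≫ y ≫ (bcEquiv w Z G).symm g)⁻¹ * ((dnIso w y).hom ≫ c) *
        ((dnIso w y).hom ≫ y ≫ (bcEquiv w Z G).symm g) = (dnIso w y).hom ≫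
          ((y ≫ (bcEquiv w Z G).symm g)⁻¹ * c * (y ≫ (bcEquiv w Z G).symm g)) := by
      simp only [MonObj.comp_mul, GrpObj.comp_inv]
    rw [Category.assoc, e] at h1
    have e2 : ∀ {T : Over S} (t : Y ⟶ T), ((dnIso w y).hom ≫ t).left = t.left := by
      intro T t
      exact Category.id_comp _
    rw [e2, e2] at h1
    exact h1

end bc

/-! ### The relation in terms of `RedSub.ConjEq` -/

section conjEq

variable {S' : Scheme.{u}} {f : S' ⟶ S} {H₁ H₂ : Over S'} {h₁ : H₁ ⟶ Red.bc f G} {h₂ : H₂ ⟶ Red.bc f G}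

omit [GrpObj G] in
lemma exists_iff_pt (h₂ : H₂ ⟶ Red.bc f G) {Y : Over S'} (γ : Y ⟶ Red.bc f G) :
    (∃ p : Y ⟶ H₂, p ≫ h₂ = γ) ↔ Pt h₂ Y.hom (γ.left ≫ pullback.fst G.hom f) := by
  constructor
  · rintro ⟨p, rfl⟩
    exact ⟨p.left, Over.w p, by rw [Over.comp_left, Category.assoc]⟩
  · rintro ⟨p, hp1, hp2⟩
    refine ⟨Over.homMk p hp1, Over.OverMorphism.ext ?_⟩
    apply pullback.hom_ext
    · rw [Over.comp_left, Category.assoc]
      exact hp2
    · rw [Over.comp_left, Category.assoc]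
      have h3 : γ.left ≫ pullback.snd G.hom f = Y.hom := Over.w γ
      have h4 : h₂.left ≫ pullback.snd G.hom f = H₂.hom := Over.w h₂
      rw [h3, h4]
      exact hp1

variable {g₁ g₂ : S' ⟶ M.left}

/-- `RedSub.ConjEq` and `CRW` -/
lemma conjEq_iff_crw (hs₁ : RedSub.SamePoints G f h₁ M h g₁) (hs₂ : RedSub.SamePoints G f h₂ M h g₂) {Z : Over S'}
    (g : Z ⟶ Red.bc f G) : RedSub.ConjEq h₁ h₂ g ↔ CRW h f (Z.hom ≫ g₁) (Z.hom ≫ g₂) g := by
  rw [Redsub.H649.ConjLoc.conjEq_iff]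
  refine forall_congr' fun Y => forall_congr' fun y => forall_congr' fun γ => ?_
  have e1 : (∃ p : Y ⟶ H₂, p ≫ h₂ = γ) ↔ Pt h (y.left ≫ Z.hom ≫ g₂) (γ.left ≫ pullback.fst G.hom f) := by
    rw [exists_iff_pt, ← Category.assoc, Over.w y]
    exact hs₂ _ _ _
  have e2 : Redsub.H649.ConjPts.InC h₁ (y ≫ g) γ ↔ Pt h (y.left ≫ Z.hom ≫ g₁)
      (((y ≫ g)⁻¹ * γ * (y ≫ g)).left ≫ pullback.fst G.hom f) := by
    rw [Redsub.H649.ConjPts.InC, exists_iff_pt, ← Category.assoc, Over.w y]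
    exact hs₁ _ _ _
  rw [e1, e2]
  exact Iff.comm

/-- **The relation in terms of geometric fibres.** -/
theorem rel_iff (hg₁ : g₁ ≫ M.hom = f) (hg₂ : g₂ ≫ M.hom = f) (hs₁ : RedSub.SamePoints G f h₁ M h g₁)
    (hs₂ : RedSub.SamePoints G f h₂ M h g₂) :
    (relM h).R (X := Over.mk f) (Over.homMk g₁ hg₁) (Over.homMk g₂ hg₂) ↔
      ∀ s : S', ∃ gpt : 𝟙_ _ ⟶ Red.geomFibre s (Red.bc f G),
        RedSub.ConjEq ((Over.pullback (Red.geomPt s)).map h₁) ((Over.pullback (Red.geomPt s)).map h₂) gpt := by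
  let Z : ∀ s : S', Over S' := fun s => (Over.map (Red.geomPt s)).obj (𝟙_ _)
  let k : ∀ s : S', (Over.map f).obj (Z s) ⟶ Over.mk f := fun s => Over.homMk (Z s).hom
  have key : ∀ (s : S') (gpt : 𝟙_ _ ⟶ Red.geomFibre s (Red.bc f G)),
      RedSub.ConjEq ((Over.pullback (Red.geomPt s)).map h₁) ((Over.pullback (Red.geomPt s)).map h₂) gpt ↔
        CR h (k s ≫ Over.homMk g₁ hg₁) (k s ≫ Over.homMk g₂ hg₂)
          ((bcEquiv f (Z s) G).symm ((bcEquiv (Red.geomPt s) _ (Red.bc f G)).symm gpt)) := by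
    intro s gpt
    rw [Redsub.H649.ConjLoc.conjEq_bc_iff, conjEq_iff_crw hs₁ hs₂, cr_iff]
    rfl
  constructor
  · intro H s
    obtain ⟨g, hg⟩ := H _ (k s) (isGeo_spec _)
    refine ⟨bcEquiv (Red.geomPt s) _ (Red.bc f G) (bcEquiv f (Z s) G g), ?_⟩
    rw [key, Equiv.symm_apply_apply, Equiv.symm_apply_apply]
    exact hg
  · intro H
    refine rel_of_fac fun s => ?_
    obtain ⟨gpt, hg⟩ := H s
    exact ⟨_, k s, 𝟙 _, by
      change 𝟙 _ ≫ 𝟙 _ ≫ Red.geomPt s = Red.geomPt s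
      rw [Category.id_comp, Category.id_comp], _, (key s gpt).1 hg⟩

end conjEq

end K199.RCRel
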