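import Groth.Agent.RedSub.K199.RCBc
import Groth.Agent.RedSub.H660.Classes
import Groth.Agent.Sga3B.Parab.RedCover147

/-!
# Subgroups of type (R) and of type (RC) are étale local notions

* `isTypeR_of_cover`;
* `RCProp h`: `G` reductive, `h` a closed immersion, of type (R), with closed root sets; `good_RC : Good RCProp`;
* `TRProp h`: the same without the condition on the roots; `good_TR`.
-/

set_option autoImplicit false
universe u

open CategoryTheory MonoidalCategory CartesianMonoidalCategory MonObj GrpObj AlgebraicGeometry Limits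

namespace K199.TypeRCov

open Groth.Agent Groth.Agent.Sga3B Groth.Agent.Sga3B.RedIso Groth.Agent.Sga3B.Parab.RedCover147
  Groth.Agent.Sga3B.Parab.GeomFib147 Groth.Agent.RedSub.H660.Classes

variable {S : Scheme.{u}} {G H : Over S} [GrpObj G] [GrpObj H]

/-- connected fibres descend -/
theorem hasConnectedFibres_of_cover {J : Type*} {S' : J → Scheme.{u}} (f : ∀ j, S' j ⟶ S)
    (hf : ∀ s : S, ∃ j, s ∈ Set.range (f j)) {H : Over S}
    (h : ∀ j, RedSub.HasConnectedFibres (Red.bc (f j) H)) : RedSub.HasConnectedFibres H := by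
  intro s
  obtain ⟨j, s', rfl⟩ := hf s
  have h1 : H.hom.base ⁻¹' {f j s'} = (pullback.fst H.hom (f j)) '' ((Red.bc (f j) H).hom.base ⁻¹' {s'}) := by
    ext x
    constructor
    · intro hx
      obtain ⟨z, hz1, hz2⟩ := Scheme.Pullback.exists_preimage_pullback (f := H.hom) (g := f j) x s' hx
      exact ⟨z, hz2, hz1⟩
    · rintro ⟨z, hz, rfl⟩
      have h2 : pullback.snd H.hom (f j) z = s' := hz
      change H.hom (pullback.fst H.hom (f j) z) = f j s'
      rw [← Scheme.Hom.comp_apply, pullback.condition, Scheme.Hom.comp_apply, h2]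
  rw [h1]
  exact (h j s').image _ (pullback.fst H.hom (f j)).continuous.continuousOn

/-- the geometric notion of containing a maximal torus -/
theorem isGeom_hasTorus : IsGeom fun K _ A B _ _ i =>
    ∃ (T : Over (Spec (CommRingCat.of K))) (_ : GrpObj T) (t : T ⟶ A), IsMonHom t ∧ Red.IsMaximalTorus (t ≫ i) where
  iso {K _ A A' B B' _ _ _ _ i i'} eA eB w := by
    rintro ⟨T, _, t, ht, hT⟩
    refine ⟨T, inferInstance, t ≫ (und eA).hom, inferInstance, ?_⟩
    have h1 : (t ≫ (und eA).hom) ≫ i' = (t ≫ i) ≫ (und eB).hom := by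
      rw [Category.assoc, Category.assoc]
      congr 1
    rw [h1]
    exact BorTor988.isMaximalTorus_comp_iso (t ≫ i) eB hT
  bc {K K' _ _} φ _ {A _ _ _ i} := by
    rintro ⟨T, _, t, ht, hT⟩
    refine ⟨Red.bc φ T, inferInstance, (Over.pullback φ).map t, inferInstance, ?_⟩
    rw [← Functor.map_comp]
    exact AlgBc.isMaximalTorus_bc φ hT

/-- **Subgroups of type (R) are an étale local notion** (closed subgroups). -/
theorem isTypeR_of_cover {J : Type u} {S' : J → Scheme.{u}} {f : ∀ i, S' i ⟶ S} (hf : IsEtCov f) {h : H ⟶ G}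
    (hm : IsMonHom h) (hcl : ∀ i, IsClosedImmersion ((Over.pullback (f i)).map h).left)
    (hR : ∀ i, RedSub.IsTypeR ((Over.pullback (f i)).map h)) : IsClosedImmersion h.left ∧ RedSub.IsTypeR h := by
  have h1 : IsClosedImmersion h.left := isClosedImmersion_of_cover hf hcl
  refine ⟨h1, ⟨hm, inferInstance⟩, smooth_of_cover hf fun i => (hR i).2.1, quasiCompact_of_cover hf fun i => (hR i).2.2.1,
    hasConnectedFibres_of_cover f hf.cov.surj fun i => (hR i).2.2.2.1, fun s => ?_⟩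
  obtain ⟨i, s', rfl⟩ := hf.cov.surj s
  have := hf.qf i
  exact (isGeom_hasTorus.fibre_iff (f i) s' h).1 ((hR i).2.2.2.2 s')

/-- closed subgroups of type (R) of reductive groups -/
def TRProp {S : Scheme.{u}} {H G : Over S} [GrpObj H] [GrpObj G] (h : H ⟶ G) : Prop :=
  Red.IsReductive G ∧ IsClosedImmersion h.left ∧ RedSub.IsTypeR h

/-- closed subgroups of type (RC) of reductive groups -/
def RCProp {S : Scheme.{u}} {H G : Over S} [GrpObj H] [GrpObj G] (h : H ⟶ G) : Prop :=
  Red.IsReductive G ∧ IsClosedImmersion h.left ∧ RedSub.IsTypeR h ∧ RC.IsRC h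

lemma isClosedImmersion_of_arrow {H₁ G₁ : Over S} [GrpObj H₁] [GrpObj G₁] {h : H ⟶ G} {h₁ : H₁ ⟶ G₁}
    (φ : Grp.mk H ≅ Grp.mk H₁) (ψ : Grp.mk G ≅ Grp.mk G₁) (hc : h ≫ (und ψ).hom = (und φ).hom ≫ h₁)
    (hcl : IsClosedImmersion h.left) : IsClosedImmersion h₁.left := by
  rw [RedSub.H648.TypeR.eq_of_arrow φ ψ hc, Over.comp_left, Over.comp_left]
  infer_instance

theorem good_TR : Good (fun {_ _ _} _ _ h => TRProp h) where
  isMonHom h := h.2.2.1.1
  isClosedImmersion h := h.2.1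
  of_arrow φ ψ hc h := ⟨AlgBc.isReductive_of_iso ψ h.1, isClosedImmersion_of_arrow φ ψ hc h.2.1,
    RedSub.H648.TypeR.isTypeR_of_arrow φ ψ hc h.2.2⟩
  bc f _ _ _ _ _ hG h := ⟨RedBcAny636.isReductive_bc f hG, isClosedImmersion_bc f h.2.1,
    RedSub.H648.TypeR.isTypeR_bc f hG h.2.2⟩
  loc hf _ _ _ _ _ h1 h2 := ⟨isReductive_of_cover hf fun i => (h2 i).1,
    isTypeR_of_cover hf h1 (fun i => (h2 i).2.1) fun i => (h2 i).2.2⟩

theorem good_RC : Good (fun {_ _ _} _ _ h => RCProp h) where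
  isMonHom h := h.2.2.1.1.1
  isClosedImmersion h := h.2.1
  of_arrow φ ψ hc h := ⟨AlgBc.isReductive_of_iso ψ h.1, isClosedImmersion_of_arrow φ ψ hc h.2.1,
    RedSub.H648.TypeR.isTypeR_of_arrow φ ψ hc h.2.2.1, h.2.2.2.of_arrow φ ψ hc⟩
  bc f _ _ _ _ _ hG h := ⟨RedBcAny636.isReductive_bc f hG, isClosedImmersion_bc f h.2.1,
    RedSub.H648.TypeR.isTypeR_bc f hG h.2.2.1, h.2.2.2.bc f hG h.2.2.1⟩
  loc {S J S' f} hf {H G _ _ h} h1 h2 := by
    have hG : Red.IsReductive G := isReductive_of_cover hf fun i => (h2 i).1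
    obtain ⟨h3, h4⟩ := isTypeR_of_cover hf h1 (fun i => (h2 i).2.1) fun i => (h2 i).2.2.1
    exact ⟨hG, h3, h4, RC.isRC_of_cover f hf.cov.surj hG h4 fun i => (h2 i).2.2.2⟩

end K199.TypeRCov
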