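import Groth.Agent.RedSub.K199.RCLoc
import Groth.Agent.RedSub.K199.TypeRCov
import Groth.Agent.RedSub.K199.ConjRepN
import Groth.Agent.S3960
import Groth.Agent.S3990

/-!
# Local representability of the functor of subgroups of type (RC) of a reductive group

`V ⟶ S`, `D` a splitting of `G_V`.  `Mod D`: models `q j : Q j ⟶ G_V` of the conjugacy classes of subgroups of type
(RC), their normalisers `n j` and quotients `π j : G_V ⟶ X j`.

* `exists_mod`; `Mod.exists_rep`: `∐ X j` represents the functor over `V`.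
-/

set_option autoImplicit false
universe u

open CategoryTheory CategoryTheory.Limits AlgebraicGeometry Opposite MonoidalCategory CartesianMonoidalCategory
  MonObj GrpObj

namespace K199.RCRep

open Groth.Agent Groth.Agent.Sga3B Groth.Agent.Sga3B.SplitBc264 Groth.Agent.Sga3B.Parab.ConjPt
  Groth.Agent.RedSub.H645.EtConj Groth.Agent.RedSub.H660.Classes Groth.Agent.RedSub.H660.ConjRep
  Groth.Agent.RedSub.H660.Restrict K199.RtsM K199.RCLoc K199.TypeRCov

/-- subgroups of type (RC) are closed (S5573) -/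
def ClosedStmt : Prop := ∀ {S : Scheme.{u}} {G H : Over S} [GrpObj G] [GrpObj H], Red.IsReductive G → ∀ h : H ⟶ G,
  RedSub.IsTypeR h → RC.IsRC h → IsClosedImmersion h.left

section index

variable {idx M N : Type} [AddCommGroup M] [AddCommGroup N] (P : RootPairing idx ℤ M N)

/-- the conjugacy classes of closed sets of roots -/
def JJ : Type u := ULift.{u} {c : Quotient (wSetoid P) // Closed P c.out}

/-- a representative -/
noncomputable def rep (j : JJ.{u} P) : Set idx := j.down.1.out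

lemma closed_rep (j : JJ.{u} P) : Closed P (rep P j) := j.down.2

lemma exists_wrel_rep (R : Set idx) (hR : Closed P R) : ∃ j : JJ.{u} P, Wrel P (rep P j) R := by
  let c : Quotient (wSetoid P) := Quotient.mk (wSetoid P) R
  have h1 : Wrel P c.out R := Quotient.exact (s := wSetoid P) (Quotient.out_eq c)
  have h2 : Wrel P R c.out := (wSetoid P).iseqv.symm h1
  obtain ⟨l, hl⟩ := id h2
  exact ⟨⟨⟨c, by rw [hl]; exact Closed.mv P hR l⟩⟩, h1⟩

lemma eq_of_wrel_rep {i j : JJ.{u} P} (h : Wrel P (rep P i) (rep P j)) : i = j := by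
  have h1 : Quotient.mk (wSetoid P) (rep P i) = Quotient.mk (wSetoid P) (rep P j) := Quotient.sound (s := wSetoid P) h
  have h2 : ∀ k : JJ.{u} P, Quotient.mk (wSetoid P) (rep P k) = k.down.1 := fun k => Quotient.out_eq _
  rw [h2, h2] at h1
  exact ULift.ext _ _ (Subtype.ext h1)

instance [Finite idx] : Finite (JJ.{u} P) := by
  unfold JJ
  infer_instance

instance : Nonempty (JJ.{u} P) := ⟨(exists_wrel_rep P ∅ (fun _ _ _ h => h.elim)).choose⟩

end index

lemma conj_trans {S : Scheme.{u}} {G P Q R X : Over S} [GrpObj G] {p : P ⟶ G} {q : Q ⟶ G} {r : R ⟶ G} {g g' : X ⟶ G}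
    (h : Conj p q g) (h' : Conj q r g') : Conj p r (g' * g) := by
  intro Y x y
  rw [h Y x y, h' Y x _, MonObj.comp_mul]
  have e : (x ≫ g') * ((x ≫ g) * y * (x ≫ g)⁻¹) * (x ≫ g')⁻¹ =
      (x ≫ g') * (x ≫ g) * y * ((x ≫ g') * (x ≫ g))⁻¹ := by group
  rw [e]

variable {S V : Scheme.{u}}

/-- Models of the conjugacy classes of subgroups of type (RC) of the split group `G`. -/
structure Mod {G : Over V} [GrpObj G] (D : Red.SplitRed G) where
  Q : JJ.{u} D.P → Over V
  grpQ : ∀ j, GrpObj (Q j)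
  q : ∀ j, Q j ⟶ G
  t : ∀ j, D.T ⟶ Q j
  N : JJ.{u} D.P → Over V
  grpN : ∀ j, GrpObj (N j)
  n : ∀ j, N j ⟶ G
  X : JJ.{u} D.P → Over V
  π : ∀ j, G ⟶ X j
  typeR : ∀ j, RedSub.IsTypeR (q j)
  ht : ∀ j, t j ≫ q j = D.i
  rts : ∀ j, Rts D (q j) (rep D.P j)
  norm : ∀ j, Red.IsNormalizerOf (q j) (n j)
  clN : ∀ j, IsClosedImmersion (n j).left
  smN : ∀ j, Smooth (N j).hom
  quot : ∀ j, RedSub.IsQuotient (n j) (π j)
  smX : ∀ j, Smooth (X j).hom
  qcX : ∀ j, QuasiCompact (X j).hom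
  qsX : ∀ j, QuasiSeparated (X j).hom
  qpX : ∀ j, RedSub.IsLocallyQuasiProjective (X j)

attribute [instance] Mod.grpQ Mod.grpN

theorem exists_mod {G : Over V} [GrpObj G] (D : Red.SplitRed G) : Nonempty (Mod D) := by
  choose Q gQ q t h1 h2 h3 using fun j : JJ.{u} D.P => exists_model D (rep D.P j) (closed_rep D.P j)
  choose N gN n h4 h5 h6 using fun j : JJ.{u} D.P => S3960.result D.reductive (q j) (h1 j)
  choose X π h7 h8 h9 h10 h11 using fun j : JJ.{u} D.P => S3990.result D.reductive (q j) (h1 j) (n j) (h4 j)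
  exact ⟨⟨Q, gQ, q, t, N, gN, n, X, π, h1, h2, h3, h4, h5, h6, h7, h8, h9, h10, h11⟩⟩

namespace Mod

variable {G : Over V} [GrpObj G] {D : Red.SplitRed G} (m : Mod D)

lemma isRC (j : JJ.{u} D.P) : RC.IsRC (m.q j) := (m.rts j).isRC (m.typeR j) (m.t j) (m.ht j) (closed_rep D.P j)

lemma rcProp (hcl : ClosedStmt.{u}) (j : JJ.{u} D.P) : RCProp (m.q j) :=
  ⟨D.reductive, hcl D.reductive _ (m.typeR j) (m.isRC j), m.typeR j, m.isRC j⟩

/-- every subgroup of type (RC) of a base change is étale locally conjugate to a model -/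
lemma exists_elConj {S' : Scheme.{u}} (f : S' ⟶ V) {H : Over S'} [GrpObj H] (h : H ⟶ Red.bc f G)
    (hH : RedSub.IsTypeR h) (hRC : RC.IsRC h) (s : S') : ∃ j, ELConj ((Over.pullback f).map (m.q j)) h s := by
  obtain ⟨R', hR', hloc⟩ := exists_elConj_model (splitBc f D) h hH hRC s
  obtain ⟨H₀, _, h₀, t₀, h1, h2, h3⟩ := exists_model (splitBc f D) R' hR'
  obtain ⟨j, hj⟩ := exists_wrel_rep D.P R' hR'
  obtain ⟨n, hn⟩ := conj_of_wrel (splitBc f D) (h₁ := (Over.pullback f).map (m.q j)) hj ((m.rts j).bc f) h3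
    (RedSub.H648.TypeR.isTypeR_bc f D.reductive (m.typeR j)) h1 _ (K194.Main1.bc_torus D _ (m.t j) (m.ht j) f) t₀ h2
  obtain ⟨U, p, hp, hs, g, hg⟩ := hloc h₀ t₀ h1 h2 h3
  exact ⟨j, U, p, hp, hs, g * (toUnit _ ≫ n), conj_trans (hn.comp (toUnit _)) hg⟩

/-- the models are nowhere conjugate -/
lemma eq_of_conjEq {i j : JJ.{u} D.P} {T : Over V} (c : T ⟶ G) (hT : Nonempty T.left)
    (hc : RedSub.ConjEq (m.q i) (m.q j) c) : i = j :=
  eq_of_wrel_rep D.P (wrel_of_conjEq D (m.rts i) (m.rts j) (m.typeR i) (m.typeR j) _ (m.ht i) _ (m.ht j) hT c hc)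

end Mod

section rep

variable {G : Over S} [GrpObj G] (hcl : ClosedStmt.{u}) (hG : Red.IsReductive G) (v : V ⟶ S)
  {D : Red.SplitRed (Red.bc v G)} (m : Mod D)

include hcl in
/-- **Local representability.** -/
theorem Mod.exists_rep : ∃ r : (restrict v (good_RC.toClass hG)).subsF.RepresentableBy (sig m.X),
    ∀ j, r.homEquiv (m.π j ≫ sigι m.X j) = cl (good_RC.famIn hG v fun j => m.rcProp hcl j) j :=
  ConjRepN.good_exists_representableBy good_RC hG v m.n (fun j => m.rcProp hcl j)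
    (fun f _ _ h hP s => m.exists_elConj f h hP.2.2.1 hP.2.2.2 s) m.norm
    (fun _ _ _ c hT hc => m.eq_of_conjEq c hT hc) m.X m.π m.quot m.smN (sig m.X) (sigι m.X)
    (exists_sigι m.X) fun _ _ _ a b ⟨t⟩ h => eq_of_sigι_eq m.X t a b h

end rep

end K199.RCRep
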