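import Groth.Agent.RedSub.K199.RtsM

/-!
# Roots of conjugates of subgroups of type (R)

`Acts D n w`: the point `n` of `G` acts on the torus of the splitting through the endomorphism `w` of the characters.

* `exists_acts`: every product of reflections is realised;
* `rts_conj`, `conj_of_acts`: the roots of `n H n⁻¹`.
-/

set_option autoImplicit false
universe u

open CategoryTheory MonoidalCategory CartesianMonoidalCategory MonObj GrpObj AlgebraicGeometry Limits

namespace K199.RtsConj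

open Groth.Agent Groth.Agent.Sga3B Groth.Agent.Sga3B.RedIso Groth.Agent.Sga3B.SplitIso848
  Groth.Agent.Sga3B.SplitBc264 Groth.Agent.Sga3B.Cell Groth.Agent.Sga3B.PinMod
  Groth.Agent.Sga3B.RG.BrHc Groth.Agent.RedSub.H652.CommonTorus Groth.Agent.Sga3B.Parab.ConjPt
open Groth.Agent.RedSub.H635.Uniq Groth.Agent.RedSub.H636 K199.RtsM DSPts GaPts IsoFam IsomCore IsomDefs PinMod IsomHd848

variable {S : Scheme.{u}} {G H H' : Over S} [GrpObj G]

/-- the point `n` acts on the torus of the splitting by `w` -/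
def Acts (D : Red.SplitRed G) (n : 𝟙_ (Over S) ⟶ G) (w : D.M →+ D.M) : Prop :=
  ∀ (X : Over S) (t : X ⟶ D.T), (toUnit X ≫ n) * (t ≫ D.i) * (toUnit X ≫ n)⁻¹ =
    t ≫ D.split.hom.hom.hom ≫ Red.DSmap S w ≫ D.split.inv.hom.hom ≫ D.i

variable {D : Red.SplitRed G}

lemma sp1 (D : Red.SplitRed G) : D.split.hom.hom.hom ≫ D.split.inv.hom.hom = 𝟙 _ :=
  congrArg (fun z => z.hom.hom) D.split.hom_inv_id

lemma sp2 (D : Red.SplitRed G) : D.split.inv.hom.hom ≫ D.split.hom.hom.hom = 𝟙 _ :=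
  congrArg (fun z => z.hom.hom) D.split.inv_hom_id

lemma Acts.one : Acts D 1 (AddMonoidHom.id _) := by
  intro X t
  rw [MonObj.comp_one, inv_one, _root_.mul_one, _root_.one_mul, Trans894.DSmap_id, Category.id_comp, reassoc_of% (sp1 D)]

lemma Acts.mul {n n' : 𝟙_ (Over S) ⟶ G} {w w' : D.M →+ D.M} (h : Acts D n w) (h' : Acts D n' w') :
    Acts D (n * n') (w'.comp w) := by
  intro X t
  have h1 := h' X t
  have h2 := h X (t ≫ D.split.hom.hom.hom ≫ Red.DSmap S w' ≫ D.split.inv.hom.hom)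
  rw [← Trans894.DSmap_comp]
  simp only [Category.assoc] at h2 ⊢
  rw [reassoc_of% (sp2 D), ← h1] at h2
  rw [← h2, MonObj.comp_mul]
  group

lemma Acts.inv {n : 𝟙_ (Over S) ⟶ G} (w : D.M ≃+ D.M) (h : Acts D n w.toAddMonoidHom) :
    Acts D n⁻¹ w.symm.toAddMonoidHom := by
  intro X t
  have h2 := h X (t ≫ D.split.hom.hom.hom ≫ Red.DSmap S w.symm.toAddMonoidHom ≫ D.split.inv.hom.hom)
  have h3 : Red.DSmap S w.symm.toAddMonoidHom ≫ Red.DSmap S w.toAddMonoidHom = 𝟙 _ :=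
    (Trans894.DSiso₀ S w).inv_hom_id
  simp only [Category.assoc] at h2 ⊢
  rw [reassoc_of% (sp2 D), reassoc_of% h3, reassoc_of% (sp1 D)] at h2
  rw [← h2, GrpObj.comp_inv]
  group

/-- products of reflections are realised by sections -/
theorem exists_acts (D : Red.SplitRed G) (l : List D.idx) : ∃ n : 𝟙_ (Over S) ⟶ G,
    Acts D n ((l.map fun a => D.P.reflection a).prod : D.M ≃ₗ[ℤ] D.M).toLinearMap.toAddMonoidHom := by
  induction l with
  | nil => exact ⟨1, Acts.one⟩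
  | cons a l ih =>
    obtain ⟨n, hn⟩ := ih
    obtain ⟨n', hn'⟩ := D.refl a
    refine ⟨n * n', ?_⟩
    have e : (((a :: l).map fun a => D.P.reflection a).prod : D.M ≃ₗ[ℤ] D.M).toLinearMap.toAddMonoidHom =
        (D.P.reflection a).toLinearMap.toAddMonoidHom.comp
          ((l.map fun a => D.P.reflection a).prod : D.M ≃ₗ[ℤ] D.M).toLinearMap.toAddMonoidHom := by
      rw [List.map_cons, List.prod_cons]
      rfl
    rw [e]
    exact Acts.mul hn hn'

/-- conjugates of root homomorphisms -/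
lemma isRootHom_conj {n : 𝟙_ (Over S) ⟶ G} {w : D.M →+ D.M} (h : Acts D n w) {a b : D.idx}
    (hab : D.P.root a = w (D.P.root b)) :
    Red.IsRootHom D.i (D.split.hom.hom.hom ≫ Red.chi S (D.P.root a)) (conjHom n⁻¹ (D.u b)) := by
  obtain ⟨h1, h2, h3⟩ := D.rootHom b
  refine ⟨inferInstance, ?_, fun X t x => ?_⟩
  · have e : conjHom n⁻¹ (D.u b) = D.u b ≫ (conjIso n⁻¹).hom := by
      change _ = D.u b ≫ conjHom n⁻¹ (𝟙 G)
      rw [comp_conjHom', Category.comp_id]
    rw [e, Over.comp_left]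
    infer_instance
  · obtain ⟨y, hy, hy'⟩ := h3 X (t ≫ D.split.hom.hom.hom ≫ Red.DSmap S w ≫ D.split.inv.hom.hom) x
    refine ⟨y, ?_, ?_⟩
    · rw [comp_conjHom, comp_conjHom, hy]
      have h4 := h X t
      simp only [Category.assoc] at h4 ⊢
      rw [← h4, GrpObj.comp_inv]
      group
    · rw [hy']
      congr 2
      simp only [Category.assoc]
      rw [reassoc_of% (sp2 D), RootCmp.chi_comp, hab]

/-- tangent vectors of root homomorphisms -/
lemma tg_of_rootHom {K : Type u} [Field K] (x : Spec (CommRingCat.of K) ⟶ S) {a : D.idx} {v : Red.Ga S ⟶ G}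
    (hv : Red.IsRootHom D.i (D.split.hom.hom.hom ≫ Red.chi S (D.P.root a)) v) (h : H ⟶ G)
    (hT : Tg D h a K x) : ∃ y : tB x (TrivSqZeroExt K K) ⟶ H, y ≫ h =
      gaPt (tB x (TrivSqZeroExt K K)) (fnOf x (TrivSqZeroExt.inr 1)) ≫ v := by
  have hS : Nonempty S := ⟨x (⊥ : PrimeSpectrum K)⟩
  have hred : D.P.IsReduced := SplitReduced415.isReduced D
  have hvm := hv.1
  obtain ⟨r, hr⟩ := rootUniqAt D x a (fun B _ _ y => gaPt (tB x B) (fnOf x y) ≫ v)
    (fun {B C} _ _ _ _ φ y => by rw [← Category.assoc, tMap_gaPt])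
    (fun B _ _ => by
      have h0 : fnOf x (0 : B) = 0 := fnOf_zero x
      rw [h0, gaPt_zero, MonObj.one_comp])
    (fun {B} _ _ t z => by
      obtain ⟨y, hy, hy'⟩ := hv.2.2 (tB x B) (dsEquiv (tB x B) D.M (chΓ x t) ≫ D.split.inv.hom.hom)
        (gaPt (tB x B) (fnOf x z))
      have h2 : (dsEquiv (tB x B) D.M (chΓ x t) ≫ D.split.inv.hom.hom) ≫ D.split.hom.hom.hom ≫
          Red.chi S (D.P.root a) = dsEquiv (tB x B) D.M (chΓ x t) ≫ Red.chi S (D.P.root a) := by
        rw [Category.assoc, ← Category.assoc D.split.inv.hom.hom, sp2, Category.id_comp]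
      rw [h2, gmFn_chi, gaFn_gaPt, dsChar_dsEquiv] at hy'
      have h3 : y = gaPt (tB x B) (fnOf x (TPt.ch (D.P.root a) t * z)) := by
        apply gaFn_injective
        rw [hy', gaFn_gaPt, IsomHd848.fnOf_mul]
        rfl
      have h1 : (dsEquiv (tB x B) D.M (chΓ x t) ≫ D.split.inv.hom.hom) ≫ D.i =
        dT D (dsEquiv (tB x B) D.M (chΓ x t)) := Category.assoc _ _ _
      rw [h1] at hy
      rw [← hy, h3])
  obtain ⟨y, hy⟩ := hT
  -- the endomorphism of `K[ε]` with `ε ↦ r ε`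
  let φ : TrivSqZeroExt K K →ₐ[K] TrivSqZeroExt K K := TrivSqZeroExt.map (r • LinearMap.id : K →ₗ[K] K)
  refine ⟨tMap x φ ≫ y, ?_⟩
  rw [Category.assoc, hy, ← Category.assoc, tMap_gaPt]
  have h5 : φ (TrivSqZeroExt.inr 1) = algebraMap K (TrivSqZeroExt K K) r * TrivSqZeroExt.inr 1 := by
    have h6 : algebraMap K (TrivSqZeroExt K K) r = TrivSqZeroExt.inl r := rfl
    rw [h6, TrivSqZeroExt.inl_mul_inr]
    exact TrivSqZeroExt.map_inr _ _
  rw [h5]
  exact (hr (B := TrivSqZeroExt K K) (TrivSqZeroExt.inr 1)).symm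

/-- the endomorphism of the torus -/
noncomputable def tW (D : Red.SplitRed G) (w : D.M →+ D.M) : D.T ⟶ D.T :=
  D.split.hom.hom.hom ≫ Red.DSmap S w ≫ D.split.inv.hom.hom

lemma tW_comp (w w' : D.M →+ D.M) : tW D w ≫ tW D w' = tW D (w.comp w') := by
  unfold tW
  simp only [Category.assoc]
  rw [reassoc_of% (sp2 D), ← Trans894.DSmap_comp]
  simp only [Category.assoc]

lemma tW_id : tW D (AddMonoidHom.id _) = 𝟙 _ := by
  unfold tW
  rw [Trans894.DSmap_id, Category.id_comp, sp1]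

lemma Acts.conjHom_i {n : 𝟙_ (Over S) ⟶ G} {w : D.M →+ D.M} (h : Acts D n w) : conjHom n D.i = tW D w ≫ D.i := by
  have h1 := h D.T (𝟙 _)
  rw [Category.id_comp, Category.id_comp] at h1
  unfold tW
  simp only [Category.assoc]
  exact h1

variable {n : 𝟙_ (Over S) ⟶ G} (w : D.M ≃+ D.M)

/-- a conjugate of a subgroup containing the torus contains the torus -/
lemma exists_torus (hn : Acts D n w.toAddMonoidHom) (h : H ⟶ G) (t : D.T ⟶ H) (ht : t ≫ h = D.i) :
    ∃ t' : D.T ⟶ H, t' ≫ conjHom n h = D.i := by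
  refine ⟨tW D w.symm.toAddMonoidHom ≫ t, ?_⟩
  rw [comp_conjHom', Category.assoc, ht, ← comp_conjHom', hn.conjHom_i, ← Category.assoc, tW_comp]
  have h1 : w.symm.toAddMonoidHom.comp w.toAddMonoidHom = AddMonoidHom.id _ := by
    ext x
    exact w.symm_apply_apply x
  rw [h1, tW_id, Category.id_comp]

/-- **The roots of a conjugate.** -/
theorem rts_conj (hn : Acts D n w.toAddMonoidHom) (hw : ∀ b : D.idx, ∃ a : D.idx, D.P.root a = w (D.P.root b))
    {h : H ⟶ G} {R₁ : Set D.idx} (hR : Rts D h R₁) :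
    Rts D (conjHom n h) {b | ∃ a ∈ R₁, D.P.root a = w (D.P.root b)} := by
  have comp_inv : ∀ {X : Over S} (v : X ⟶ G), conjHom n (conjHom n⁻¹ v) = v := conjHom_conjHom_inv n
  intro s b
  constructor
  · rintro ⟨K, _, x, hx, hT⟩
    obtain ⟨a, ha⟩ := hw b
    have hn' := hn.inv w
    have hb : D.P.root b = w.symm.toAddMonoidHom (D.P.root a) := by
      rw [ha]
      exact (w.symm_apply_apply _).symm
    have h1 := isRootHom_conj hn' hb
    rw [_root_.inv_inv] at h1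
    obtain ⟨y, hy⟩ := tg_of_rootHom x h1 (conjHom n h) hT
    refine ⟨a, (hR s a).1 ⟨K, inferInstance, x, hx, y, ?_⟩, ha⟩
    rw [comp_conjHom', comp_conjHom'] at hy
    have h2 := congrArg (conjHom n⁻¹) hy
    rw [conjHom_inv_conjHom, conjHom_inv_conjHom] at h2
    exact h2
  · rintro ⟨a, ha, hab⟩
    obtain ⟨K, _, x, hx, hT⟩ := (hR s a).2 ha
    obtain ⟨y, hy⟩ := tg_of_rootHom x (isRootHom_conj hn hab) h hT
    refine ⟨K, inferInstance, x, hx, y, ?_⟩
    rw [comp_conjHom', hy, comp_conjHom', comp_inv]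

variable [GrpObj H] [GrpObj H']

lemma isTypeR_conjHom (n : 𝟙_ (Over S) ⟶ G) {h : H ⟶ G} (hH : RedSub.IsTypeR h) :
    RedSub.IsTypeR (conjHom n h) :=
  RedSub.H648.TypeR.isTypeR_of_arrow (Iso.refl _) (Grp.mkIso' (conjIso n)) (by
    change h ≫ conjHom n (𝟙 G) = 𝟙 H ≫ conjHom n h
    rw [comp_conjHom', Category.comp_id, Category.id_comp]) hH

omit [GrpObj H] [GrpObj H'] in
/-- conjugacy from an isomorphism -/
lemma conj_of_iso {h : H ⟶ G} {h' : H' ⟶ G} (n : 𝟙_ (Over S) ⟶ G) (e : H ≅ H') (he : e.hom ≫ h' = conjHom n h) :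
    Conj h h' n := by
  intro X x y
  have h1 : ∀ z : X ⟶ G, (x ≫ n) * z * (x ≫ n)⁻¹ = conjHom n z := fun z => by
    rw [conjHom, toUnit_unique x (toUnit X)]
  constructor
  · rintro ⟨v, hv⟩
    refine ⟨v ≫ e.hom, ?_⟩
    rw [h1, Category.assoc, he, comp_conjHom', hv]
  · rintro ⟨v, hv⟩
    refine ⟨v ≫ e.inv, ?_⟩
    have h2 : e.inv ≫ conjHom n h = h' := by rw [← he, Iso.inv_hom_id_assoc]
    have h3 := congrArg (conjHom n⁻¹) hv
    rw [h1, conjHom_inv_conjHom, ← h2, ← Category.assoc, comp_conjHom', conjHom_inv_conjHom] at h3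
    exact h3

/-- **Subgroups whose sets of roots are conjugate under the Weyl group are conjugate.** -/
theorem conj_of_acts (hn : Acts D n w.toAddMonoidHom) (hw : ∀ b : D.idx, ∃ a : D.idx, D.P.root a = w (D.P.root b))
    {h : H ⟶ G} {h' : H' ⟶ G} {R₁ : Set D.idx} (hR : Rts D h R₁) (hR' : Rts D h' {b | ∃ a ∈ R₁, D.P.root a = w (D.P.root b)})
    (hH : RedSub.IsTypeR h) (hH' : RedSub.IsTypeR h') (t : D.T ⟶ H) (ht : t ≫ h = D.i)
    (t' : D.T ⟶ H') (ht' : t' ≫ h' = D.i) : Conj h h' n := by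
  obtain ⟨t₁, ht₁⟩ := exists_torus w hn h t ht
  obtain ⟨e, he⟩ := (rts_conj w hn hw hR).exists_iso hR' (isTypeR_conjHom n hH) hH' t₁ ht₁ t' ht'
  exact conj_of_iso n e he

end K199.RtsConj
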