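import Groth.Agent.RedSub.K199.RCRel
import Groth.Agent.RedSub.K194.QPDesc
import Groth.Agent.RedSub.H660.ConjRep

/-!
# The points of the universal subgroup in terms of local models

`exists_rep_univ`, `exists_iso`.
-/

set_option autoImplicit false
universe u

open CategoryTheory CategoryTheory.Limits AlgebraicGeometry Opposite MonoidalCategory CartesianMonoidalCategory
  MonObj GrpObj

namespace K199.UnivPts

open Groth.Agent.Redsub.H649.ConjPts (fam InC taut)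
open Groth.Agent Groth.Agent.Sga3B Groth.Agent.Sga3B.RepDescent
  Groth.Agent.RedSub.H647.SubPt Groth.Agent.RedSub.H647.SubF Groth.Agent.RedSub.H647.SubF.SubClass
  Groth.Agent.RedSub.H660.ConjRep Groth.Agent.RedSub.H660.Restrict K194.QPDesc
  K199.RCRel

variable {S : Scheme.{u}} {G : Over S} [GrpObj G] {𝒬 : SubClass G}

/-- the representation given by a universal subgroup -/
theorem exists_rep_univ {M : Over S} {H : Over M.left} [GrpObj H] {h : H ⟶ Red.bc M.hom G}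
    (hM : 𝒬.Represents M h) : ∃ r : 𝒬.subsF.RepresentableBy M, ∀ {T : Over S} (g : T ⟶ M),
      r.homEquiv g = 𝒬.subsF.map g.op (𝒬.ofSub hM.1) := by
  have key : ∀ {T : Over S} (g : T ⟶ M) {H' : Over T.left} [GrpObj H'] (h' : H' ⟶ Red.bc T.hom G)
      (hQ' : 𝒬.Q T.hom h'), 𝒬.subsF.map g.op (𝒬.ofSub hM.1) =
        𝒬.ofSub hQ' ↔ RedSub.SamePoints G T.hom h' M h g.left := by
    intro T g H' _ h' hQ'
    rw [samePoints_iff]
    exact 𝒬.map_ofSub_eq_iff g hM.1 hQ'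
  refine ⟨⟨fun {T} => Equiv.ofBijective (fun g => 𝒬.subsF.map g.op (𝒬.ofSub hM.1)) ⟨?_, ?_⟩, ?_⟩, fun _ => rfl⟩
  · intro g g' hgg
    dsimp only at hgg
    obtain ⟨H', _, h', hQ', e⟩ := 𝒬.exists_ofSub (𝒬.subsF.map g.op (𝒬.ofSub hM.1))
    obtain ⟨g₀, -, hg₀⟩ := hM.2 T.left T.hom H' h' hQ'
    have h1 := hg₀ g.left ⟨Over.w g, (key g h' hQ').1 e.symm⟩
    have h2 := hg₀ g'.left ⟨Over.w g', (key g' h' hQ').1 (hgg.symm.trans e.symm)⟩
    exact Over.OverMorphism.ext (h1.trans h2.symm)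
  · intro x
    obtain ⟨H', _, h', hQ', e⟩ := 𝒬.exists_ofSub x
    obtain ⟨g₀, ⟨h1, h2⟩, -⟩ := hM.2 T.left T.hom H' h' hQ'
    exact ⟨Over.homMk g₀ h1, ((key (Over.homMk g₀ h1) h' hQ').2 h2).trans e⟩
  · intro X X' f g
    change 𝒬.subsF.map (f ≫ g).op _ = 𝒬.subsF.map f.op (𝒬.subsF.map g.op _)
    rw [op_comp, Functor.map_comp_apply]

variable {M : Over S} {H : Over M.left} [GrpObj H] {h : H ⟶ Red.bc M.hom G} (hM : 𝒬.Represents M h)
  {V : Scheme.{u}} (v : V ⟶ S) {J : Type u} {Q : J → Over V} [∀ j, GrpObj (Q j)] {q : ∀ j, Q j ⟶ Red.bc v G}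
  (hfam : FamIn (restrict v 𝒬) Q q) {Y : Over V} (r' : (restrict v 𝒬).subsF.RepresentableBy Y)
  (κ : J → (Red.bc v G ⟶ Y)) (hr' : ∀ j, r'.homEquiv (κ j) = cl hfam j)

include hM hr' in
/-- **Local description of `M` and of the universal subgroup.** -/
theorem exists_iso : ∃ e : Red.bc v M ≅ Y, ∀ (j : J) {T : Over V} (b : T ⟶ Red.bc v M) (g : T ⟶ Red.bc v G),
    b ≫ e.hom = g ≫ κ j → ∀ (Y' : Over V) (y : Y' ⟶ T) (c : Y' ⟶ Red.bc v G),
      InC (q j) (y ≫ g) c ↔ Pt h (y.left ≫ b.left ≫ pullback.fst M.hom v) (c.left ≫ pullback.fst G.hom v) := by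
  obtain ⟨r, hr⟩ := exists_rep_univ hM
  let rV := (repBC v r).ofIso (restrIso 𝒬 v)
  refine ⟨rV.uniqueUpToIso r', ?_⟩
  intro j T b g hbg Y' y c
  let β : (Over.map v).obj T ⟶ M := (BcPts.bcEquiv v T M).symm b
  have h1 : r'.homEquiv (b ≫ (rV.uniqueUpToIso r').hom) = toR 𝒬 v (r.homEquiv β) := by
    have h4 : r'.homEquiv (rV.uniqueUpToIso r').hom = rV.homEquiv (𝟙 _) := by
      rw [Functor.RepresentableBy.uniqueUpToIso_hom]
      exact Equiv.apply_symm_apply _ _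
    rw [r'.homEquiv_comp, h4, ← rV.homEquiv_comp, Category.comp_id]
    rfl
  obtain ⟨H', _, h', hQ', hx⟩ := exists_upw 𝒬 v (r.homEquiv β)
  rw [toR_ofSub 𝒬 v hQ' hx, hbg, r'.homEquiv_comp, hr', map_cl, ofSub_eq_iff] at h1
  have h2 := hx.symm
  rw [hr, 𝒬.map_ofSub_eq_iff β hM.1 (T' := (Over.map v).obj T) hQ'] at h2
  have h3 : Pt (fam (q j) (un g)) y.left c.left ↔ InC (q j) (y ≫ g) c :=
    pt_fam_iff (q j) (un g) (Over.homMk y.left (Over.w y) : Y' ⟶ Over.mk T.hom) c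
  have hβ : β.left = b.left ≫ pullback.fst M.hom v := bcEquiv_symm_left v b
  rw [← h3, h1, pt_iff_down, h2, hβ]
  constructor
  · exact fun H => H.2
  · intro H
    refine ⟨?_, H⟩
    exact (Over.w c).trans (Over.w y).symm

end K199.UnivPts
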